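import Cfsg.Prelude.Def_Blocks
import Cfsg.Agent.Lib.Characters.Decomp
import Cfsg.Agent.Lib.Characters.Scalar

/-!
# Convolution of irreducible characters, twisting by isomorphisms, restriction to normal subgroups
-/

set_option autoImplicit false
set_option linter.style.haveILetI false
set_option linter.unusedSectionVars false
set_option linter.unusedSimpArgs false

namespace CfsgLib.CharCorr

open Cfsg
open CfsgLib.Characters
open scoped ComplexConjugate

variable {G : Type*} [Group G]

theorem irr_one_eq_charDegree (χ : IrrCharacter G) :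
    (χ : G → ℂ) 1 = (charDegree (χ : G → ℂ) : ℂ) := by
  obtain ⟨n, -, h⟩ := irr_exists_degree χ.2
  simp [charDegree, h]

theorem charDegree_irr_pos (χ : IrrCharacter G) : 0 < charDegree (χ : G → ℂ) := by
  obtain ⟨n, hn, h⟩ := irr_exists_degree χ.2
  simpa [charDegree, h] using hn

theorem charDegree_irr_dvd_card [Finite G] (χ : IrrCharacter G) :
    charDegree (χ : G → ℂ) ∣ Nat.card G := by
  obtain ⟨_, n, ρ, hρ, rfl⟩ := χ
  haveI := hρ
  have h : charDegree ρ.character = Module.finrank ℂ (Fin n → ℂ) := by simp [charDegree]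
  exact h ▸ CfsgLib.CharScalar.finrank_dvd_card ρ

theorem irr_isIntegral [Finite G] (χ : IrrCharacter G) (g : G) : IsIntegral ℤ ((χ : G → ℂ) g) := by
  obtain ⟨_, n, ρ, _, rfl⟩ := χ
  exact CfsgLib.CharScalar.isIntegral_character ρ g

/-- A class function acts on an irreducible character by a scalar under convolution. -/
theorem sum_classFn_mul_irr [Fintype G] (χ : IrrCharacter G) {φ : G → ℂ}
    (hφ : IsClassFunction G φ) (c : G) :
    ∑ y : G, φ y * (χ : G → ℂ) (y * c) =
      (∑ y : G, φ y * (χ : G → ℂ) y) / (χ : G → ℂ) 1 * (χ : G → ℂ) c := by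
  obtain ⟨_, n, ρ, hρ, rfl⟩ := χ
  haveI := hρ
  have h := congrArg (fun T : Module.End ℂ (Fin n → ℂ) => LinearMap.trace ℂ _ (T * ρ c))
    (funEnd_eq_smul ρ hφ)
  simp only [funEnd, Finset.sum_mul, smul_mul_assoc, one_mul, map_sum, map_smul,
    ← map_mul, smul_eq_mul] at h
  simpa [Representation.character] using h

/-- The generalised orthogonality relation. -/
theorem sum_irr_mul_conj [Fintype G] [DecidableEq (IrrCharacter G)] (χ ψ : IrrCharacter G)
    (c : G) : ∑ y : G, (χ : G → ℂ) (y * c) * conj ((ψ : G → ℂ) y) =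
      if χ = ψ then (Nat.card G : ℂ) / (χ : G → ℂ) 1 * (χ : G → ℂ) c else 0 := by
  have h := sum_classFn_mul_irr χ (isClassFunction_conj (irr_isClassFunction ψ)) c
  simp only [mul_comm (conj _)] at h
  rw [h]
  have h2 := classInner_irr χ ψ
  have hG : (Nat.card G : ℂ) ≠ 0 := by simp
  rw [classInner, inv_mul_eq_iff_eq_mul₀ hG] at h2
  rw [h2]
  by_cases hc : χ = ψ <;> simp [hc]

/-! ## Twisting by an isomorphism -/

variable {A : Type*} [Group A]

theorem isIrrCharacter_comp_equiv {χ : G → ℂ} (h : IsIrrCharacter G χ) (e : A ≃* G) :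
    IsIrrCharacter A (χ ∘ e) := by
  obtain ⟨n, ρ, hρ, rfl⟩ := h
  refine ⟨n, ρ.comp e.toMonoidHom, ?_, rfl⟩
  rw [CfsgLib.Characters.isIrreducible_iff] at hρ ⊢
  refine ⟨hρ.1, fun U hU => hρ.2 U fun g v hv => ?_⟩
  simpa using hU (e.symm g) v hv

/-- An irreducible character composed with an isomorphism. -/
def twistIrr (e : A ≃* G) (χ : IrrCharacter G) : IrrCharacter A :=
  ⟨(χ : G → ℂ) ∘ e, isIrrCharacter_comp_equiv χ.2 e⟩

@[simp] theorem twistIrr_apply (e : A ≃* G) (χ : IrrCharacter G) (a : A) :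
    (twistIrr e χ : A → ℂ) a = (χ : G → ℂ) (e a) := rfl

theorem classInner_comp_equiv [Fintype G] [Fintype A] (e : A ≃* G) (φ ψ : G → ℂ) :
    classInner (φ ∘ e) (ψ ∘ e) = classInner φ ψ := by
  simp only [classInner, Function.comp_apply, Nat.card_congr e.toEquiv]
  congr 1
  exact Fintype.sum_equiv e.toEquiv _ _ fun _ => rfl

/-! ## Restriction along a homomorphism -/

theorem isCharacter_comp {χ : G → ℂ} (h : IsCharacter G χ) (j : A →* G) :
    IsCharacter A (χ ∘ j) := by
  obtain ⟨n, ρ, rfl⟩ := h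
  exact ⟨n, ρ.comp j, rfl⟩

theorem isClassFunction_comp {φ : G → ℂ} (h : IsClassFunction G φ) (j : A →* G) :
    IsClassFunction A (φ ∘ j) := fun a b => by simp [h (j a) (j b)]

theorem irr_res_eq_sum [Fintype A] (χ : IrrCharacter G) (j : A →* G) :
    (χ : G → ℂ) ∘ j =
      ∑ η : IrrCharacter A, classInner ((χ : G → ℂ) ∘ j) (η : A → ℂ) • (η : A → ℂ) :=
  classFunction_eq_sum (isClassFunction_comp (irr_isClassFunction χ) j)

theorem irr_res_one [Fintype A] (χ : IrrCharacter G) (j : A →* G) :
    (χ : G → ℂ) 1 =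
      ∑ η : IrrCharacter A, classInner ((χ : G → ℂ) ∘ j) (η : A → ℂ) * (η : A → ℂ) 1 := by
  simpa using congrFun (irr_res_eq_sum χ j) 1

/-! ## Normal subgroups -/

section Normal

variable (N : Subgroup G) [hN : N.Normal]

/-- Conjugation by an element of the group, as an automorphism of a normal subgroup. -/
noncomputable def conjIrr (g : G) (θ : IrrCharacter N) : IrrCharacter N :=
  twistIrr (MulAut.conjNormal g) θ

theorem conjIrr_apply (g : G) (θ : IrrCharacter N) (n : N) :
    (conjIrr N g θ : N → ℂ) n = (θ : N → ℂ) ⟨g * n * g⁻¹, hN.conj_mem n n.2 g⟩ := by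
  rw [conjIrr, twistIrr_apply]
  congr 1

variable [Fintype G] [Fintype N]

/-- On functions of `G`-classes, a constituent of the restriction has the scalar of `χ`. -/
theorem classFn_scalar_eq (χ : IrrCharacter G) (θ : IrrCharacter N)
    (h : classInner (fun n : N => (χ : G → ℂ) n) (θ : N → ℂ) ≠ 0) {φ : G → ℂ}
    (hφ : IsClassFunction G φ) :
    (∑ y : N, φ y * (θ : N → ℂ) y) / (θ : N → ℂ) 1 =
      (∑ y : N, φ y * (χ : G → ℂ) y) / (χ : G → ℂ) 1 := by
  classical
  let ψ : G → ℂ := fun x => if x ∈ N then φ x else 0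
  have hψ : IsClassFunction G ψ := fun a b => by
    have : b * a * b⁻¹ ∈ N ↔ a ∈ N :=
      ⟨fun ha => by simpa [mul_assoc] using hN.conj_mem _ ha b⁻¹, fun ha => hN.conj_mem _ ha b⟩
    simp only [ψ, this, hφ a b]
  have hres : ∀ f : G → ℂ, ∑ y : G, ψ y * f y = ∑ y : N, φ y * f y := by
    intro f
    simp only [ψ, ite_mul, zero_mul]
    rw [← Finset.sum_filter]
    exact Finset.sum_subtype _ (by simp) (fun y => φ y * f y)
  set ω := (∑ y : N, φ y * (χ : G → ℂ) y) / (χ : G → ℂ) 1 with hω
  set lam : IrrCharacter N → ℂ := fun η => (∑ y : N, φ y * (η : N → ℂ) y) / (η : N → ℂ) 1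
  set m : IrrCharacter N → ℂ := fun η => classInner ((χ : G → ℂ) ∘ N.subtype) (η : N → ℂ)
  have key : ∑ η : IrrCharacter N, ((lam η - ω) * m η) • (η : N → ℂ) = 0 := by
    funext c
    have h1 := sum_classFn_mul_irr χ hψ (c : G)
    rw [hres, hres, ← hω] at h1
    have h2 : ∀ x : N, (χ : G → ℂ) x = ∑ η : IrrCharacter N, m η * (η : N → ℂ) x := fun x => by
      simpa [m] using congrFun (irr_res_eq_sum χ N.subtype) x
    have h3 : ∑ y : N, φ y * (χ : G → ℂ) (y * c : G) =
        ∑ η : IrrCharacter N, m η * (lam η * (η : N → ℂ) c) := by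
      simp only [← Subgroup.coe_mul, h2, Finset.mul_sum]
      rw [Finset.sum_comm]
      refine Finset.sum_congr rfl fun η _ => ?_
      have h4 := sum_classFn_mul_irr η (φ := fun y : N => φ y) (fun a b => hφ a b) c
      rw [← h4, Finset.mul_sum]
      exact Finset.sum_congr rfl fun y _ => by ring
    rw [h3, h2 c, Finset.mul_sum] at h1
    simp only [Finset.sum_apply, Pi.smul_apply, smul_eq_mul, Pi.zero_apply, sub_mul,
      Finset.sum_sub_distrib]
    rw [sub_eq_zero]
    refine Eq.trans ?_ (h1.trans ?_) <;> exact Finset.sum_congr rfl fun η _ => by ring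
  have h5 := congrArg (fun f => classInner f (θ : N → ℂ)) key
  simp only [classInner_irr_sum, Finset.mem_univ, if_true, classInner_zero_left] at h5
  exact sub_eq_zero.1 ((mul_eq_zero.1 h5).resolve_right h)

/-- The normalised average of the conjugates of `θ`. -/
noncomputable def avgConj (θ : IrrCharacter N) (n : N) : ℂ :=
  (Nat.card G : ℂ)⁻¹ * ∑ g : G, (conjIrr N g θ : N → ℂ) n / (θ : N → ℂ) 1

theorem avgConj_conj (θ : IrrCharacter N) (n : N) (a : G) :
    avgConj N θ ⟨a * n * a⁻¹, hN.conj_mem n n.2 a⟩ = avgConj N θ n := by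
  unfold avgConj
  congr 1
  refine Fintype.sum_equiv (Equiv.mulRight a) _ _ fun g => ?_
  simp only [conjIrr_apply, Equiv.coe_mulRight]
  rw [show (⟨g * (a * (n : G) * a⁻¹) * g⁻¹, hN.conj_mem _ (hN.conj_mem n n.2 a) g⟩ : N) =
    ⟨g * a * n * (g * a)⁻¹, hN.conj_mem n n.2 (g * a)⟩ from Subtype.ext (by simp [mul_assoc])]

/-- Clifford: the restriction is a multiple of the average of the conjugates of a constituent. -/
theorem res_eq_avgConj (χ : IrrCharacter G) (θ : IrrCharacter N)
    (h : classInner (fun n : N => (χ : G → ℂ) n) (θ : N → ℂ) ≠ 0) (n : N) :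
    (χ : G → ℂ) n = (χ : G → ℂ) 1 * avgConj N θ n := by
  classical
  let F : N → ℂ := fun n => (χ : G → ℂ) n / (χ : G → ℂ) 1 - avgConj N θ n
  have hF : ∀ (a : G) (n : N), F ⟨a * n * a⁻¹, hN.conj_mem n n.2 a⟩ = F n := fun a n => by
    simp only [F, avgConj_conj, irr_isClassFunction χ (n : G) a]
  let φ : G → ℂ := fun x => if hx : x ∈ N then conj (F ⟨x, hx⟩) else 0
  have hφ : IsClassFunction G φ := fun x a => by
    by_cases hx : x ∈ N
    · simp only [φ, dif_pos hx, dif_pos (hN.conj_mem x hx a)]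
      rw [hF a ⟨x, hx⟩]
    · have : a * x * a⁻¹ ∉ N := fun hc => hx (by simpa [mul_assoc] using hN.conj_mem _ hc a⁻¹)
      simp only [φ, dif_neg hx, dif_neg this]
  have h1 := classFn_scalar_eq N χ θ h hφ
  have h2 : ∑ y : N, φ y * avgConj N θ y = (∑ y : N, φ y * (θ : N → ℂ) y) / (θ : N → ℂ) 1 := by
    have hg : ∀ g : G, ∑ y : N, φ y * ((conjIrr N g θ : N → ℂ) y / (θ : N → ℂ) 1) =
        (∑ y : N, φ y * (θ : N → ℂ) y) / (θ : N → ℂ) 1 := by
      intro g
      rw [Finset.sum_div]
      refine Fintype.sum_equiv (MulAut.conjNormal g).toEquiv _ _ fun y => ?_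
      simp only [conjIrr, twistIrr_apply, MulEquiv.toEquiv_eq_coe, EquivLike.coe_coe, mul_div_assoc]
      congr 1
      rw [MulAut.conjNormal_apply]
      exact (hφ _ _).symm
    have hswap : ∀ y : N, φ y * avgConj N θ y = ∑ g : G,
        (Nat.card G : ℂ)⁻¹ * (φ y * ((conjIrr N g θ : N → ℂ) y / (θ : N → ℂ) 1)) := fun y => by
      rw [avgConj, Finset.mul_sum, Finset.mul_sum]
      exact Finset.sum_congr rfl fun g _ => by ring
    rw [Finset.sum_congr rfl fun y _ => hswap y, Finset.sum_comm]
    simp only [← Finset.mul_sum, hg, Finset.sum_const, Finset.card_univ, nsmul_eq_mul]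
    rw [Nat.card_eq_fintype_card, ← mul_assoc, inv_mul_cancel₀ (by simp), one_mul]
  have h3 : ∑ y : N, conj (F y) * F y = 0 := by
    have : ∀ y : N, conj (F y) * F y =
        φ y * (χ : G → ℂ) y / (χ : G → ℂ) 1 - φ y * avgConj N θ y := fun y => by
      simp only [φ, dif_pos y.2, Subtype.coe_eta, F]
      ring
    simp only [this, Finset.sum_sub_distrib, ← Finset.sum_div, h2, h1, sub_self]
  have h4 : F n = 0 := by
    have hre : ∑ y : N, Complex.normSq (F y) = 0 := by
      have := congrArg Complex.re h3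
      simpa [Complex.normSq_apply, Complex.mul_re] using this
    exact Complex.normSq_eq_zero.1
      ((Finset.sum_eq_zero_iff_of_nonneg fun y _ => Complex.normSq_nonneg _).1 hre n
        (Finset.mem_univ n))
  rw [sub_eq_zero, div_eq_iff (irr_one_ne_zero χ)] at h4
  rw [h4, mul_comm]

/-- The number of group elements fixing `θ`. -/
noncomputable def stabCount (θ : IrrCharacter N) : ℕ :=
  Nat.card {g : G // conjIrr N g θ = θ}

theorem classInner_avgConj (θ : IrrCharacter N) :
    classInner (avgConj N θ) (θ : N → ℂ) =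
      (stabCount N θ : ℂ) / ((Nat.card G : ℂ) * (θ : N → ℂ) 1) := by
  classical
  have : (avgConj N θ) = ∑ g : G, ((Nat.card G : ℂ)⁻¹ * ((θ : N → ℂ) 1)⁻¹) •
      (conjIrr N g θ : N → ℂ) := by
    funext n
    simp [avgConj, Finset.mul_sum, div_eq_mul_inv, mul_assoc, mul_comm, mul_left_comm]
  rw [this, classInner_sum_left]
  simp only [classInner_smul_left, classInner_irr, mul_ite, mul_one, mul_zero, ← Finset.sum_filter,
    Finset.sum_const, nsmul_eq_mul]
  rw [stabCount, Nat.card_eq_fintype_card, Nat.card_eq_fintype_card, Fintype.card_subtype]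
  field_simp

theorem stabCount_pos (θ : IrrCharacter N) : 0 < stabCount N θ := by
  have : Nonempty {g : G // conjIrr N g θ = θ} :=
    ⟨⟨1, Subtype.ext (funext fun n => by rw [conjIrr_apply]; simp)⟩⟩
  exact Nat.card_pos

theorem stabCount_dvd_card (θ : IrrCharacter N) : stabCount N θ ∣ Nat.card G := by
  classical
  let S : Subgroup G :=
    { carrier := {g | conjIrr N g θ = θ}
      one_mem' := Subtype.ext (funext fun n => by rw [conjIrr_apply]; simp)
      mul_mem' := fun {a b} ha hb => Subtype.ext (funext fun n => by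
        have h1 := congrFun (congrArg Subtype.val hb) n
        have h2 := congrFun (congrArg Subtype.val ha) ⟨b * n * b⁻¹, hN.conj_mem n n.2 b⟩
        rw [conjIrr_apply] at h1 h2 ⊢
        rw [← h1, ← h2]
        exact congrArg _ (Subtype.ext (by simp [mul_assoc])))
      inv_mem' := fun {a} ha => Subtype.ext (funext fun n => by
        have h2 := congrFun (congrArg Subtype.val ha)
          ⟨a⁻¹ * n * a, by simpa using hN.conj_mem n n.2 a⁻¹⟩
        rw [conjIrr_apply] at h2 ⊢
        simp only [mul_assoc, mul_inv_cancel_left, mul_inv_cancel, mul_one, Subtype.coe_eta] at h2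
        rw [h2]
        exact congrArg _ (Subtype.ext (by simp [mul_assoc]))) }
  exact (S.card_subgroup_dvd_card : Nat.card S ∣ Nat.card G)

/-- Multiplicity times degree of a constituent times `|G|` is degree times stabiliser count. -/
theorem mult_mul_eq (χ : IrrCharacter G) (θ : IrrCharacter N)
    (h : classInner (fun n : N => (χ : G → ℂ) n) (θ : N → ℂ) ≠ 0) :
    classInner (fun n : N => (χ : G → ℂ) n) (θ : N → ℂ) * ((Nat.card G : ℂ) * (θ : N → ℂ) 1) =
      (χ : G → ℂ) 1 * (stabCount N θ : ℂ) := by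
  have : (fun n : N => (χ : G → ℂ) n) = ((χ : G → ℂ) 1) • avgConj N θ :=
    funext fun n => by simpa using res_eq_avgConj N χ θ h n
  have hne : (Nat.card G : ℂ) * (θ : N → ℂ) 1 ≠ 0 := mul_ne_zero (by simp) (irr_one_ne_zero θ)
  rw [this, classInner_smul_left, classInner_avgConj, mul_assoc, div_mul_cancel₀ _ hne]

/-- A prime not dividing `|G|` does not divide a non-zero multiplicity. -/
theorem mult_coprime {p : ℕ} (hp : p.Prime) (hpG : ¬ p ∣ Nat.card G) (χ : IrrCharacter G)
    (θ : IrrCharacter N) {m : ℕ}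
    (hm : classInner (fun n : N => (χ : G → ℂ) n) (θ : N → ℂ) = (m : ℂ)) (h0 : m ≠ 0) :
    ¬ p ∣ m := by
  have h := mult_mul_eq N χ θ (by rw [hm]; exact_mod_cast h0)
  rw [hm, irr_one_eq_charDegree χ, irr_one_eq_charDegree θ] at h
  have h' : m * (Nat.card G * charDegree (θ : N → ℂ)) =
      charDegree (χ : G → ℂ) * stabCount N θ := by exact_mod_cast h
  intro hdvd
  rcases hp.dvd_mul.1 (h' ▸ dvd_mul_of_dvd_left hdvd _) with h1 | h1
  · exact hpG (h1.trans (charDegree_irr_dvd_card χ))
  · exact hpG (h1.trans (stabCount_dvd_card N θ))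

/-- The conjugate-averaged scalar, as a sum over a class. -/
theorem inducedCentralChar_eq (θ : IrrCharacter N) (n : N) :
    inducedCentralChar N (θ : N → ℂ) (n : G) =
      ((Subgroup.centralizer ({(n : G)} : Set G)).index : ℂ) * avgConj N θ n := by
  classical
  rw [inducedCentralChar, avgConj]
  have hs : ({h : N | IsConj (n : G) (h : G)} : Set N) =
      ↑(Finset.univ.filter fun h : N => IsConj (n : G) (h : G)) := by ext; simp
  rw [hs, finsum_mem_coe_finset]
  simp only [conjIrr_apply]
  rw [← Finset.sum_fiberwise_of_maps_to (s := (Finset.univ : Finset G))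
    (t := Finset.univ.filter fun h : N => IsConj (n : G) (h : G))
    (g := fun g => (⟨g * n * g⁻¹, hN.conj_mem n n.2 g⟩ : N))
    (fun g _ => Finset.mem_filter.2 ⟨Finset.mem_univ _, isConj_iff.2 ⟨g, rfl⟩⟩)]
  rw [Finset.mul_sum, Finset.mul_sum]
  refine Finset.sum_congr rfl fun h hh => ?_
  obtain ⟨a, ha⟩ := isConj_iff.1 (Finset.mem_filter.1 hh).2
  rw [Finset.sum_congr rfl (fun g hg => by rw [(Finset.mem_filter.1 hg).2]), Finset.sum_const,
    nsmul_eq_mul]
  have hcard : (Finset.univ.filter fun g : G =>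
      (⟨g * n * g⁻¹, hN.conj_mem n n.2 g⟩ : N) = h).card =
      Nat.card (Subgroup.centralizer ({(n : G)} : Set G)) := by
    rw [← Fintype.card_subtype, ← Nat.card_eq_fintype_card]
    refine Nat.card_congr ⟨fun g => ⟨a⁻¹ * g.1, ?_⟩, fun z => ⟨a * z.1, ?_⟩,
      fun g => by simp, fun z => by simp⟩
    · rw [Subgroup.mem_centralizer_singleton_iff]
      have h2 : g.1 * n * g.1⁻¹ = (h : G) := congrArg Subtype.val g.2
      rw [← ha, mul_inv_eq_iff_eq_mul] at h2
      rw [mul_assoc, h2]; group
    · have hz : z.1 * (n : G) = n * z.1 := Subgroup.mem_centralizer_singleton_iff.1 z.2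
      apply Subtype.ext
      show a * z.1 * n * (a * z.1)⁻¹ = (h : G)
      rw [← ha, mul_inv_rev, mul_assoc a z.1, hz]
      group
  have hG : ((Subgroup.centralizer ({(n : G)} : Set G)).index : ℂ) *
      (Nat.card (Subgroup.centralizer ({(n : G)} : Set G)) : ℂ) = (Nat.card G : ℂ) := by
    exact_mod_cast Subgroup.index_mul_card _
  have hne : (Nat.card G : ℂ) ≠ 0 := by simp
  rw [hcard]
  field_simp
  linear_combination (-((θ : N → ℂ) h / (θ : N → ℂ) 1)) * hG

theorem constituent_iff_centralChar (χ : IrrCharacter G) (θ : IrrCharacter N) :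
    classInner (fun n : N => (χ : G → ℂ) n) (θ : N → ℂ) ≠ 0 ↔
      ∀ n : N, centralChar (χ : G → ℂ) (n : G) = inducedCentralChar N (θ : N → ℂ) (n : G) := by
  constructor
  · intro h n
    rw [inducedCentralChar_eq, centralChar, res_eq_avgConj N χ θ h n]
    have := irr_one_ne_zero χ
    field_simp
  · intro h
    have hres : (fun n : N => (χ : G → ℂ) n) = ((χ : G → ℂ) 1) • avgConj N θ := funext fun n => by
      have h1 := h n
      rw [inducedCentralChar_eq, centralChar, mul_div_assoc] at h1
      have hi : ((Subgroup.centralizer ({(n : G)} : Set G)).index : ℂ) ≠ 0 :=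
        Nat.cast_ne_zero.2 Subgroup.index_ne_zero_of_finite
      have h2 := mul_left_cancel₀ hi h1
      rw [div_eq_iff (irr_one_ne_zero χ)] at h2
      simp [h2, mul_comm]
    rw [hres, classInner_smul_left, classInner_avgConj]
    refine mul_ne_zero (irr_one_ne_zero χ) (div_ne_zero ?_ (mul_ne_zero (by simp)
      (irr_one_ne_zero θ)))
    exact_mod_cast (stabCount_pos N θ).ne'

end Normal

end CfsgLib.CharCorr
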