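import Cfsg.Agent.Lib.CharCorr.PGroup
import Mathlib.GroupTheory.Solvable
import Mathlib.GroupTheory.QuotientGroup.Basic
import Mathlib.GroupTheory.Perm.Cycle.Type

/-!
# Coprime action of a solvable group: invariant characters, invariant constituents
-/

set_option autoImplicit false
set_option linter.style.haveILetI false
set_option linter.unusedSectionVars false
set_option linter.unusedSimpArgs false

namespace CfsgLib.CharCorr

open Cfsg
open CfsgLib.Characters
open scoped ComplexConjugate

universe u v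

section Plumbing

variable {G S : Type*} [Group G] [Group S]

/-- The subgroup of fixed points. -/
def fixedSub (act : S →* MulAut G) : Subgroup G where
  carrier := {x | ∀ s, act s x = x}
  one_mem' := fun s => map_one _
  mul_mem' := fun {a b} ha hb s => by rw [map_mul, ha s, hb s]
  inv_mem' := fun {a} ha s => by rw [map_inv, ha s]

theorem mem_fixedSub {act : S →* MulAut G} {x : G} : x ∈ fixedSub act ↔ ∀ s, act s x = x := Iff.rfl

theorem isFixedHom_fixedSub (act : S →* MulAut G) : IsFixedHom act (fixedSub act).subtype :=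
  ⟨Subgroup.subtype_injective _, fun s c => c.2 s, fun x hx => ⟨⟨x, hx⟩, rfl⟩⟩

/-- The restriction of an automorphism action to a stable subgroup. -/
def restrictAct (act : S →* MulAut G) (H : Subgroup G) (h : ∀ s, ∀ x ∈ H, act s x ∈ H) :
    S →* MulAut H where
  toFun s :=
    { toFun := fun x => ⟨act s x, h s x x.2⟩
      invFun := fun x => ⟨act s⁻¹ x, h s⁻¹ x x.2⟩
      left_inv := fun x => Subtype.ext (by simp)
      right_inv := fun x => Subtype.ext (by simp)
      map_mul' := fun x y => Subtype.ext (by simp) }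
  map_one' := MulEquiv.ext fun x => Subtype.ext (by simp)
  map_mul' s t := MulEquiv.ext fun x => Subtype.ext (by simp)

@[simp] theorem restrictAct_coe (act : S →* MulAut G) (H : Subgroup G)
    (h : ∀ s, ∀ x ∈ H, act s x ∈ H) (s : S) (x : H) :
    ((restrictAct act H h s x : H) : G) = act s (x : G) := rfl

/-- Conjugation by a subgroup normalising another. -/
def subgroupAct {Γ : Type*} [Group Γ] (G S : Subgroup Γ)
    (hnorm : ∀ s ∈ S, ∀ g ∈ G, s * g * s⁻¹ ∈ G) : S →* MulAut G :=
  restrictAct (MulAut.conj.comp S.subtype) G (fun s x hx => hnorm s s.2 x hx)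

theorem subgroupAct_coe {Γ : Type*} [Group Γ] (G S : Subgroup Γ)
    (hnorm : ∀ s ∈ S, ∀ g ∈ G, s * g * s⁻¹ ∈ G) (s : S) (g : G) :
    ((subgroupAct G S hnorm s g : G) : Γ) = (s : Γ) * g * (s : Γ)⁻¹ := rfl

theorem inv_subgroupAct_iff {Γ : Type*} [Group Γ] (G S : Subgroup Γ)
    (hnorm : ∀ s ∈ S, ∀ g ∈ G, s * g * s⁻¹ ∈ G) (χ : IrrCharacter G) :
    Inv (subgroupAct G S hnorm) χ ↔
      ∀ s ∈ S, ∀ g g' : G, (g' : Γ) = s * g * s⁻¹ → (χ : G → ℂ) g' = (χ : G → ℂ) g := by
  constructor
  · intro h s hs g g' hg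
    rw [show g' = subgroupAct G S hnorm ⟨s, hs⟩ g from Subtype.ext hg]
    exact h _ _
  · exact fun h s g => h s s.2 g _ rfl

theorem Inv.comp {A : Type*} [Group A] {act : S →* MulAut G} {χ : IrrCharacter G}
    (h : Inv act χ) (f : A →* S) : Inv (act.comp f) χ := fun a g => h (f a) g

theorem mult_twist {C : Type*} [Group C] [Fintype C] (j : C →* G) (e : G ≃* G) (e' : C ≃* C)
    (h : ∀ c, j (e' c) = e (j c)) (χ : IrrCharacter G) (γ : IrrCharacter C) :
    mult j (twistIrr e χ) (twistIrr e' γ) = mult j χ γ := by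
  refine mult_eq_of_classInner_eq _ _ _ ?_
  rw [← mult_spec j χ γ, ← classInner_comp_equiv e' ((χ : G → ℂ) ∘ j) (γ : C → ℂ)]
  congr 1
  funext c
  simp [h c]

theorem inv_iff_twist_eq {act : S →* MulAut G} {χ : IrrCharacter G} :
    Inv act χ ↔ ∀ s, twistIrr (act s) χ = χ :=
  ⟨fun h s => Subtype.ext (funext fun g => h s g),
    fun h s g => congrFun (congrArg Subtype.val (h s)) g⟩

end Plumbing

/-- A non-trivial finite solvable group has a non-trivial normal `p`-subgroup for some prime. -/
theorem exists_normal_pGroup {S : Type*} [Group S] [Finite S] [Nontrivial S]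
    (hS : Group.IsSolvable S) :
    ∃ (p : ℕ) (A : Subgroup S), p.Prime ∧ A.Normal ∧ IsPGroup p A ∧ A ≠ ⊥ := by
  classical
  have hex : ∃ n, derivedSeries S n = ⊥ := (Group.isSolvable_def S).1 hS
  set n := Nat.find hex with hn
  have hn0 : n ≠ 0 := by
    intro h0
    have := Nat.find_spec hex
    rw [← hn, h0, derivedSeries_zero] at this
    exact top_ne_bot this
  set T := derivedSeries S (n - 1) with hT
  have hTne : T ≠ ⊥ := Nat.find_min hex (by omega)
  have hab : ∀ a ∈ T, ∀ b ∈ T, Commute a b := by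
    intro a ha b hb
    have h : derivedSeries S n = ⊥ := Nat.find_spec hex
    rw [show n = (n - 1) + 1 by omega, derivedSeries_succ, ← hT] at h
    have := Subgroup.commutator_mem_commutator ha hb
    rw [h, Subgroup.mem_bot] at this
    exact commutatorElement_eq_one_iff_commute.1 this
  have hcard : Nat.card T ≠ 1 := fun h => hTne (Subgroup.card_eq_one.1 h)
  obtain ⟨p, hp, hpT⟩ := Nat.exists_prime_and_dvd hcard
  haveI : Fact p.Prime := ⟨hp⟩
  have hTn : T.Normal := derivedSeries_normal S (n - 1)
  let A : Subgroup S :=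
    { carrier := {x | x ∈ T ∧ x ^ p = 1}
      one_mem' := ⟨T.one_mem, one_pow _⟩
      mul_mem' := fun {a b} ha hb =>
        ⟨T.mul_mem ha.1 hb.1, by rw [(hab a ha.1 b hb.1).mul_pow, ha.2, hb.2, one_mul]⟩
      inv_mem' := fun {a} ha => ⟨T.inv_mem ha.1, by rw [inv_pow, ha.2, inv_one]⟩ }
  refine ⟨p, A, hp, ⟨fun x hx g => ⟨hTn.conj_mem x hx.1 g, by rw [conj_pow, hx.2]; group⟩⟩,
    fun x => ⟨1, Subtype.ext ?_⟩, ?_⟩
  · rw [pow_one]; exact x.2.2
  · obtain ⟨x, hx⟩ := exists_prime_orderOf_dvd_card' (G := T) p hpT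
    intro hbot
    have : (x : S) ∈ A := ⟨x.2, by
      rw [← Subgroup.coe_pow, ← hx, pow_orderOf_eq_one, Subgroup.coe_one]⟩
    rw [hbot, Subgroup.mem_bot] at this
    rw [show x = 1 from Subtype.ext this, orderOf_one] at hx
    exact hp.one_lt.ne hx

section Step

variable {G S : Type*} [Group G] [Group S] [Fintype G] [Finite S] (act : S →* MulAut G)
  (A : Subgroup S) [hA : A.Normal]

theorem fixed_stable (s : S) (x : G) (hx : x ∈ fixedSub (act.comp A.subtype)) :
    act s x ∈ fixedSub (act.comp A.subtype) := by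
  intro a
  have h := hx ⟨s⁻¹ * a * s, by simpa using hA.conj_mem a a.2 s⁻¹⟩
  simp only [MonoidHom.comp_apply, Subgroup.subtype_apply] at h ⊢
  conv_rhs => rw [← h]
  simp only [← MulAut.mul_apply, ← map_mul]
  congr 2
  group

/-- The induced action on the fixed points of a normal subgroup. -/
noncomputable def quotAct : S ⧸ A →* MulAut (fixedSub (act.comp A.subtype)) :=
  QuotientGroup.lift A (restrictAct act _ (fixed_stable act A))
    (fun a ha => MulEquiv.ext fun x => Subtype.ext (x.2 ⟨a, ha⟩))

theorem quotAct_coe (s : S) (x : fixedSub (act.comp A.subtype)) :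
    ((quotAct act A (s : S ⧸ A) x : fixedSub (act.comp A.subtype)) : G) = act s (x : G) := rfl

variable {p : ℕ} (hp : p.Prime) (hAp : IsPGroup p A) (hpG : ¬ p ∣ Nat.card G)

include hp hAp hpG

theorem twist_mult_transfer [Fintype (fixedSub (act.comp A.subtype))] (s : S)
    {χ : IrrCharacter G} {γ : IrrCharacter (fixedSub (act.comp A.subtype))}
    (h : ¬ p ∣ mult (fixedSub (act.comp A.subtype)).subtype χ γ) :
    ¬ p ∣ mult (fixedSub (act.comp A.subtype)).subtype (twistIrr (act s) χ)
      (twistIrr (quotAct act A (s : S ⧸ A)) γ) := by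
  rwa [mult_twist _ (act s) (quotAct act A (s : S ⧸ A)) (fun c => quotAct_coe act A s c)]

theorem twist_inv (s : S) {χ : IrrCharacter G} (h : Inv (act.comp A.subtype) χ) :
    Inv (act.comp A.subtype) (twistIrr (act s) χ) := by
  intro a g
  have h2 := h ⟨s * a * s⁻¹, hA.conj_mem a a.2 s⟩ (act s g)
  simp only [twistIrr_apply, MonoidHom.comp_apply, Subgroup.subtype_apply] at h2 ⊢
  rw [← h2]
  simp only [← MulAut.mul_apply, ← map_mul]
  congr 3
  group

theorem inv_of_corr [Fintype (fixedSub (act.comp A.subtype))]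
    {χ : IrrCharacter G} {γ : IrrCharacter (fixedSub (act.comp A.subtype))}
    (hχ : Inv (act.comp A.subtype) χ) (hγ : Inv (quotAct act A) γ)
    (h : ¬ p ∣ mult (fixedSub (act.comp A.subtype)).subtype χ γ) : Inv act χ := by
  rw [inv_iff_twist_eq] at hγ ⊢
  intro s
  have h2 := twist_mult_transfer act A hp hAp hpG s h
  rw [hγ] at h2
  exact mult_injective hp hAp (isFixedHom_fixedSub _) hpG (twist_inv act A hp hAp hpG s hχ) hχ h2 h

theorem inv_corr_of_inv [Fintype (fixedSub (act.comp A.subtype))]
    {χ : IrrCharacter G} {γ : IrrCharacter (fixedSub (act.comp A.subtype))} (hχ : Inv act χ)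
    (h : ¬ p ∣ mult (fixedSub (act.comp A.subtype)).subtype χ γ) : Inv (quotAct act A) γ := by
  rw [inv_iff_twist_eq]
  intro q
  induction q using QuotientGroup.induction_on with
  | H s =>
    have h2 := twist_mult_transfer act A hp hAp hpG s h
    rw [inv_iff_twist_eq.1 hχ s] at h2
    exact (existsUnique_mult hp hAp (isFixedHom_fixedSub _) hpG (hχ.comp A.subtype)).unique h2 h

/-- Invariant characters correspond to those of the fixed points. -/
theorem card_inv_step [Fintype (fixedSub (act.comp A.subtype))] :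
    Nat.card {χ : IrrCharacter G // Inv act χ} =
      Nat.card {γ : IrrCharacter (fixedSub (act.comp A.subtype)) // Inv (quotAct act A) γ} := by
  classical
  have hu := fun χ : {χ : IrrCharacter G // Inv act χ} =>
    existsUnique_mult hp hAp (isFixedHom_fixedSub (act.comp A.subtype)) hpG (χ.2.comp A.subtype)
  refine Nat.card_eq_of_bijective (fun χ => ⟨(hu χ).choose,
    inv_corr_of_inv act A hp hAp hpG χ.2 (hu χ).choose_spec.1⟩) ⟨fun χ ψ h => ?_, fun γ => ?_⟩
  · have h' : (hu χ).choose = (hu ψ).choose := congrArg Subtype.val h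
    exact Subtype.ext (mult_injective hp hAp (isFixedHom_fixedSub _) hpG (χ.2.comp A.subtype)
      (ψ.2.comp A.subtype) (h' ▸ (hu χ).choose_spec.1) (hu ψ).choose_spec.1)
  · obtain ⟨χ, hχ, hm⟩ := exists_mult hp hAp (isFixedHom_fixedSub (act.comp A.subtype)) hpG γ.1
    refine ⟨⟨χ, inv_of_corr act A hp hAp hpG hχ γ.2 hm⟩, Subtype.ext ?_⟩
    exact ((hu ⟨χ, inv_of_corr act A hp hAp hpG hχ γ.2 hm⟩).choose_spec.2 γ.1 hm).symm

/-- Invariant classes correspond to those of the fixed points. -/
theorem card_class_step [Fintype (fixedSub (act.comp A.subtype))] :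
    Nat.card {K : ConjClasses G // ∀ s g, ConjClasses.mk g = K → ConjClasses.mk (act s g) = K} =
      Nat.card {K : ConjClasses (fixedSub (act.comp A.subtype)) //
        ∀ q g, ConjClasses.mk g = K → ConjClasses.mk (quotAct act A q g) = K} := by
  classical
  have hf := isFixedHom_fixedSub (act.comp A.subtype)
  let j := (fixedSub (act.comp A.subtype)).subtype
  symm
  refine Nat.card_eq_of_bijective (fun K => ⟨ConjClasses.map j K.1, ?_⟩) ⟨?_, ?_⟩
  · intro s g hg
    obtain ⟨⟨c⟩, hK⟩ := K
    change ConjClasses.mk g = ConjClasses.mk (j c) at hg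
    change ConjClasses.mk (act s g) = ConjClasses.mk (j c)
    rw [ConjClasses.mk_eq_mk_iff_isConj] at hg ⊢
    have h2 := j.map_isConj (ConjClasses.mk_eq_mk_iff_isConj.1
      (hK (s : S ⧸ A) c rfl : ConjClasses.mk _ = ConjClasses.mk c))
    exact ((act s).toMonoidHom.map_isConj hg).trans h2
  · rintro ⟨⟨c⟩, hc⟩ ⟨⟨d⟩, hd⟩ h
    have h2 : ConjClasses.mk (j c) = ConjClasses.mk (j d) := congrArg Subtype.val h
    exact Subtype.ext (ConjClasses.mk_eq_mk_iff_isConj.2 (isConj_of_isConj_map hp hAp hf hpG
      (ConjClasses.mk_eq_mk_iff_isConj.1 h2)))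
  · rintro ⟨⟨x⟩, hx⟩
    obtain ⟨c, hc⟩ := exists_fixed_of_class hp hAp hf hpG x fun a =>
      (ConjClasses.mk_eq_mk_iff_isConj.1 (hx a.1 x rfl)).symm
    refine ⟨⟨ConjClasses.mk c, fun q g hg => ?_⟩,
      Subtype.ext (ConjClasses.mk_eq_mk_iff_isConj.2 hc.symm)⟩
    induction q using QuotientGroup.induction_on with
    | H s =>
      rw [ConjClasses.mk_eq_mk_iff_isConj] at hg ⊢
      refine isConj_of_isConj_map hp hAp hf hpG ?_
      have hgx : ConjClasses.mk (j g) = ConjClasses.mk x :=
        ConjClasses.mk_eq_mk_iff_isConj.2 ((j.map_isConj hg).trans hc.symm)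
      exact (ConjClasses.mk_eq_mk_iff_isConj.1 (hx s (j g) hgx)).trans hc

end Step

/-- An irreducible character of a normal subgroup lies under some irreducible character. -/
theorem exists_over {G : Type*} [Group G] [Finite G] (N : Subgroup G) [Fintype N]
    (θ : IrrCharacter N) : ∃ χ : IrrCharacter G, mult N.subtype χ θ ≠ 0 := by
  classical
  by_contra h
  push Not at h
  haveI : Fintype G := Fintype.ofFinite G
  have h1 : ∑ χ : IrrCharacter G, (χ : G → ℂ) 1 *
      classInner ((χ : G → ℂ) ∘ N.subtype) (θ : N → ℂ) = 0 :=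
    Finset.sum_eq_zero fun χ _ => by rw [mult_spec, h χ]; simp
  have h2 : (∑ χ : IrrCharacter G, (χ : G → ℂ) 1 • ((χ : G → ℂ) ∘ N.subtype)) =
      fun n => if n = 1 then (Nat.card G : ℂ) else 0 := by
    funext n
    simp [sum_degree_mul_irr (n : G)]
  have h3 : classInner (∑ χ : IrrCharacter G, (χ : G → ℂ) 1 • ((χ : G → ℂ) ∘ N.subtype))
      (θ : N → ℂ) = 0 := by
    rw [classInner_sum_left]
    simpa only [classInner_smul_left] using h1
  rw [h2, classInner] at h3
  simp [irr_one_ne_zero θ] at h3

/-- Coprime solvable operators fix as many characters as classes. -/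
theorem card_inv_eq_card_classes (n : ℕ) : ∀ (S : Type u) [Group S] [Finite S] (G : Type v)
    [Group G] [Finite G] (act : S →* MulAut G), Nat.card S = n → Group.IsSolvable S →
    (Nat.card G).Coprime (Nat.card S) →
    Nat.card {χ : IrrCharacter G // Inv act χ} =
      Nat.card {K : ConjClasses G // ∀ s g, ConjClasses.mk g = K → ConjClasses.mk (act s g) = K}
    := by
  induction n using Nat.strong_induction_on with
  | _ n ih =>
  intro S _ _ G _ _ act hn hsolv hcop
  classical
  have : Fintype G := Fintype.ofFinite G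
  by_cases hS : Nontrivial S
  · obtain ⟨p, A, hp, hA, hAp, hAne⟩ := exists_normal_pGroup hsolv
    haveI := hA
    haveI : Fact p.Prime := ⟨hp⟩
    have hpS : p ∣ Nat.card S := by
      obtain ⟨k, hk⟩ := IsPGroup.iff_card.1 hAp
      refine dvd_trans ?_ A.card_subgroup_dvd_card
      rcases k with _ | k
      · exact absurd (Subgroup.card_eq_one.1 (by simpa using hk)) hAne
      · exact hk ▸ dvd_pow_self p (Nat.succ_ne_zero k)
    have hpG : ¬ p ∣ Nat.card G := fun h =>
      Nat.not_coprime_of_dvd_of_dvd hp.one_lt h hpS hcop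
    rw [card_inv_step act A hp hAp hpG, card_class_step act A hp hAp hpG]
    refine ih _ ?_ (S ⧸ A) _ (quotAct act A) rfl inferInstance ?_
    · rw [← hn, Subgroup.card_eq_card_quotient_mul_card_subgroup A]
      exact lt_mul_of_one_lt_right Nat.card_pos
        ((Subgroup.one_lt_card_iff_ne_bot A).2 hAne)
    · refine (hcop.coprime_dvd_left (Subgroup.card_subgroup_dvd_card _)).coprime_dvd_right ?_
      exact Dvd.intro _ (Subgroup.card_eq_card_quotient_mul_card_subgroup A).symm
  · haveI : Subsingleton S := not_nontrivial_iff_subsingleton.1 hS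
    have h1 : ∀ χ : IrrCharacter G, Inv act χ := fun χ s g => by
      rw [Subsingleton.elim s 1, map_one]; rfl
    have h2 : ∀ K : ConjClasses G, ∀ s g, ConjClasses.mk g = K → ConjClasses.mk (act s g) = K :=
      fun K s g hg => by rw [Subsingleton.elim s 1, map_one]; exact hg
    rw [Nat.card_congr (Equiv.subtypeUnivEquiv h1), Nat.card_congr (Equiv.subtypeUnivEquiv h2)]
    exact card_irr_eq_card_conjClasses

/-- Coprime solvable operators: invariant characters lie under invariant characters. -/
theorem exists_inv_over (n : ℕ) : ∀ (S : Type u) [Group S] [Finite S] (G : Type v)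
    [Group G] [Finite G] (act : S →* MulAut G) (N : Subgroup G) [Fintype N] [N.Normal]
    (hN : ∀ s, ∀ x ∈ N, act s x ∈ N) (θ : IrrCharacter N), Nat.card S = n → Group.IsSolvable S →
    (Nat.card G).Coprime (Nat.card S) → Inv (restrictAct act N hN) θ →
    ∃ χ : IrrCharacter G, Inv act χ ∧ mult N.subtype χ θ ≠ 0 := by
  induction n using Nat.strong_induction_on with
  | _ n ih =>
  intro S _ _ G _ _ act N _ _ hN θ hn hsolv hcop hθ
  classical
  have : Fintype G := Fintype.ofFinite G
  by_cases hS : Nontrivial S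
  · obtain ⟨p, A, hp, hA, hAp, hAne⟩ := exists_normal_pGroup hsolv
    haveI := hA
    haveI : Fact p.Prime := ⟨hp⟩
    have hpS : p ∣ Nat.card S := by
      obtain ⟨k, hk⟩ := IsPGroup.iff_card.1 hAp
      refine dvd_trans ?_ A.card_subgroup_dvd_card
      rcases k with _ | k
      · exact absurd (Subgroup.card_eq_one.1 (by simpa using hk)) hAne
      · exact hk ▸ dvd_pow_self p (Nat.succ_ne_zero k)
    have hpG : ¬ p ∣ Nat.card G := fun h =>
      Nat.not_coprime_of_dvd_of_dvd hp.one_lt h hpS hcop
    have hpN : ¬ p ∣ Nat.card N := fun h => hpG (h.trans (Subgroup.card_subgroup_dvd_card N))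
    set C := fixedSub (act.comp A.subtype) with hC
    have hf := isFixedHom_fixedSub (act.comp A.subtype)
    let D : Subgroup C := N.comap C.subtype
    haveI : D.Normal := inferInstanceAs (N.comap C.subtype).Normal
    let i : D →* N := (C.subtype.comp D.subtype).codRestrict N (fun d => d.2)
    have hf' : IsFixedHom ((restrictAct act N hN).comp A.subtype) i := by
      refine ⟨fun a b h => ?_, fun a d => Subtype.ext (d.1.2 a), fun x hx => ?_⟩
      · have h' := congrArg (fun z : N => (z : G)) h
        exact Subtype.ext (Subtype.ext h')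
      · exact ⟨⟨⟨x.1, fun a => congrArg Subtype.val (hx a)⟩, x.2⟩, rfl⟩
    have hθA : Inv ((restrictAct act N hN).comp A.subtype) θ := hθ.comp A.subtype
    obtain ⟨θ', hθ', hθu⟩ := existsUnique_mult hp hAp hf' hpN hθA
    have hD : ∀ q, ∀ x ∈ D, quotAct act A q x ∈ D := by
      intro q
      induction q using QuotientGroup.induction_on with
      | H s => exact fun x hx => hN s _ hx
    have hθ'inv : Inv (restrictAct (quotAct act A) D hD) θ' := by
      rw [inv_iff_twist_eq]
      intro q
      induction q using QuotientGroup.induction_on with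
      | H s =>
        refine hθu _ ?_
        have h2 : ∀ d, i (restrictAct (quotAct act A) D hD (s : S ⧸ A) d) =
            restrictAct act N hN s (i d) := fun d => Subtype.ext rfl
        have h3 := mult_twist i (restrictAct act N hN s)
          (restrictAct (quotAct act A) D hD (s : S ⧸ A)) h2 θ θ'
        rw [inv_iff_twist_eq.1 hθ s] at h3
        show ¬ p ∣ mult i θ _
        rwa [h3]
    obtain ⟨γ, hγ, hover⟩ := ih (Nat.card (S ⧸ A)) (by
        rw [← hn, Subgroup.card_eq_card_quotient_mul_card_subgroup A]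
        exact lt_mul_of_one_lt_right Nat.card_pos ((Subgroup.one_lt_card_iff_ne_bot A).2 hAne))
      (S ⧸ A) C (quotAct act A) D hD θ' rfl inferInstance
      ((hcop.coprime_dvd_left (Subgroup.card_subgroup_dvd_card C)).coprime_dvd_right
        (Dvd.intro _ (Subgroup.card_eq_card_quotient_mul_card_subgroup A).symm)) hθ'inv
    obtain ⟨χ, hχ, hm⟩ := exists_mult hp hAp hf hpG γ
    refine ⟨χ, inv_of_corr act A hp hAp hpG hχ hγ hm, ?_⟩
    refine classInner_ne_zero_of_corr hp hAp hf hf' N.subtype D.subtype (fun d => rfl)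
      (fun a x => rfl) hpG hpN hχ hm hθA hθ' ?_
    exact mult_coprime D hp (not_dvd_card_fixed hp hAp hf hpG) γ θ' (mult_spec D.subtype γ θ') hover
  · haveI : Subsingleton S := not_nontrivial_iff_subsingleton.1 hS
    obtain ⟨χ, hχ⟩ := exists_over N θ
    exact ⟨χ, fun s g => by rw [Subsingleton.elim s 1, map_one]; rfl, hχ⟩

theorem mult_of_bijective {G C : Type*} [Group G] [Group C] [Fintype C]
    [DecidableEq (IrrCharacter C)] (j : C →* G) (hj : Function.Bijective j)
    (χ : IrrCharacter G) (γ : IrrCharacter C) :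
    mult j χ γ = if twistIrr (MulEquiv.ofBijective j hj) χ = γ then 1 else 0 := by
  refine mult_eq_of_classInner_eq _ _ _ ?_
  have h := classInner_irr (twistIrr (MulEquiv.ofBijective j hj) χ) γ
  rw [Nat.cast_ite, Nat.cast_one, Nat.cast_zero, ← h]
  rfl

end CfsgLib.CharCorr
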