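import Cfsg.Agent.Lib.CharCorr.Solvable
import Cfsg.Agent.Lib.Characters.NormalAvg
import Cfsg.Agent.Lib.Characters.ExtensionUnique
import Cfsg.Agent.Lib.Characters.LinearTwist

/-!
# Tools: averaged sums over a normal subgroup, descent to quotients, Gallagher inner products
-/

set_option autoImplicit false
set_option linter.style.haveILetI false
set_option linter.unusedSectionVars false

noncomputable section

namespace CfsgLib.CharCorrQ

open Cfsg CfsgLib.Characters CfsgLib.CharCorr CfsgLib.NormalAvg
open scoped ComplexConjugate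

universe u

/-- An irreducible character that factors through a surjection is irreducible below. -/
theorem isIrrCharacter_of_pullback {A B : Type u} [Group A] [Group B] [Finite A] {F : B → ℂ}
    (f : A →* B) (hf : Function.Surjective f) (h : IsIrrCharacter A (fun a => F (f a))) :
    IsIrrCharacter B F := by
  obtain ⟨n, ρ, hρ, hchar⟩ := h
  have hker : f.ker ≤ MonoidHom.ker ρ := by
    intro a ha
    rw [MonoidHom.mem_ker] at ha ⊢
    refine (char_eq_degree_iff ρ a).mp ?_
    have h1 : ρ.character 1 = (Module.finrank ℂ (Fin n → ℂ) : ℂ) := Representation.char_one ρ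
    rw [← h1, hchar]
    simp [ha]
  have hwd : ∀ a a', f a = f a' → ρ a = ρ a' := fun a a' e => by
    have h1 : ρ (a * a'⁻¹) = 1 := hker (by rw [MonoidHom.mem_ker, map_mul, map_inv, e, mul_inv_cancel])
    calc ρ a = ρ (a * a'⁻¹) * ρ a' := by rw [← map_mul, inv_mul_cancel_right]
      _ = ρ a' := by rw [h1, one_mul]
  let σ : Representation ℂ B (Fin n → ℂ) :=
    { toFun := fun b => ρ (Function.surjInv hf b)
      map_one' := (hwd _ 1 (by rw [Function.surjInv_eq hf, map_one])).trans (map_one ρ)
      map_mul' := fun x y => (hwd _ (Function.surjInv hf x * Function.surjInv hf y)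
        (by simp [Function.surjInv_eq hf])).trans (map_mul ρ _ _) }
  have hσ : ∀ a, σ (f a) = ρ a := fun a => hwd _ a (Function.surjInv_eq hf _)
  refine ⟨n, σ, ?_, funext fun b => ?_⟩
  · rw [isIrreducible_iff] at hρ ⊢
    refine ⟨hρ.1, fun U hU => hρ.2 U fun a v hv => ?_⟩
    rw [← hσ]
    exact hU (f a) v hv
  · obtain ⟨a, rfl⟩ := hf b
    have := congrFun hchar a
    simp only [Representation.character, hσ] at this ⊢
    exact this

/-- Inner products are unchanged by inflation. -/
theorem classInner_comp_surjective {A B : Type*} [Group A] [Group B] [Fintype A] [Fintype B]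
    (f : A →* B) (hf : Function.Surjective f) (φ ψ : B → ℂ) :
    classInner (fun a => φ (f a)) (fun a => ψ (f a)) = classInner φ ψ := by
  classical
  have hfib : ∀ b : B, (Finset.univ.filter fun a : A => f a = b).card = Nat.card f.ker := by
    intro b
    obtain ⟨a₀, rfl⟩ := hf b
    rw [← Fintype.card_subtype, ← Nat.card_eq_fintype_card]
    exact Nat.card_congr
      { toFun := fun a => ⟨a₀⁻¹ * a.1, by rw [MonoidHom.mem_ker, map_mul, map_inv, a.2, inv_mul_cancel]⟩
        invFun := fun k => ⟨a₀ * k.1, by rw [map_mul, k.2, mul_one]⟩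
        left_inv := fun a => Subtype.ext (mul_inv_cancel_left _ _)
        right_inv := fun k => Subtype.ext (inv_mul_cancel_left _ _) }
  have hcard : (Nat.card A : ℂ) = Nat.card B * Nat.card f.ker := by
    rw [← Nat.cast_mul, Subgroup.card_eq_card_quotient_mul_card_subgroup f.ker,
      Nat.card_congr (QuotientGroup.quotientKerEquivOfSurjective f hf).toEquiv]
  have hsum : ∑ a : A, φ (f a) * conj (ψ (f a)) =
      (Nat.card f.ker : ℂ) * ∑ b : B, φ b * conj (ψ b) := by
    rw [← Finset.sum_fiberwise Finset.univ f, Finset.mul_sum]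
    refine Finset.sum_congr rfl fun b _ => ?_
    rw [Finset.sum_congr rfl fun a ha => by rw [(Finset.mem_filter.mp ha).2], Finset.sum_const,
      hfib, nsmul_eq_mul]
  unfold classInner
  rw [hsum, hcard, mul_inv, mul_assoc, inv_mul_cancel_left₀]
  exact_mod_cast (Nat.card_pos (α := f.ker)).ne'

/-- The multiplicity along a composite. -/
theorem mult_comp {A B D : Type*} [Group A] [Group B] [Group D] [Fintype B] [Fintype D]
    (j : B →* A) (i : D →* B) (χ : IrrCharacter A) (θ : IrrCharacter D) :
    mult (j.comp i) χ θ = ∑ ξ : IrrCharacter B, mult j χ ξ * mult i ξ θ := by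
  refine mult_eq_of_classInner_eq _ _ _ ?_
  have h : (χ : A → ℂ) ∘ (j.comp i) =
      ∑ ξ : IrrCharacter B, (mult j χ ξ : ℂ) • ((ξ : B → ℂ) ∘ i) := by
    funext d
    have := congrFun (irr_res_eq_sum χ j) (i d)
    simp only [mult_spec, Finset.sum_apply, Pi.smul_apply, Function.comp_apply, smul_eq_mul] at this ⊢
    exact this
  rw [h, classInner_sum_left]
  push_cast
  exact Finset.sum_congr rfl fun ξ _ => by rw [classInner_smul_left, mult_spec]

theorem mult_mul_le_comp {A B D : Type*} [Group A] [Group B] [Group D] [Fintype B] [Fintype D]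
    (j : B →* A) (i : D →* B) (χ : IrrCharacter A) (ξ : IrrCharacter B) (θ : IrrCharacter D) :
    mult j χ ξ * mult i ξ θ ≤ mult (j.comp i) χ θ := by
  rw [mult_comp]
  exact Finset.single_le_sum (f := fun ξ => mult j χ ξ * mult i ξ θ) (fun _ _ => Nat.zero_le _)
    (Finset.mem_univ ξ)

/-- Some constituent exists. -/
theorem exists_mult_ne_zero {A B : Type*} [Group A] [Group B] [Fintype B] (j : B →* A)
    (χ : IrrCharacter A) : ∃ ξ : IrrCharacter B, mult j χ ξ ≠ 0 := by
  by_contra h
  push Not at h
  have := irr_res_one χ j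
  simp [mult_spec, h, irr_one_ne_zero χ] at this

/-- The degree through the multiplicities. -/
theorem charDegree_eq_sum {A B : Type*} [Group A] [Group B] [Fintype B] (j : B →* A)
    (χ : IrrCharacter A) : charDegree (χ : A → ℂ) =
      ∑ ξ : IrrCharacter B, mult j χ ξ * charDegree (ξ : B → ℂ) := by
  have := irr_res_one χ j
  simp only [mult_spec, irr_one_eq_charDegree] at this
  exact_mod_cast this

/-- Inner products on `Q` seen inside an intermediate subgroup. -/
theorem classInner_subgroupOf {A : Type*} [Group A] {N T : Subgroup A} [Fintype N]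
    [Fintype (N.subgroupOf T)] (h : N ≤ T) (f g : T → ℂ) :
    classInner (fun n : N.subgroupOf T => f n) (fun n : N.subgroupOf T => g n) =
      classInner (fun n : N => f (Subgroup.inclusion h n)) (fun n : N => g (Subgroup.inclusion h n)) := by
  rw [← classInner_comp_equiv (Subgroup.subgroupOfEquivOfLe h)
    (fun n : N => f (Subgroup.inclusion h n)) (fun n : N => g (Subgroup.inclusion h n))]
  rfl

section Gallagher

variable {A : Type u} [Group A] [Fintype A] (N : Subgroup A) [N.Normal] [Fintype N]
  {χ : A → ℂ} (hχ : IsCharacter A χ) (hχN : IsIrrCharacter N (fun n : N => χ n))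

include hχ hχN in
/-- The quotient by an extension determines the character. -/
theorem mul_pairAvg_eq {ψ : A → ℂ} (hψ : IsIrrCharacter A ψ)
    (h : classInner (fun n : N => ψ n) (fun n : N => χ n) ≠ 0) :
    χ * pairAvg N ψ χ = ψ := by
  classical
  set η := pairAvg N ψ χ with hη
  have hirr : IsIrrCharacter A η := isIrrCharacter_pairAvg N hψ hχ hχN h
  have hcon : ∀ (n : N) (g : A), η ((n : A) * g) = η g := fun n g => avgN_mul_left N _ n g
  have e1 : classInner η η = classInner ψ (χ * η) := by
    conv_lhs => arg 1; rw [hη, pairAvg]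
    rw [classInner_avgN_left N _ hcon]
    unfold Cfsg.classInner
    congr 1
    exact Finset.sum_congr rfl fun g _ => by simp [mul_assoc]
  have e2 : classInner (χ * η) (χ * η) = classInner η η := by
    have hcon2 : ∀ (n : N) (g : A),
        (fun g => η g * conj (η g)) ((n : A) * g) = (fun g => η g * conj (η g)) g := fun n g => by
      simp only [hcon]
    have := classInner_avgN_left N (fun g => χ g * conj (χ g))
      (f := fun g => η g * conj (η g)) hcon2
    rw [show avgN N (fun g => χ g * conj (χ g)) = fun _ => 1 from pairAvg_self N hχ hχN] at this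
    unfold Cfsg.classInner at this ⊢
    refine Eq.trans ?_ (this.symm.trans ?_)
    · congr 1
      exact Finset.sum_congr rfl fun g _ => by simp; ring
    · congr 1
      exact Finset.sum_congr rfl fun g _ => by simp; ring
  rw [classInner_irr_self hirr] at e1 e2
  have hprod : IsIrrCharacter A (χ * η) :=
    (isIrrCharacter_iff_classInner_self (isCharacter_mul hχ (isCharacter_of_irr hirr))).mpr e2
  by_contra hne
  rw [classInner_irr_ne hψ hprod (Ne.symm hne)] at e1
  exact one_ne_zero e1

include hχ hχN in
theorem classInner_pairAvg {ψ ψ' : IrrCharacter A}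
    (h : classInner (fun n : N => (ψ : A → ℂ) n) (fun n : N => χ n) ≠ 0)
    (h' : classInner (fun n : N => (ψ' : A → ℂ) n) (fun n : N => χ n) ≠ 0) :
    pairAvg N (ψ : A → ℂ) χ = pairAvg N (ψ' : A → ℂ) χ → ψ = ψ' := fun he =>
  Subtype.ext (by rw [← mul_pairAvg_eq N hχ hχN ψ.2 h, ← mul_pairAvg_eq N hχ hχN ψ'.2 h', he])

include hχ hχN in
/-- Distinct characters over the extension have orthogonal quotients. -/
theorem classInner_pairAvg_eq [DecidableEq (IrrCharacter A)] {ψ ψ' : IrrCharacter A}
    (h' : classInner (fun n : N => (ψ' : A → ℂ) n) (fun n : N => χ n) ≠ 0) :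
    classInner (pairAvg N (ψ : A → ℂ) χ) (pairAvg N (ψ' : A → ℂ) χ) = if ψ = ψ' then 1 else 0 := by
  by_cases h : classInner (fun n : N => (ψ : A → ℂ) n) (fun n : N => χ n) = 0
  · rw [pairAvg_eq_zero N (irr_isCharacter ψ) hχ h, if_neg (fun he : ψ = ψ' => h' (by subst he; exact h))]
    simp [classInner]
  · have i1 := isIrrCharacter_pairAvg N ψ.2 hχ hχN h
    split_ifs with he
    · subst he
      exact classInner_irr_self i1
    · exact classInner_irr_ne i1 (isIrrCharacter_pairAvg N ψ'.2 hχ hχN h')
        (fun e => he (classInner_pairAvg N hχ hχN h h' e))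

end Gallagher

end CfsgLib.CharCorrQ
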