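import Cfsg.Agent.Lib.CharCorr.InvariantLayer
import Cfsg.Agent.Lib.CharCorr.QuotientTools
import Cfsg.Agent.Lib.Characters.Extension
import Cfsg.Agent.Lib.BlockCover.CentralDefectBlock

/-!
# Invariant characters over a central subgroup; reduction of an invariant character to that case
-/

set_option autoImplicit false
set_option linter.style.haveILetI false
set_option linter.unusedSectionVars false
open Cfsg CfsgLib.Characters CfsgLib.CharCorr
open scoped ComplexConjugate

namespace CfsgLib.CoprimeFixed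

universe u

theorem dvd_pow_of_dvd_pow_succ {d n k : ℕ} (hd : d ∣ n ^ (k + 1)) (hn : n ≠ 0) (hdk : d ≤ k) :
    d ∣ n ^ k := by
  have hd0 : d ≠ 0 := fun h => pow_ne_zero (k + 1) hn (Nat.eq_zero_of_zero_dvd (h ▸ hd))
  rw [← Nat.factorization_le_iff_dvd hd0 (pow_ne_zero _ hn)]
  have h1 := (Nat.factorization_le_iff_dvd hd0 (pow_ne_zero _ hn)).2 hd
  intro q
  have h2 := h1 q
  simp only [Nat.factorization_pow, Finsupp.smul_apply, smul_eq_mul] at h2 ⊢
  rcases Nat.eq_zero_or_pos (n.factorization q) with h0 | h0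
  · simpa [h0] using h2
  · exact ((Nat.factorization_lt q hd0).le.trans hdk).trans (Nat.le_mul_of_pos_right k h0)

/-- A character over a linear character of a central subgroup is scalar there. -/
theorem central_of_constituent {G : Type u} [Group G] [Fintype G] (Z : Subgroup G) [Fintype Z]
    (hZ : Z ≤ Subgroup.center G) (f : Z →* ℂˣ) (χ : IrrCharacter G)
    (h : classInner (fun z : Z => (χ : G → ℂ) z) (fun z : Z => (f z : ℂ)) ≠ 0) (z : Z) (g : G) :
    (χ : G → ℂ) ((z : G) * g) = (f z : ℂ) * (χ : G → ℂ) g := by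
  classical
  have h1 := irr_one_ne_zero χ
  let w : Z → ℂ := fun z => (χ : G → ℂ) z / (χ : G → ℂ) 1
  have hw : ∀ a b : Z, w (a * b) = w a * w b := fun a b => by
    simp only [w, Subgroup.coe_mul]
    rw [CfsgLib.CentralDefect.apply_central_mul χ (hZ a.2)]
    ring
  have hw1 : w 1 = 1 := by simp [w, h1]
  let μ : Z →* ℂˣ := MonoidHom.toHomUnits
    { toFun := w, map_one' := hw1, map_mul' := hw }
  have hμ : ∀ a : Z, (μ a : ℂ) = w a := fun a => rfl
  have he : (fun z : Z => (μ z : ℂ)) = fun z : Z => (f z : ℂ) := by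
    by_contra hne
    apply h
    have h2 := classInner_irr_ne (isIrrCharacter_of_hom μ) (isIrrCharacter_of_hom f) hne
    rw [show (fun z : Z => (χ : G → ℂ) z) = (χ : G → ℂ) 1 • fun z : Z => (μ z : ℂ) by
      funext a; simp [hμ, w, mul_div_cancel₀ _ h1], classInner_smul_left, h2, mul_zero]
  rw [CfsgLib.CentralDefect.apply_central_mul χ (hZ z.2), ← congrFun he z, hμ]

variable {Γ : Type u} [Group Γ] [Fintype Γ]

/-- An invariant character over a linear character of a central subgroup. -/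
theorem exists_inv_central (G Z : Subgroup Γ) [hG : G.Normal] [Fintype G] [(Z.subgroupOf G).Normal]
    (hZG : Z ≤ G)
    (hZ : Z ≤ Subgroup.center Γ) (hcop : G.index.Coprime (Z.relIndex G))
    (hsolv : Group.IsSolvable (Γ ⧸ G) ∨ Group.IsSolvable (G ⧸ Z.subgroupOf G)) (lam : Z →* ℂˣ) :
    ∃ η : IrrCharacter G,
      (∀ (z : Z) (g : G), (η : G → ℂ) (⟨(z : Γ), hZG z.2⟩ * g) = (lam z : ℂ) * (η : G → ℂ) g) ∧
      ∀ (x : Γ) (g : G), (η : G → ℂ) ⟨x * g * x⁻¹, hG.conj_mem g g.2 x⟩ = (η : G → ℂ) g := by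
  classical
  haveI : Z.Normal := ⟨fun z hz g => by
    rwa [Subgroup.mem_center_iff.1 (hZ hz) g, mul_inv_cancel_right]⟩
  set π := QuotientGroup.mk' Z with hπ
  have hπs : Function.Surjective π := QuotientGroup.mk'_surjective Z
  set Gb := G.map π with hGb
  haveI : Gb.Normal := Subgroup.Normal.map inferInstance π hπs
  have hidx : Gb.index = G.index := by
    rw [hGb, Subgroup.index_map_eq _ hπs (by rwa [hπ, QuotientGroup.ker_mk'])]
  have hcard : Nat.card Gb = Z.relIndex G := by
    rw [hGb, ← Subgroup.relIndex_bot_left (G.map π),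
      show (⊥ : Subgroup (Γ ⧸ Z)) = Z.map π from (QuotientGroup.map_mk'_self Z).symm,
      Subgroup.relIndex_map_map, hπ, QuotientGroup.ker_mk', sup_idem, sup_eq_left.2 hZG]
  obtain ⟨C, hC⟩ := Subgroup.exists_right_complement'_of_coprime (N := Gb)
    (by rw [hcard, hidx]; exact hcop.symm)
  have hCcard : Nat.card C = G.index := by rw [← hidx]; exact hC.symm.index_eq_card.symm
  let conjG : Γ ⧸ Z →* MulAut G := QuotientGroup.lift Z MulAut.conjNormal fun z hz =>
    MonoidHom.mem_ker.2 (MulEquiv.ext fun g => Subtype.ext (by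
      rw [MulAut.conjNormal_apply]
      simp [← Subgroup.mem_center_iff.1 (hZ hz) g]))
  let act : C →* MulAut G := conjG.comp C.subtype
  have hZfix : ∀ (a : Γ ⧸ Z) (g : G), (g : Γ) ∈ Z → conjG a g = g := by
    intro a g hg
    obtain ⟨x, rfl⟩ := hπs a
    refine Subtype.ext ?_
    show ((MulAut.conjNormal x g : G) : Γ) = _
    rw [MulAut.conjNormal_apply, Subgroup.mem_center_iff.1 (hZ hg) x, mul_inv_cancel_right]
  set Z' := Z.subgroupOf G with hZ'
  haveI : Fintype Z' := Fintype.ofFinite _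
  have hZ'c : Z' ≤ Subgroup.center G := fun z hz => Subgroup.mem_center_iff.2 fun g =>
    Subtype.ext (Subgroup.mem_center_iff.1 (hZ hz) g)
  let lam' : Z' →* ℂˣ := lam.comp (Subgroup.subgroupOfEquivOfLe hZG).toMonoidHom
  haveI : Fintype C := Fintype.ofFinite _
  suffices H : ∃ η : IrrCharacter G,
      (∀ (z : Z') (g : G), (η : G → ℂ) ((z : G) * g) = (lam' z : ℂ) * (η : G → ℂ) g) ∧ Inv act η by
    obtain ⟨η, hη, hinv⟩ := H
    refine ⟨η, fun z g => hη ⟨⟨z, hZG z.2⟩, z.2⟩ g, fun x g => ?_⟩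
    obtain ⟨⟨a, c⟩, hac⟩ := (show Function.Bijective _ from hC).2 (π x)
    obtain ⟨g₀, hg₀, hga⟩ := a.2
    have h1 : (⟨x * g * x⁻¹, hG.conj_mem g g.2 x⟩ : G) = conjG (π x) g :=
      Subtype.ext (MulAut.conjNormal_apply x g).symm
    rw [h1, ← hac, map_mul conjG, MulAut.mul_apply, ← hga, ← hinv c g]
    show (η : G → ℂ) (MulAut.conjNormal g₀ (act c g)) = _
    rw [← irr_isClassFunction η (act c g) ⟨g₀, hg₀⟩]
    exact congrArg _ (Subtype.ext (MulAut.conjNormal_apply g₀ (act c g)))
  rcases hsolv with hs | hs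
  swap
  · -- the quotient is solvable
    have hN : ∀ a, ∀ z ∈ Z', act a z ∈ Z' := fun a z hz => by
      rw [show act a z = z from hZfix _ z hz]; exact hz
    obtain ⟨η, hη, hinv⟩ := exists_inv_over_solvable _ act Z' hN ⊥ rfl
      (by rw [Subgroup.index_bot, hCcard]; exact hcop.symm) hs
      (fun b hb => ⟨1, Z'.one_mem, fun g => by rw [Subgroup.mem_bot.1 hb, map_one]; simp⟩)
      ⟨_, isIrrCharacter_of_hom lam'⟩
      (fun a z => congrArg (fun t : Z' => (lam' t : ℂ)) (Subtype.ext (hZfix _ (z : G) z.2)))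
    exact ⟨η, central_of_constituent Z' hZ'c lam' η hη, hinv⟩
  -- the operators are solvable
  have hCs : Group.IsSolvable C := by
    haveI : Group.IsSolvable ((Γ ⧸ Z) ⧸ Gb) := by
      haveI := hs
      refine Group.isSolvable_of_surjective
        (f := QuotientGroup.lift G ((QuotientGroup.mk' Gb).comp π) fun g hg => ?_)
        (fun y => by
          obtain ⟨z, rfl⟩ := QuotientGroup.mk'_surjective Gb y
          obtain ⟨x, rfl⟩ := hπs z
          exact ⟨QuotientGroup.mk x, rfl⟩)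
      exact (QuotientGroup.eq_one_iff (π g)).2 ⟨g, hg, rfl⟩
    refine Group.isSolvable_of_isSolvable_injective (f := (QuotientGroup.mk' Gb).comp C.subtype) ?_
    rw [injective_iff_map_eq_one]
    intro c hc
    have h1 : (c : Γ ⧸ Z) ∈ Gb ⊓ C := ⟨(QuotientGroup.eq_one_iff _).1 hc, c.2⟩
    rw [hC.disjoint.eq_bot, Subgroup.mem_bot] at h1
    exact Subtype.ext h1
  set n := G.index with hn
  have hn0 : n ≠ 0 := Subgroup.index_ne_zero_of_finite
  set k := Nat.card G with hk
  let P : Subgroup G :=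
    { carrier := {z | z ∈ Z' ∧ z ^ n ^ k = 1}
      one_mem' := ⟨Z'.one_mem, one_pow _⟩
      mul_mem' := fun {a b} ha hb => ⟨Z'.mul_mem ha.1 hb.1, by
        rw [(show Commute a b from (Subgroup.mem_center_iff.1 (hZ'c ha.1) b).symm).mul_pow, ha.2, hb.2,
          one_mul]⟩
      inv_mem' := fun {a} ha => ⟨Z'.inv_mem ha.1, by rw [inv_pow, ha.2, inv_one]⟩ }
  have hPZ : P ≤ Z' := fun z hz => hz.1
  haveI : P.Normal := ⟨fun z hz g => by
    rwa [Subgroup.mem_center_iff.1 (hZ'c hz.1) g, mul_inv_cancel_right]⟩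
  have hPcop : P.index.Coprime n := by
    refine Nat.coprime_of_dvd fun q hq hq1 hq2 => ?_
    rw [← Subgroup.relIndex_mul_index hPZ] at hq1
    rcases hq.dvd_mul.1 hq1 with h | h
    · haveI := Fact.mk hq
      haveI : (P.subgroupOf Z').Normal := Subgroup.Normal.subgroupOf inferInstance _
      rw [Subgroup.relIndex, Subgroup.index_eq_card] at h
      obtain ⟨y, hy⟩ := exists_prime_orderOf_dvd_card' q h
      obtain ⟨z, rfl⟩ := QuotientGroup.mk'_surjective _ y
      have h1 : (z : G) ^ q ∈ P := by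
        have h1 := pow_orderOf_eq_one (QuotientGroup.mk' (P.subgroupOf Z') z)
        rw [hy, ← map_pow, QuotientGroup.mk'_apply, QuotientGroup.eq_one_iff,
          Subgroup.mem_subgroupOf] at h1
        simpa using h1
      have h2 : orderOf (z : G) ∣ n ^ (k + 1) := by
        refine (orderOf_dvd_of_pow_eq_one ?_).trans (Nat.mul_dvd_mul hq2 (dvd_refl (n ^ k)) |>.trans
          (dvd_of_eq (pow_succ' n k).symm))
        rw [pow_mul]; exact h1.2
      have h3 : (z : G) ∈ P := ⟨z.2, orderOf_dvd_iff_pow_eq_one.1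
        (dvd_pow_of_dvd_pow_succ h2 hn0 (Nat.le_of_dvd Nat.card_pos (orderOf_dvd_natCard _)))⟩
      have h4 : QuotientGroup.mk' (P.subgroupOf Z') z = 1 := (QuotientGroup.eq_one_iff z).2 h3
      rw [h4, orderOf_one] at hy
      exact hq.one_lt.ne hy
    · exact hq.one_lt.ne' (Nat.dvd_one.1 (hcop ▸ Nat.dvd_gcd hq2 h))
  have hPcard : (Nat.card P).Coprime P.index := by
    refine Nat.coprime_of_dvd fun q hq hq1 hq2 => ?_
    haveI := Fact.mk hq
    obtain ⟨z, hz⟩ := exists_prime_orderOf_dvd_card' q hq1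
    have h1 : q ∣ n ^ k := by
      rw [← hz, ← Subgroup.orderOf_coe]
      exact orderOf_dvd_of_pow_eq_one z.2.2
    exact hq.one_lt.ne' (Nat.dvd_one.1 (hPcop ▸ Nat.dvd_gcd hq2 (hq.dvd_of_dvd_pow h1)))
  obtain ⟨H, hH⟩ := Subgroup.exists_right_complement'_of_coprime hPcard
  haveI : Fintype H := Fintype.ofFinite _
  have hHcard : Nat.card H = P.index := hH.symm.index_eq_card.symm
  have hcomm : ∀ (p : P) (g : G), (p : G) * g = g * p := fun p g =>
    (Subgroup.mem_center_iff.1 (hZ'c p.2.1) g).symm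
  let e : P × H ≃* G := MulEquiv.ofBijective
    (MonoidHom.mk' (fun x : P × H => (x.1 : G) * x.2) fun x y => by
      show ((x.1 * y.1 : P) : G) * ((x.2 * y.2 : H) : G) = _
      rw [Subgroup.coe_mul, Subgroup.coe_mul]
      rw [mul_assoc (x.1 : G), ← mul_assoc (y.1 : G), hcomm y.1, mul_assoc (x.2 : G), ← mul_assoc])
    hH
  let pH : G →* H := (MonoidHom.snd P H).comp e.symm.toMonoidHom
  let pP : G →* P := (MonoidHom.fst P H).comp e.symm.toMonoidHom
  have hdec : ∀ g : G, (pP g : G) * pH g = g := fun g => e.apply_symm_apply g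
  have hpH : ∀ h : H, pH h = h ∧ pP h = 1 := fun h => by
    have h1 : e.symm (h : G) = ((1 : P), h) := by
      rw [MulEquiv.symm_apply_eq]; exact (one_mul (h : G)).symm
    exact ⟨congrArg Prod.snd h1, congrArg Prod.fst h1⟩
  have hHs : ∀ a, ∀ x ∈ H, act a x ∈ H := by
    intro a x hx
    have h1 : x ^ Nat.card H = 1 :=
      congrArg Subtype.val (pow_card_eq_one' (x := (⟨x, hx⟩ : H)))
    have h2 : pP (act a x) ^ Nat.card H = 1 := by
      rw [← map_pow, ← map_pow, h1, map_one, map_one]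
    have h3 : pP (act a x) = 1 := by
      have h4 := pow_gcd_eq_one.2 ⟨pow_card_eq_one' (x := pP (act a x)), h2⟩
      rwa [hHcard, hPcard.gcd_eq_one, pow_one] at h4
    rw [← hdec (act a x), h3, OneMemClass.coe_one, one_mul]
    exact (pH (act a x)).2
  set actH := restrictAct act H hHs with hactH
  set NH := Z'.subgroupOf H with hNH
  haveI : Fintype NH := Fintype.ofFinite _
  haveI : NH.Normal := ⟨fun z hz g => by
    rw [show g * z * g⁻¹ = z from mul_inv_eq_iff_eq_mul.2
      (Subtype.ext (Subgroup.mem_center_iff.1 (hZ'c hz) (g : G)))]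
    exact hz⟩
  have hNHs : ∀ a, ∀ x ∈ NH, actH a x ∈ NH := fun a x hx => by
    show act a (x : G) ∈ Z'
    rw [show act a (x : G) = (x : G) from hZfix _ _ hx]; exact hx
  let lamH : NH →* ℂˣ := lam'.comp
    { toFun := fun x => ⟨((x : H) : G), x.2⟩, map_one' := rfl, map_mul' := fun _ _ => rfl }
  obtain ⟨β, hβi, hβ⟩ := exists_inv_over _ C H actH NH hNHs ⟨_, isIrrCharacter_of_hom lamH⟩ rfl hCs
    (by rw [hHcard, hCcard]; exact hPcop)
    (fun a z => congrArg (fun t : NH => (lamH t : ℂ)) (Subtype.ext (Subtype.ext (hZfix _ ((z : H) : G) z.2))))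
  have hβc := central_of_constituent NH (fun z hz => Subgroup.mem_center_iff.2 fun g =>
      Subtype.ext (Subgroup.mem_center_iff.1 (hZ'c hz) (g : G))) lamH β (by
    rw [show (fun z : NH => (β : H → ℂ) z) = (β : H → ℂ) ∘ NH.subtype from rfl,
      show (fun z : NH => (lamH z : ℂ)) = ((⟨_, isIrrCharacter_of_hom lamH⟩ : IrrCharacter NH) : NH → ℂ)
        from rfl, mult_spec]
    exact_mod_cast hβ)
  let lamP : P →* ℂˣ := lam'.comp
    { toFun := fun x => ⟨(x : G), x.2.1⟩, map_one' := rfl, map_mul' := fun _ _ => rfl }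
  refine ⟨⟨fun g => (β : H → ℂ) (pH g) * (lamP.comp pP g : ℂ),
    CfsgLib.LinearTwist.isIrr_mul_hom (CfsgLib.Clifford.isIrrCharacter_pullback β.2 pH
      fun h => ⟨h, (hpH h).1⟩) (lamP.comp pP)⟩, fun z g => ?_, fun a g => ?_⟩
  · have hzH : pH (z : G) ∈ NH := by
      show (pH (z : G) : G) ∈ Z'
      have : (pH (z : G) : G) = (pP (z : G) : G)⁻¹ * z := eq_inv_mul_of_mul_eq (hdec _)
      rw [this]
      exact Z'.mul_mem (Z'.inv_mem (pP (z : G)).2.1) z.2
    show (β : H → ℂ) (pH ((z : G) * g)) * (lamP (pP ((z : G) * g)) : ℂ) =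
      (lam' z : ℂ) * ((β : H → ℂ) (pH g) * (lamP (pP g) : ℂ))
    rw [map_mul pH, map_mul pP, map_mul lamP, Units.val_mul, hβc ⟨pH (z : G), hzH⟩ (pH g)]
    have h5 : lam' z = lamP (pP (z : G)) * lamH ⟨pH (z : G), hzH⟩ := by
      show lam' z = lam' _ * lam' _
      rw [← map_mul lam']
      exact congrArg lam' (Subtype.ext (hdec (z : G)).symm)
    rw [h5, Units.val_mul]
    ring
  · have h6 : act a g = (pP g : G) * (actH a (pH g) : G) := by
      conv_lhs => rw [← hdec g, map_mul]
      rw [show act a (pP g : G) = (pP g : G) from hZfix _ _ (pP g).2.1]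
      rfl
    have h7 : e.symm (act a g) = (pP g, actH a (pH g)) := by
      rw [MulEquiv.symm_apply_eq]; exact h6
    show (β : H → ℂ) (pH (act a g)) * (lamP (pP (act a g)) : ℂ) = _
    have h8 : pH (act a g) = actH a (pH g) := by
      show (e.symm (act a g)).2 = _
      rw [h7]
    have h9 : pP (act a g) = pP g := by
      show (e.symm (act a g)).1 = _
      rw [h7]
    rw [h8, h9, hβi a (pH g)]
    rfl

end CfsgLib.CoprimeFixed
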