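import Cfsg.Agent.Lib.CharCorr.CoprimeFixed

/-!
# Invariant constituents and invariant covering characters across a coprime layer
-/

set_option autoImplicit false
set_option linter.style.haveILetI false
set_option linter.unusedSectionVars false
open Cfsg CfsgLib.Characters CfsgLib.CharCorr CfsgLib.CoprimeFixed
open scoped ComplexConjugate

namespace CfsgLib.CoprimeFixed

universe u v

variable {G : Type u} [Group G] [Fintype G] {A : Type v} [Group A] (act : A →* MulAut G)
  (N : Subgroup G) [hNn : N.Normal] [Fintype N] (hN : ∀ a, ∀ x ∈ N, act a x ∈ N)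

theorem classInner_twist (a : A) (χ : IrrCharacter G) (θ : IrrCharacter N) :
    classInner (fun n : N => (twistIrr (act a) χ : G → ℂ) n)
        (twistIrr (restrictAct act N hN a) θ : N → ℂ) =
      classInner (fun n : N => (χ : G → ℂ) n) (θ : N → ℂ) :=
  classInner_comp_equiv (restrictAct act N hN a) (fun n : N => (χ : G → ℂ) n) (θ : N → ℂ)


/-- An invariant character has an invariant constituent. -/
theorem exists_inv_constituent [Finite A] (hcop : N.index.Coprime (Nat.card A))
    (hsolv : Group.IsSolvable A ∨ Group.IsSolvable (G ⧸ N)) (χ : IrrCharacter G) (hχ : Inv act χ) :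
    ∃ θ : IrrCharacter N, classInner (fun n : N => (χ : G → ℂ) n) (θ : N → ℂ) ≠ 0 ∧
      Inv (restrictAct act N hN) θ := by
  classical
  have hcompat : ∀ a, (MulAut.conjNormal (H := N)).comp (act a).toMonoidHom =
      ((MulAut.conj (restrictAct act N hN a)).toMonoidHom).comp MulAut.conjNormal := by
    intro a
    refine MonoidHom.ext fun g => MulEquiv.ext fun n => Subtype.ext ?_
    show act a g * (n : G) * (act a g)⁻¹ =
      act a (g * (((restrictAct act N hN a)⁻¹ n : N) : G) * g⁻¹)
    rw [map_mul (act a), map_mul (act a), map_inv (act a), ← restrictAct_coe act N hN a,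
      MulAut.apply_inv_self]
  set Φ : G ⋊[act] A →* MulAut N :=
    SemidirectProduct.lift MulAut.conjNormal (restrictAct act N hN) hcompat with hΦ
  let X := {θ : IrrCharacter N // classInner (fun n : N => (χ : G → ℂ) n) (θ : N → ℂ) ≠ 0}
  have hact : ∀ (h : G ⋊[act] A) (θ : IrrCharacter N),
      classInner (fun n : N => (χ : G → ℂ) n) (twistIrr (Φ h) θ : N → ℂ) =
        classInner (fun n : N => (χ : G → ℂ) n) (θ : N → ℂ) := by
    intro h θ
    conv_rhs => rw [← classInner_comp_equiv (Φ h) (fun n : N => (χ : G → ℂ) n) (θ : N → ℂ)]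
    congr 1
    funext n
    have h1 : ((Φ h n : N) : G) = h.left * act h.right n * h.left⁻¹ := by
      rw [hΦ, SemidirectProduct.lift]
      simp [MulAut.conjNormal_apply]
    show (χ : G → ℂ) n = (χ : G → ℂ) ((Φ h n : N) : G)
    rw [h1, irr_isClassFunction χ]
    exact (hχ h.right n).symm
  letI : MulAction (G ⋊[act] A) X :=
    { smul := fun h θ => ⟨twistIrr (Φ h⁻¹) θ.1, by rw [hact]; exact θ.2⟩
      one_smul := fun θ => Subtype.ext (Subtype.ext (funext fun n => by
        show (θ.1 : N → ℂ) (Φ 1⁻¹ n) = _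
        rw [inv_one, map_one]; rfl))
      mul_smul := fun h k θ => Subtype.ext (Subtype.ext (funext fun n => by
        show (θ.1 : N → ℂ) (Φ (h * k)⁻¹ n) = (θ.1 : N → ℂ) (Φ k⁻¹ (Φ h⁻¹ n))
        rw [mul_inv_rev, map_mul]; rfl)) }
  set Gs := (SemidirectProduct.inl : G →* G ⋊[act] A).range with hGs
  set As := (SemidirectProduct.inr : A →* G ⋊[act] A).range with hAs
  set Ns := N.map (SemidirectProduct.inl : G →* G ⋊[act] A) with hNs
  haveI : Gs.Normal := by rw [hGs, SemidirectProduct.range_inl_eq_ker_rightHom]; infer_instance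
  haveI : Ns.Normal := by
    refine ⟨fun x hx h => ?_⟩
    obtain ⟨n, hn, rfl⟩ := hx
    refine ⟨h.left * act h.right n * h.left⁻¹, hNn.conj_mem _ (hN _ _ hn) _, ?_⟩
    ext <;> simp [mul_assoc]
  have htop : As ⊔ Gs = ⊤ := by
    rw [eq_top_iff]
    intro h _
    rw [← SemidirectProduct.inl_left_mul_inr_right h]
    exact mul_mem (Subgroup.mem_sup_right ⟨h.left, rfl⟩) (Subgroup.mem_sup_left ⟨h.right, rfl⟩)
  have hNG : Ns ≤ Gs := Subgroup.map_le_range _ N
  have hrel : Ns.relIndex Gs = N.index := by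
    rw [hNs, hGs, MonoidHom.range_eq_map, Subgroup.relIndex_map_map,
      (MonoidHom.ker_eq_bot_iff _).2 SemidirectProduct.inl_injective, sup_bot_eq, sup_bot_eq,
      Subgroup.relIndex_top_right]
  have hcA : Nat.card As = Nat.card A :=
    (Nat.card_congr (MonoidHom.ofInjective SemidirectProduct.inr_injective).toEquiv).symm
  have hsolv' : Group.IsSolvable As ∨ Group.IsSolvable (Gs ⧸ Ns.subgroupOf Gs) := by
    refine hsolv.imp (fun hs => ?_) fun hs => ?_
    · haveI := hs
      exact Group.isSolvable_of_surjective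
        (f := (SemidirectProduct.inr : A →* G ⋊[act] A).rangeRestrict)
        (MonoidHom.rangeRestrict_surjective _)
    · haveI := hs
      let f : G →* Gs ⧸ Ns.subgroupOf Gs :=
        (QuotientGroup.mk' _).comp (SemidirectProduct.inl : G →* G ⋊[act] A).rangeRestrict
      have hker : N ≤ f.ker := fun n hn => by
        rw [MonoidHom.mem_ker, MonoidHom.comp_apply, QuotientGroup.mk'_apply,
          QuotientGroup.eq_one_iff]
        exact ⟨n, hn, rfl⟩
      exact Group.isSolvable_of_surjective (f := QuotientGroup.lift N f hker)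
        (QuotientGroup.lift_surjective_of_surjective _ f
          ((QuotientGroup.mk'_surjective _).comp (MonoidHom.rangeRestrict_surjective _)) hker)
  haveI : Finite (G ⋊[act] A) := Finite.of_equiv _ SemidirectProduct.equivProd.symm
  obtain ⟨θ₀, hθ₀⟩ := CfsgLib.NormalRes.exists_mult_ne_zero N χ
  have hinl : ∀ g : G, Φ (SemidirectProduct.inl g) = MulAut.conjNormal g := fun g => by
    rw [hΦ, SemidirectProduct.lift_inl]
  obtain ⟨θ, hθ⟩ := fixed_of_transitive (X := X) Gs Ns As hNG htop (by rw [hrel, hcA]; exact hcop)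
    hsolv' (by
      rintro _ ⟨n, hn, rfl⟩ θ
      refine Subtype.ext ?_
      show twistIrr (Φ (SemidirectProduct.inl n)⁻¹) θ.1 = θ.1
      rw [← map_inv (SemidirectProduct.inl : G →* G ⋊[act] A), hinl]
      refine Subtype.ext (funext fun m => ?_)
      have h1 := congrFun (congrArg Subtype.val (CfsgLib.NormalRes.twist_of_mem N hn θ.1)) m
      rw [← h1]
      show (θ.1 : N → ℂ) (MulAut.conjNormal n⁻¹ m) = (θ.1 : N → ℂ) ((MulAut.conjNormal n).symm m)
      rw [map_inv]; rfl)
    ⟨θ₀, hθ₀⟩ (by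
      intro y
      obtain ⟨x, hx⟩ := CfsgLib.NormalRes.exists_conj_of_constituents N χ hθ₀ y.2
      refine ⟨SemidirectProduct.inl x, ⟨_, rfl⟩, Subtype.ext ?_⟩
      show twistIrr (Φ (SemidirectProduct.inl x)⁻¹) θ₀ = y.1
      rw [← map_inv (SemidirectProduct.inl : G →* G ⋊[act] A), hinl, ← hx, map_inv]
      rfl)
  refine ⟨θ.1, θ.2, fun a n => ?_⟩
  have h1 := congrArg Subtype.val (hθ (SemidirectProduct.inr a⁻¹) ⟨_, rfl⟩)
  have h2 : twistIrr (Φ (SemidirectProduct.inr a⁻¹)⁻¹) θ.1 = θ.1 := h1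
  rw [← map_inv (SemidirectProduct.inr : A →* G ⋊[act] A), inv_inv] at h2
  have h3 := congrFun (congrArg Subtype.val h2) n
  rw [twistIrr_apply, hΦ, SemidirectProduct.lift_inr] at h3
  exact h3

/-- Covering by an invariant character over an abelian coprime layer. -/
theorem exists_inv_over_abelian (B : Subgroup A) [B.FiniteIndex] (hcop : N.index.Coprime B.index)
    (hab : commutator G ≤ N) (hB : ∀ b ∈ B, ∃ n ∈ N, ∀ g, act b g = n * g * n⁻¹)
    (θ : IrrCharacter N) (hθ : Inv (restrictAct act N hN) θ) :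
    ∃ χ : IrrCharacter G, classInner (fun n : N => (χ : G → ℂ) n) (θ : N → ℂ) ≠ 0 ∧ Inv act χ := by
  classical
  let Λ : Subgroup (G →* ℂˣ) :=
    { carrier := {f | ∀ l ∈ N, f l = 1}
      one_mem' := fun _ _ => rfl
      mul_mem' := fun {x y} hx hy l hl => by rw [MonoidHom.mul_apply, hx l hl, hy l hl, one_mul]
      inv_mem' := fun {x} hx l hl => by rw [MonoidHom.inv_apply, hx l hl, inv_one] }
  let X := {χ : IrrCharacter G // classInner (fun n : N => (χ : G → ℂ) n) (θ : N → ℂ) ≠ 0}
  letI : CommGroup Λ := inferInstance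
  letI : MulAction Λ X :=
    { smul := fun f χ => ⟨⟨fun g => (χ.1 : G → ℂ) g * (f.1 g : ℂ),
        CfsgLib.LinearTwist.isIrr_mul_hom χ.1.2 f.1⟩, by
          have : (fun n : N => (χ.1 : G → ℂ) n * (f.1 n : ℂ)) = fun n : N => (χ.1 : G → ℂ) n := by
            funext n; simp [f.2 (n : G) n.2]
          rw [this]; exact χ.2⟩
      one_smul := fun χ => Subtype.ext (Subtype.ext (funext fun g => by
        show (χ.1 : G → ℂ) g * ((1 : G →* ℂˣ) g : ℂ) = _; simp))
      mul_smul := fun f k χ => Subtype.ext (Subtype.ext (funext fun g => by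
        show (χ.1 : G → ℂ) g * ((f.1 * k.1) g : ℂ) = ((χ.1 : G → ℂ) g * (k.1 g : ℂ)) * (f.1 g : ℂ)
        rw [MonoidHom.mul_apply, Units.val_mul]; ring)) }
  have hinvA : ∀ (a : A), twistIrr (restrictAct act N hN a) θ = θ := inv_iff_twist_eq.1 hθ
  letI : MulAction A X :=
    { smul := fun a χ => ⟨twistIrr (act a⁻¹) χ.1, by
        have h1 := classInner_twist act N hN a⁻¹ χ.1 θ
        rw [hinvA a⁻¹] at h1
        rw [h1]; exact χ.2⟩
      one_smul := fun χ => Subtype.ext (Subtype.ext (funext fun g => by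
        show (χ.1 : G → ℂ) (act 1⁻¹ g) = _; simp))
      mul_smul := fun a c χ => Subtype.ext (Subtype.ext (funext fun g => by
        show (χ.1 : G → ℂ) (act (a * c)⁻¹ g) = (χ.1 : G → ℂ) (act c⁻¹ (act a⁻¹ g))
        simp)) }
  have hmem : ∀ (a : A) (f : Λ), f.1.comp (act a⁻¹).toMonoidHom ∈ Λ := fun a f l hl =>
    f.2 _ (hN a⁻¹ l hl)
  let φ : A →* MulAut Λ :=
    { toFun := fun a =>
        { toFun := fun f => ⟨f.1.comp (act a⁻¹).toMonoidHom, hmem a f⟩
          invFun := fun f => ⟨f.1.comp (act a⁻¹⁻¹).toMonoidHom, hmem a⁻¹ f⟩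
          left_inv := fun f => Subtype.ext (MonoidHom.ext fun g => by simp)
          right_inv := fun f => Subtype.ext (MonoidHom.ext fun g => by simp)
          map_mul' := fun f k => Subtype.ext (MonoidHom.ext fun g => rfl) }
      map_one' := MulEquiv.ext fun f => Subtype.ext (MonoidHom.ext fun g => by simp)
      map_mul' := fun a c => MulEquiv.ext fun f => Subtype.ext (MonoidHom.ext fun g => by simp) }
  haveI : Finite Λ := inferInstance
  obtain ⟨χ₀, hχ₀⟩ := CfsgLib.NormalRes.exists_mult_ne_zero_of_irr N θ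
  have hcΛ : Nat.card Λ = N.index := CfsgLib.GoingDown.card_homs_trivial N hab
  obtain ⟨χ, hχ⟩ := fixed_of_abelian (X := X) φ
    (fun a f χ => Subtype.ext (Subtype.ext (funext fun g => rfl))) B
    (fun b hb χ => by
      obtain ⟨n, -, hn⟩ := hB b⁻¹ (B.inv_mem hb)
      refine Subtype.ext (Subtype.ext (funext fun g => ?_))
      show (χ.1 : G → ℂ) (act b⁻¹ g) = _
      rw [hn, irr_isClassFunction χ.1])
    (by rw [hcΛ]; exact hcop.symm) ⟨χ₀, hχ₀⟩ (fun y => by
      obtain ⟨f, hf, he⟩ := exists_linear_twist N hab χ₀ y.1 hχ₀ y.2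
      exact ⟨⟨f, hf⟩, Subtype.ext (Subtype.ext he.symm)⟩)
  refine ⟨χ.1, χ.2, fun a g => ?_⟩
  have h1 := congrFun (congrArg Subtype.val (congrArg Subtype.val (hχ a⁻¹))) g
  have h2 : (χ.1 : G → ℂ) (act a⁻¹⁻¹ g) = (χ.1 : G → ℂ) g := h1
  rwa [inv_inv] at h2

/-- Covering by an invariant character over a solvable coprime layer. -/
theorem exists_inv_over_solvable (n : ℕ) : ∀ {G : Type u} [Group G] [Fintype G] (act : A →* MulAut G)
    (N : Subgroup G) [N.Normal] [Fintype N] (hN : ∀ a, ∀ x ∈ N, act a x ∈ N) (B : Subgroup A)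
    [B.FiniteIndex], N.index = n → N.index.Coprime B.index → Group.IsSolvable (G ⧸ N) →
    (∀ b ∈ B, ∃ n ∈ N, ∀ g, act b g = n * g * n⁻¹) →
    ∀ θ : IrrCharacter N, Inv (restrictAct act N hN) θ →
    ∃ χ : IrrCharacter G, classInner (fun n : N => (χ : G → ℂ) n) (θ : N → ℂ) ≠ 0 ∧ Inv act χ := by
  induction n using Nat.strong_induction_on with
  | _ n ih =>
  intro G _ _ act N _ _ hN B _ hidx hcop hsolv hB θ hθ
  classical
  by_cases hab : commutator G ≤ N
  · exact exists_inv_over_abelian act N hN B hcop hab hB θ hθ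
  set M := N ⊔ commutator G with hMdef
  have hNM : N ≤ M := le_sup_left
  have hcM : commutator G ≤ M := le_sup_right
  haveI : M.Normal := Subgroup.sup_normal _ _
  haveI : Fintype M := Fintype.ofFinite _
  have hM : ∀ a, ∀ x ∈ M, act a x ∈ M := by
    intro a x hx
    obtain ⟨y, hy, z, hz, rfl⟩ := Subgroup.mem_sup_of_normal_left.1 hx
    rw [map_mul]
    refine Subgroup.mem_sup_of_normal_left.2 ⟨_, hN a y hy, _, ?_, rfl⟩
    exact Subgroup.characteristic_iff_map_le.1 inferInstance (act a) ⟨z, hz, rfl⟩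
  set N' := N.subgroupOf M with hN'
  haveI : N'.Normal := Subgroup.Normal.subgroupOf inferInstance M
  haveI : Fintype N' := Fintype.ofFinite _
  let e : N' ≃* N := Subgroup.subgroupOfEquivOfLe hNM
  have hMtop : M ≠ ⊤ := by
    intro htop
    apply hab
    haveI := hsolv
    have h1 : commutator (G ⧸ N) = ⊤ := by
      have h2 : (commutator G).map (QuotientGroup.mk' N) = commutator (G ⧸ N) := by
        rw [commutator_def, commutator_def, Subgroup.map_commutator,
          Subgroup.map_top_of_surjective _ (QuotientGroup.mk'_surjective N)]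
      rw [← h2, ← sup_bot_eq ((commutator G).map (QuotientGroup.mk' N)),
        ← QuotientGroup.map_mk'_self N, ← Subgroup.map_sup, sup_comm, ← hMdef, htop,
        Subgroup.map_top_of_surjective _ (QuotientGroup.mk'_surjective N)]
    by_contra hle
    haveI : Nontrivial (G ⧸ N) := by
      rw [← Finite.one_lt_card_iff_nontrivial, ← Subgroup.index_eq_card]
      refine Nat.one_lt_iff_ne_zero_and_ne_one.2 ⟨Subgroup.index_ne_zero_of_finite, fun h3 => ?_⟩
      exact hle (Subgroup.index_eq_one.1 h3 ▸ le_top)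
    exact (Group.IsSolvable.commutator_lt_top_of_nontrivial (G := G ⧸ N)).ne h1
  have hmul : N'.index * M.index = N.index := Subgroup.relIndex_mul_index hNM
  have hlt : N'.index < n := by
    rw [← hidx, ← hmul]
    refine lt_mul_of_one_lt_right (Nat.pos_of_ne_zero Subgroup.index_ne_zero_of_finite) ?_
    exact Nat.one_lt_iff_ne_zero_and_ne_one.2
      ⟨Subgroup.index_ne_zero_of_finite, fun h3 => hMtop (Subgroup.index_eq_one.1 h3)⟩
  let actM := restrictAct act M hM
  have hN'' : ∀ a, ∀ x ∈ N', actM a x ∈ N' := fun a x hx => hN a (x : G) hx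
  have hsolv' : Group.IsSolvable (M ⧸ N') := by
    haveI := hsolv
    refine Group.isSolvable_of_isSolvable_injective
      (f := QuotientGroup.map N' N M.subtype fun x hx => hx) ?_
    rw [injective_iff_map_eq_one]
    intro q
    refine QuotientGroup.induction_on q fun x hx => ?_
    replace hx : ((x : G) : G ⧸ N) = 1 := hx
    rw [QuotientGroup.eq_one_iff] at hx
    exact (QuotientGroup.eq_one_iff x).2 hx
  obtain ⟨ψ, hψ, hψi⟩ := ih N'.index hlt actM N' hN'' B rfl
    (hcop.coprime_dvd_left (hmul ▸ dvd_mul_right _ _)) hsolv'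
    (fun b hb => by
      obtain ⟨m, hm, he⟩ := hB b hb
      exact ⟨⟨m, hNM hm⟩, hm, fun g => Subtype.ext (he g)⟩)
    (twistIrr e θ) (fun a x => by
      show (θ : N → ℂ) (e (restrictAct actM N' hN'' a x)) = (θ : N → ℂ) (e x)
      rw [← hθ a (e x)]
      exact congrArg _ (Subtype.ext rfl))
  obtain ⟨χ, hχ, hχi⟩ := exists_inv_over_abelian act M hM B
    (hcop.coprime_dvd_left (hmul ▸ dvd_mul_left _ _)) hcM
    (fun b hb => by
      obtain ⟨m, hm, he⟩ := hB b hb
      exact ⟨m, hNM hm, he⟩) ψ hψi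
  refine ⟨χ, fun h0 => ?_, hχi⟩
  -- multiplicities multiply
  have hresM := CfsgLib.Clifford.isCharacter_subtype (irr_isCharacter χ) M
  obtain ⟨k, hk, hsum⟩ := CfsgLib.Clifford.exists_mult hresM
  have h1 : classInner (fun x : N' => (χ : G → ℂ) ((x : M) : G)) (twistIrr e θ : N' → ℂ) = 0 := by
    rw [← h0]
    exact classInner_comp_equiv e (fun n : N => (χ : G → ℂ) n) (θ : N → ℂ)
  have h2 : (fun x : N' => (χ : G → ℂ) ((x : M) : G)) =
      ∑ η : IrrCharacter M, (k η : ℂ) • fun x : N' => (η : M → ℂ) x := by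
    funext x
    have := congrFun hsum (x : M)
    simpa using this
  rw [h2, classInner_sum_left] at h1
  simp only [classInner_smul_left] at h1
  choose r hr using fun η : IrrCharacter M =>
    classInner_char_nat (CfsgLib.Clifford.isCharacter_subtype (irr_isCharacter η) N')
      (irr_isCharacter (twistIrr e θ))
  simp only [hr] at h1
  have h3 : ∑ η : IrrCharacter M, k η * r η = 0 := by exact_mod_cast h1
  rcases mul_eq_zero.1 (Finset.sum_eq_zero_iff.1 h3 ψ (Finset.mem_univ _)) with h | h
  · exact hχ (by rw [hk, h, Nat.cast_zero])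
  · exact hψ (by rw [hr, h, Nat.cast_zero])

end CfsgLib.CoprimeFixed
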