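import Cfsg.Agent.Lib.CharCorr.QuotientTools

/-!
# Operators on a group with a normal Sylow subgroup: invariant constituents and extensions
-/

set_option autoImplicit false
set_option linter.style.haveILetI false
set_option linter.unusedSectionVars false

noncomputable section

namespace CfsgLib.CharCorrQ

open Cfsg CfsgLib.Characters CfsgLib.CharCorr CfsgLib.NormalAvg
open scoped ComplexConjugate

universe u v

variable {A : Type u} [Group A] {S : Type v} [Group S] (act : S →* MulAut A) (N : Subgroup A)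

theorem sum_comp_surjective {B : Type*} [Group B] [Fintype A] [Fintype B] (f : A →* B)
    (hf : Function.Surjective f) {M : Type*} [Semiring M] (φ : B → M) :
    ∑ a : A, φ (f a) = (Nat.card f.ker : M) * ∑ b : B, φ b := by
  classical
  rw [← Finset.sum_fiberwise Finset.univ f, Finset.mul_sum]
  refine Finset.sum_congr rfl fun b _ => ?_
  rw [Finset.sum_congr rfl fun a ha => by rw [(Finset.mem_filter.mp ha).2], Finset.sum_const,
    nsmul_eq_mul]
  obtain ⟨a₀, rfl⟩ := hf b
  congr 2
  rw [← Fintype.card_subtype, ← Nat.card_eq_fintype_card]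
  exact Nat.card_congr
    { toFun := fun a => ⟨a₀⁻¹ * a.1, by rw [MonoidHom.mem_ker, map_mul, map_inv, a.2, inv_mul_cancel]⟩
      invFun := fun k => ⟨a₀ * k.1, by rw [map_mul, k.2, mul_one]⟩
      left_inv := fun a => Subtype.ext (mul_inv_cancel_left _ _)
      right_inv := fun k => Subtype.ext (inv_mul_cancel_left _ _) }

/-- Invariant sums over characters only see invariant characters. -/
theorem sum_irr_reduce [Fintype A] [Finite S] {p : ℕ} [Fact p.Prime] (hS : IsPGroup p S)
    (f : IrrCharacter A → ZMod p) (hf : ∀ s χ, f (twistIrr (act s) χ) = f χ)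
    [DecidablePred (Inv act)] :
    ∑ χ, f χ = ∑ χ ∈ Finset.univ.filter (Inv act), f χ := by
  classical
  letI : MulAction S (IrrCharacter A) :=
    { smul := fun s χ => twistIrr (act s⁻¹) χ
      one_smul := fun χ => Subtype.ext (funext fun g => by
        change (χ : A → ℂ) (act (1 : S)⁻¹ g) = (χ : A → ℂ) g; simp)
      mul_smul := fun s t χ => Subtype.ext (funext fun g => by
        change (χ : A → ℂ) (act (s * t)⁻¹ g) = (χ : A → ℂ) (act t⁻¹ (act s⁻¹ g)); simp) }
  rw [CfsgLib.BlockAlg.sum_eq_sum_fixed (fun a : ZMod p => by simp) hS f (fun u χ => hf u⁻¹ χ)]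
  refine Finset.sum_congr (Finset.ext fun χ => ?_) fun _ _ => rfl
  simp only [Finset.mem_filter, Finset.mem_univ, true_and]
  constructor
  · intro h s g
    have := congrFun (congrArg Subtype.val (h s⁻¹)) g
    change (χ : A → ℂ) (act s⁻¹⁻¹ g) = (χ : A → ℂ) g at this
    simpa using this
  · intro h s
    exact Subtype.ext (funext fun g => h s⁻¹ g)

variable [hN : N.Normal] (hstab : ∀ s, ∀ n ∈ N, act s n ∈ N)

/-- The action induced on the quotient. -/
def quotAct : S →* MulAut (A ⧸ N) where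
  toFun s :=
    { toFun := QuotientGroup.map N N (act s).toMonoidHom (fun n hn => hstab s n hn)
      invFun := QuotientGroup.map N N (act s⁻¹).toMonoidHom (fun n hn => hstab s⁻¹ n hn)
      left_inv := fun y => by
        induction y using QuotientGroup.induction_on
        simp
      right_inv := fun y => by
        induction y using QuotientGroup.induction_on
        simp
      map_mul' := map_mul _ }
  map_one' := MulEquiv.ext fun y => by
    induction y using QuotientGroup.induction_on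
    simp
  map_mul' s t := MulEquiv.ext fun y => by
    induction y using QuotientGroup.induction_on
    simp

@[simp] theorem quotAct_mk (s : S) (a : A) :
    quotAct act N hstab s (a : A ⧸ N) = ((act s a : A) : A ⧸ N) := rfl

theorem mem_fixedSub_mk {a : A} :
    (a : A ⧸ N) ∈ fixedSub (quotAct act N hstab) ↔ ∀ s, act s a * a⁻¹ ∈ N := by
  rw [mem_fixedSub]
  refine forall_congr' fun s => ?_
  rw [quotAct_mk, ← QuotientGroup.eq_one_iff (N := N) (act s a * a⁻¹), QuotientGroup.mk_mul,
    QuotientGroup.mk_inv, mul_inv_eq_one]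

theorem card_inertia_orbit [Fintype A] [Fintype N] (χ : IrrCharacter A) (θ : IrrCharacter N)
    (hθ : mult N.subtype χ θ ≠ 0) :
    Nat.card {η : IrrCharacter N // mult N.subtype χ η ≠ 0} =
      (Clifford.inertia hN (θ : N → ℂ)).index := by
  classical
  rw [← Clifford.card_conjOrbit hN (θ : N → ℂ), ← Nat.card_eq_finsetCard]
  have hne : ∀ η : IrrCharacter N, mult N.subtype χ η ≠ 0 ↔
      classInner (fun n : N => (χ : A → ℂ) n) (η : N → ℂ) ≠ 0 := fun η => by
    rw [show classInner (fun n : N => (χ : A → ℂ) n) (η : N → ℂ) = (mult N.subtype χ η : ℂ) from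
      mult_spec N.subtype χ η, Nat.cast_ne_zero]
  refine Nat.card_eq_of_bijective (fun η => ⟨(η.1 : N → ℂ), ?_⟩) ⟨?_, ?_⟩
  · rw [Set.Finite.mem_toFinset]
    exact Clifford.exists_conj_of_constituent hN χ.2 θ.2 η.1.2 ((hne θ).mp hθ) ((hne η.1).mp η.2)
  · intro a b h
    have h' := congrArg Subtype.val h
    exact Subtype.ext (Subtype.ext h')
  · rintro ⟨f, hf⟩
    obtain ⟨g, rfl⟩ := (Set.Finite.mem_toFinset _).mp hf
    refine ⟨⟨⟨_, Clifford.isIrrCharacter_conjChar hN θ.2 g⟩, ?_⟩, rfl⟩
    rw [hne]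
    change classInner (fun n : N => (χ : A → ℂ) n) (Clifford.conjChar hN (θ : N → ℂ) g) ≠ 0
    rw [Clifford.classInner_res_conjChar hN (irr_isClassFunction χ)]
    exact (hne θ).mp hθ

variable {p : ℕ} [Fact p.Prime] (hS : IsPGroup p S) (hcop : ¬ p ∣ N.index)

include hS hcop in
/-- An invariant character has an invariant constituent on the normal subgroup. -/
theorem exists_inv_constituent [Fintype A] [Fintype N] [Finite S] (χ : IrrCharacter A)
    (hχ : Inv act χ) :
    ∃ θ : IrrCharacter N, Inv (restrictAct act N hstab) θ ∧ mult N.subtype χ θ ≠ 0 := by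
  classical
  obtain ⟨θ₀, hθ₀⟩ := exists_mult_ne_zero N.subtype χ
  let Ω := {η : IrrCharacter N // mult N.subtype χ η ≠ 0}
  have hΩ : ¬ p ∣ Nat.card Ω := by
    rw [card_inertia_orbit N χ θ₀ hθ₀]
    exact fun h => hcop (h.trans (Subgroup.index_dvd_of_le
      (Clifford.le_inertia hN (irr_isClassFunction θ₀))))
  let act' := restrictAct act N hstab
  have hm : ∀ s (η : IrrCharacter N),
      mult N.subtype χ (twistIrr (act' s) η) = mult N.subtype χ η := by
    intro s η
    have h := mult_twist N.subtype (act s) (act' s) (fun c => rfl) χ η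
    rwa [show twistIrr (act s) χ = χ from Subtype.ext (funext fun g => hχ s g)] at h
  letI : MulAction S Ω :=
    { smul := fun s η => ⟨twistIrr (act' s⁻¹) η.1, by rw [hm]; exact η.2⟩
      one_smul := fun η => Subtype.ext (Subtype.ext (funext fun g => by
        change (η.1 : N → ℂ) (act' (1 : S)⁻¹ g) = (η.1 : N → ℂ) g; simp))
      mul_smul := fun s t η => Subtype.ext (Subtype.ext (funext fun g => by
        change (η.1 : N → ℂ) (act' (s * t)⁻¹ g) = (η.1 : N → ℂ) (act' t⁻¹ (act' s⁻¹ g)); simp)) }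
  obtain ⟨η, hη⟩ := hS.nonempty_fixed_point_of_prime_not_dvd_card Ω hΩ
  refine ⟨η.1, fun s g => ?_, η.2⟩
  have := congrFun (congrArg (fun z : Ω => (z.1 : N → ℂ)) (hη s⁻¹)) g
  change (η.1 : N → ℂ) (act' s⁻¹⁻¹ g) = (η.1 : N → ℂ) g at this
  simpa using this

variable (hNp : ∃ a, Nat.card N = p ^ a)

include hS hcop hNp hstab in
/-- An invariant extension of an invariant character. -/
theorem exists_inv_extension [Fintype A] [Fintype N] [Finite S] (θ : IrrCharacter N)
    (hinv : ∀ (g : A) (n : N), (θ : N → ℂ) ⟨g * n * g⁻¹, hN.conj_mem (n : A) n.2 g⟩ = (θ : N → ℂ) n)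
    (hθ : Inv (restrictAct act N hstab) θ) :
    ∃ χ : IrrCharacter A, Inv act χ ∧ ∀ n : N, (χ : A → ℂ) n = (θ : N → ℂ) n := by
  classical
  have hp : p.Prime := Fact.out
  obtain ⟨a, ha⟩ := hNp
  have hcN : Nat.Coprime N.index (Nat.card N) := by
    rw [ha]
    exact ((hp.coprime_iff_not_dvd.mpr hcop).symm).pow_right a
  have hd := irr_one_eq_charDegree θ
  have hcop' : Nat.Coprime N.index (charDegree (θ : N → ℂ)) :=
    hcN.coprime_dvd_right (charDegree_irr_dvd_card θ)
  -- the determinant extends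
  obtain ⟨hdc, hd1⟩ := CfsgLib.CharExtension.isCharacter_detChar N θ.2
  obtain ⟨f, hf⟩ := CfsgLib.LinearExt.exists_unitsHom hdc hd1
  have hfinv : ∀ (g : A) (n : N), f ⟨g * n * g⁻¹, hN.conj_mem (n : A) n.2 g⟩ = f n := fun g n =>
    Units.ext (by
      have := CfsgLib.CharExtension.detChar_invariant N θ.2 hinv g n
      rw [hf] at this
      exact this)
  have hext : ∃ μ : A →* ℂˣ, ∀ n : N, μ n = f n := by
    refine CfsgLib.LinearExt.extends_of_coprime hcN
      (CfsgLib.LinearExt.powExtends_index (fun g n => hfinv g n) le_rfl f fun n => rfl)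
      (CfsgLib.LinearExt.powExtends_of_pow_eq_one (MonoidHom.ext fun n => ?_))
    rw [MonoidHom.pow_apply, ← map_pow, pow_card_eq_one', map_one, MonoidHom.one_apply]
  obtain ⟨μ, hμ⟩ := hext
  obtain ⟨χ₀, hχ₀, hres₀⟩ := CfsgLib.CharExtension.extends_of_det N θ.2 hinv _ hd hcop'
    (fun g => (μ g : ℂ)) (isCharacter_of_irr (isIrrCharacter_of_hom μ)) (by simp) (fun n => by
      rw [hμ, hf])
  -- the extensions are the twists of one of them
  let E := {χ : IrrCharacter A // ∀ n : N, (χ : A → ℂ) n = (θ : N → ℂ) n}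
  let L : Subgroup (A →* ℂˣ) :=
    { carrier := {ν | ∀ n : N, ν n = 1}
      one_mem' := fun n => rfl
      mul_mem' := fun {a b} ha hb n => by simp [ha n, hb n]
      inv_mem' := fun {a} ha n => by simp [ha n] }
  have hcN' : IsIrrCharacter N (fun n : N => χ₀ n) := by
    rw [show (fun n : N => χ₀ n) = (θ : N → ℂ) from funext hres₀]; exact θ.2
  have hχ₀c := isCharacter_of_irr hχ₀
  let tw : L → E := fun ν => ⟨⟨_, LinearTwist.isIrr_mul_hom hχ₀ ν.1⟩, fun n => by
    change χ₀ n * ((ν.1 n : ℂˣ) : ℂ) = _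
    rw [ν.2 n, Units.val_one, mul_one, hres₀]⟩
  have hpair : ∀ ν : L, pairAvg N (fun g => χ₀ g * (ν.1 g : ℂ)) χ₀ = fun g => (ν.1 g : ℂ) := by
    intro ν
    funext g
    have h1 := congrFun (pairAvg_self N hχ₀c hcN') g
    rw [pairAvg_apply] at h1 ⊢
    have h2 : ∀ n : N, χ₀ ((n : A) * g) * (ν.1 ((n : A) * g) : ℂ) * conj (χ₀ ((n : A) * g)) =
        (ν.1 g : ℂ) * (χ₀ ((n : A) * g) * conj (χ₀ ((n : A) * g))) := fun n => by
      rw [map_mul, ν.2 n, one_mul]; ring
    rw [Finset.sum_congr rfl fun n _ => h2 n, ← Finset.mul_sum, mul_left_comm, h1, mul_one]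
  have htwb : Function.Bijective tw := by
    constructor
    · intro ν ν' h
      have h' : (fun g => χ₀ g * (ν.1 g : ℂ)) = fun g => χ₀ g * (ν'.1 g : ℂ) :=
        congrArg (fun z : E => (z.1 : A → ℂ)) h
      have h2 := (hpair ν).symm.trans ((congrArg (fun z => pairAvg N z χ₀) h').trans (hpair ν'))
      exact Subtype.ext (MonoidHom.ext fun g => Units.ext (congrFun h2 g))
    · intro χ
      have hne : classInner (fun n : N => (χ.1 : A → ℂ) n) (fun n : N => χ₀ n) ≠ 0 := by
        rw [show (fun n : N => (χ.1 : A → ℂ) n) = fun n : N => χ₀ n from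
          funext fun n => (χ.2 n).trans (hres₀ n).symm, classInner_irr_self hcN']
        exact one_ne_zero
      have hη := isCharacter_pairAvg N (irr_isCharacter χ.1) hχ₀c
      have h1 : pairAvg N (χ.1 : A → ℂ) χ₀ 1 = 1 := by
        rw [pairAvg_one, show (fun n : N => (χ.1 : A → ℂ) n) = fun n : N => χ₀ n from
          funext fun n => (χ.2 n).trans (hres₀ n).symm, classInner_irr_self hcN']
      obtain ⟨ν, hν⟩ := CfsgLib.LinearExt.exists_unitsHom hη h1
      have hνN : ∀ n : N, ν n = 1 := fun n => Units.ext (by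
        rw [← congrFun hν n, Units.val_one, ← h1]
        simpa [pairAvg] using avgN_mul_left N (fun g => (χ.1 : A → ℂ) g * conj (χ₀ g)) n 1)
      refine ⟨⟨ν, hνN⟩, Subtype.ext (Subtype.ext ?_)⟩
      change (fun g => χ₀ g * (ν g : ℂ)) = (χ.1 : A → ℂ)
      rw [← mul_pairAvg_eq N hχ₀c hcN' χ.1.2 hne, hν]
      rfl
  have hE : ¬ p ∣ Nat.card E := by
    rw [← Nat.card_eq_of_bijective tw htwb]
    intro hd
    haveI : Finite L := Finite.of_injective tw htwb.1
    obtain ⟨ν, hν⟩ := exists_prime_orderOf_dvd_card' p hd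
    have hp1 : (ν : A →* ℂˣ) ^ p = 1 := by
      rw [← Subgroup.coe_pow, ← hν, pow_orderOf_eq_one, Subgroup.coe_one]
    have : (ν : A →* ℂˣ) = 1 := by
      ext g : 1
      have h1 : (ν : A →* ℂˣ) g ^ p = 1 := by rw [← MonoidHom.pow_apply, hp1]; rfl
      have h2 : (ν : A →* ℂˣ) g ^ N.index = 1 := by
        rw [← map_pow]
        exact ν.2 ⟨_, N.pow_index_mem g⟩
      exact orderOf_eq_one_iff.mp (Nat.eq_one_of_dvd_coprimes (hp.coprime_iff_not_dvd.mpr hcop)
        (orderOf_dvd_of_pow_eq_one h1) (orderOf_dvd_of_pow_eq_one h2))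
    rw [show ν = 1 from Subtype.ext this, orderOf_one] at hν
    exact hp.one_lt.ne hν
  letI : MulAction S E :=
    { smul := fun s χ => ⟨twistIrr (act s⁻¹) χ.1, fun n => by
        change (χ.1 : A → ℂ) ((restrictAct act N hstab s⁻¹ n : N) : A) = _
        rw [χ.2, hθ]⟩
      one_smul := fun χ => Subtype.ext (Subtype.ext (funext fun g => by
        change (χ.1 : A → ℂ) (act (1 : S)⁻¹ g) = (χ.1 : A → ℂ) g; simp))
      mul_smul := fun s t χ => Subtype.ext (Subtype.ext (funext fun g => by
        change (χ.1 : A → ℂ) (act (s * t)⁻¹ g) = (χ.1 : A → ℂ) (act t⁻¹ (act s⁻¹ g)); simp)) }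
  obtain ⟨χ, hχ⟩ := hS.nonempty_fixed_point_of_prime_not_dvd_card E hE
  refine ⟨χ.1, fun s g => ?_, χ.2⟩
  have := congrFun (congrArg (fun z : E => (z.1 : A → ℂ)) (hχ s⁻¹)) g
  change (χ.1 : A → ℂ) (act s⁻¹⁻¹ g) = (χ.1 : A → ℂ) g at this
  simpa using this

end CfsgLib.CharCorrQ
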