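import Cfsg.Agent.Lib.CharCorr.CoprimeDegreeCount
import Cfsg.Agent.Lib.Characters.Galois
import Cfsg.Agent.Lib.Characters.NormalAvg
import Cfsg.Prelude.Def_CharExt

/-!
# The Glauberman correspondence for cyclic operators

For `Γ = GS` with `S` cyclic of order prime to `|G|`, the canonical extension of an invariant
character takes the values `± β` on the coset of a generator of `S`.
-/

set_option autoImplicit false
set_option linter.style.haveILetI false
set_option linter.unusedSectionVars false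

noncomputable section

namespace CfsgLib.CyclicGlauberman

open Cfsg CfsgLib.Characters CfsgLib.NormalAvg
open scoped ComplexConjugate

universe u

/-- An exponent congruent to one modulo `a` and to `j` modulo `b`. -/
theorem exists_exponent {a b j : ℕ} (hab : a.Coprime b) (hj : j.Coprime b) :
    ∃ k, k ≡ 1 [MOD a] ∧ k ≡ j [MOD b] ∧ k.Coprime (a * b) := by
  obtain ⟨k, hk1, hk2⟩ := Nat.chineseRemainder hab 1 j
  refine ⟨k, hk1, hk2, Nat.Coprime.mul_right ?_ ?_⟩
  · rw [Nat.coprime_iff_gcd_eq_one, hk1.gcd_eq, Nat.gcd_one_left]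
  · rw [Nat.coprime_iff_gcd_eq_one, hk2.gcd_eq]
    exact hj

/-- The determinant of a Galois conjugate. -/
theorem detChar_map {G : Type u} [Group G] [Finite G] (σ : ℂ ≃+* ℂ) {χ : G → ℂ}
    (hχ : IsIrrCharacter G χ) :
    detChar (fun g => σ (χ g)) = fun g => σ (detChar χ g) := by
  obtain ⟨n, ρ, hρ, rfl⟩ := hχ
  haveI := hρ
  haveI := CfsgLib.CharGalois.galoisRep_irreducible σ ρ hρ
  rw [show (fun g => σ (ρ.character g)) = (CfsgLib.CharGalois.galoisRep σ ρ).character from
    funext fun g => (CfsgLib.CharGalois.galoisRep_character σ ρ g).symm,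
    CfsgLib.CharExtension.detChar_eq, CfsgLib.CharExtension.detChar_eq]
  funext g
  show _ = σ (LinearMap.det (ρ g))
  rw [← LinearMap.det_toMatrix (Pi.basisFun ℂ (Fin n)),
    ← LinearMap.det_toMatrix (Pi.basisFun ℂ (Fin n)) (ρ g)]
  show _ = σ.toRingHom _
  rw [RingHom.map_det]
  congr 1
  ext i j
  rw [LinearMap.toMatrix_apply, RingHom.mapMatrix_apply, Matrix.map_apply, LinearMap.toMatrix_apply]
  have : (CfsgLib.CharGalois.coordMap σ n).symm (Pi.basisFun ℂ (Fin n) j) =
      Pi.basisFun ℂ (Fin n) j := by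
    apply (CfsgLib.CharGalois.coordMap σ n).injective
    rw [AddEquiv.apply_symm_apply]
    funext l
    show _ = σ (Pi.basisFun ℂ (Fin n) j l)
    by_cases hl : l = j
    · subst hl; simp
    · simp [hl]
  simp only [CfsgLib.CharGalois.galoisRep, MonoidHom.coe_mk, OneHom.coe_mk, LinearMap.coe_mk,
    AddHom.coe_mk, this, Pi.basisFun_repr]
  rfl

theorem detOrder_map {G : Type u} [Group G] [Finite G] (σ : ℂ ≃+* ℂ) {χ : G → ℂ}
    (hχ : IsIrrCharacter G χ) : detOrder (fun g => σ (χ g)) = detOrder χ := by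
  unfold detOrder
  rw [detChar_map σ hχ]
  refine orderOf_injective
    ({ toFun := fun f g => σ (f g)
       map_one' := funext fun g => map_one σ
       map_mul' := fun f f' => funext fun g => map_mul σ _ _ } : (G → ℂ) →* (G → ℂ)) ?_ _
  exact fun f f' h => funext fun g => σ.injective (congrFun h g)

section Setting

variable {Γ : Type u} [Group Γ] [Fintype Γ] {G S : Subgroup Γ} [Fintype G] [hG : G.Normal]
  (hc : Subgroup.IsComplement' G S) (hcop : (Nat.card G).Coprime (Nat.card S))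

include hc in
theorem index_eq : G.index = Nat.card S := hc.symm.index_eq_card

include hc in
theorem card_eq : Nat.card Γ = Nat.card G * Nat.card S := hc.card_mul.symm

include hc hcop in
/-- The canonical extension is unique. -/
theorem canonical_unique {χ χ' : Γ → ℂ} (hχ : IsIrrCharacter Γ χ) (hχ' : IsIrrCharacter Γ χ')
    {θ : G → ℂ} (hθ : IsIrrCharacter G θ) (h : ∀ g : G, χ g = θ g) (h' : ∀ g : G, χ' g = θ g)
    (ho : (detOrder χ).Coprime (Nat.card S)) (ho' : (detOrder χ').Coprime (Nat.card S)) :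
    χ = χ' := by
  obtain ⟨d, ρ, hρ, rfl⟩ := hθ
  haveI := hρ
  obtain ⟨D, hD⟩ : ∃ D : Γ →* ℂˣ, detChar χ = fun g => (D g : ℂ) := by
    obtain ⟨n, τ, hτ, rfl⟩ := hχ
    haveI := hτ
    exact ⟨(LinearMap.det.comp τ).toHomUnits, by rw [CfsgLib.CharExtension.detChar_eq]; rfl⟩
  obtain ⟨D', hD'⟩ : ∃ D : Γ →* ℂˣ, detChar χ' = fun g => (D g : ℂ) := by
    obtain ⟨n, τ, hτ, rfl⟩ := hχ'
    haveI := hτ
    exact ⟨(LinearMap.det.comp τ).toHomUnits, by rw [CfsgLib.CharExtension.detChar_eq]; rfl⟩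
  have hrest : ∀ {ψ : Γ → ℂ}, IsIrrCharacter Γ ψ → (∀ g : G, ψ g = ρ.character g) → ∀ g : G,
      detChar ψ g = detChar ρ.character g := by
    rintro ψ ⟨n, τ, hτ, rfl⟩ hψ g
    haveI := hτ
    rw [CfsgLib.CharExtension.detChar_eq, CfsgLib.CharExtension.detChar_eq]
    exact CfsgLib.CharExtension.det_restrict ρ τ hψ g
  have hDD : D = D' := by
    refine MonoidHom.ext fun x => ?_
    have hG1 : ∀ g : G, D g = D' g := fun g => Units.ext (by
      have e1 := hrest hχ h g
      have e2 := hrest hχ' h' g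
      rw [hD] at e1
      rw [hD'] at e2
      exact e1.trans e2.symm)
    have hpow : ∀ (ψ : Γ → ℂ) (E : Γ →* ℂˣ), detChar ψ = (fun g => (E g : ℂ)) →
        ∀ y, E y ^ detOrder ψ = 1 := by
      intro ψ E hE y
      have := congrFun (pow_orderOf_eq_one (detChar ψ)) y
      rw [Pi.pow_apply, Pi.one_apply, hE] at this
      unfold detOrder
      rw [hE]
      exact Units.ext this
    set a := detOrder χ * detOrder χ'
    have ha : (D x / D' x) ^ a = 1 := by
      rw [div_pow, pow_mul (D x), hpow χ D hD, one_pow, show a = detOrder χ' * detOrder χ from mul_comm _ _,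
        pow_mul, hpow χ' D' hD', one_pow, div_one]
    have hb : (D x / D' x) ^ Nat.card S = 1 := by
      rw [← index_eq hc, div_pow, ← map_pow, ← map_pow, hG1 ⟨_, G.pow_index_mem x⟩, div_self']
    have := pow_gcd_eq_one.2 ⟨ha, hb⟩
    rw [(Nat.Coprime.mul_left ho ho').gcd_eq_one, pow_one] at this
    exact div_eq_one.1 this
  have hd : ρ.character 1 = (d : ℂ) := by rw [Representation.char_one, Module.finrank_fin_fun]
  have hidx : G.index.Coprime d := by
    rw [index_eq hc]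
    refine (hcop.coprime_dvd_left ?_).symm
    have := CfsgLib.CharScalar.finrank_dvd_card ρ
    rwa [Module.finrank_fin_fun] at this
  have hu := CfsgLib.CharExtension.existsUnique_ext_det G ⟨d, ρ, hρ, rfl⟩ d hd hidx
    ⟨χ, hχ, h⟩ D (fun g => by rw [← hrest hχ h g, hD])
  exact hu.unique ⟨hχ, h, hD⟩ ⟨hχ', h', by rw [hD', hDD]⟩

include hc hcop in
/-- Every invariant character has a canonical extension. -/
theorem exists_canonical (θ : IrrCharacter G)
    (hinv : ∀ (x : Γ) (g : G),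
      (θ : G → ℂ) ⟨x * g * x⁻¹, hG.conj_mem g g.2 x⟩ = (θ : G → ℂ) g) :
    ∃ χ : IrrCharacter Γ, (∀ g : G, (χ : Γ → ℂ) g = (θ : G → ℂ) g) ∧
      (detOrder (χ : Γ → ℂ)).Coprime (Nat.card S) := by
  obtain ⟨hDc, hD1⟩ := CfsgLib.CharExtension.isCharacter_detChar G θ.2
  obtain ⟨D, hD⟩ := CfsgLib.LinearExt.exists_unitsHom hDc hD1
  have hDinv : ∀ (x : Γ) (g : G), D ⟨x * g * x⁻¹, hG.conj_mem g g.2 x⟩ = D g := fun x g =>
    Units.ext (by
      have h := CfsgLib.CharExtension.detChar_invariant G θ.2 hinv x g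
      rw [hD] at h
      exact h)
  have hK1 : Function.Bijective ((QuotientGroup.mk' G).comp S.subtype) := by
    refine ⟨(injective_iff_map_eq_one _).2 fun h hh => Subtype.ext ?_, fun q => ?_⟩
    · exact Subgroup.disjoint_def.1 hc.disjoint ((QuotientGroup.eq_one_iff (h : Γ)).1 hh) h.2
    · obtain ⟨g, rfl⟩ := QuotientGroup.mk_surjective q
      obtain ⟨⟨a, h⟩, hah⟩ := hc.2 g
      refine ⟨h, ?_⟩
      show ((h : Γ) : Γ ⧸ G) = (g : Γ ⧸ G)
      rw [← hah, QuotientGroup.mk_mul, (QuotientGroup.eq_one_iff (a : Γ)).2 a.2, one_mul]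
  let pr : Γ →* S :=
    (MulEquiv.ofBijective _ hK1).symm.toMonoidHom.comp (QuotientGroup.mk' G)
  have hdec : ∀ x, x * (pr x : Γ)⁻¹ ∈ G := by
    intro x
    rw [← QuotientGroup.eq_one_iff, QuotientGroup.mk_mul, QuotientGroup.mk_inv, mul_inv_eq_one]
    exact ((MulEquiv.ofBijective _ hK1).apply_symm_apply (x : Γ ⧸ G)).symm
  have hprG : ∀ g : Γ, g ∈ G → pr g = 1 := fun g hg => by
    show (MulEquiv.ofBijective _ hK1).symm ((g : Γ ⧸ G)) = 1
    rw [(QuotientGroup.eq_one_iff g).2 hg, map_one]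
  let μ : Γ →* ℂˣ := MonoidHom.mk' (fun x => D ⟨x * (pr x : Γ)⁻¹, hdec x⟩) fun a b => by
    have e : (⟨a * b * ((pr (a * b) : S) : Γ)⁻¹, hdec (a * b)⟩ : G) =
        ⟨a * (pr a : Γ)⁻¹, hdec a⟩ *
          ⟨(pr a : Γ) * (⟨b * (pr b : Γ)⁻¹, hdec b⟩ : G) * (pr a : Γ)⁻¹,
            hG.conj_mem _ (hdec b) _⟩ := by
      refine Subtype.ext ?_
      simp only [Subgroup.coe_mul, map_mul, mul_inv_rev]
      group
    rw [e, map_mul, hDinv]
  have hμG : ∀ g : G, (μ g : ℂ) = detChar (θ : G → ℂ) g := fun g => by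
    show (D _ : ℂ) = _
    rw [hD]
    congr 2
    refine Subtype.ext ?_
    show (g : Γ) * ((pr g : S) : Γ)⁻¹ = (g : Γ)
    simp [hprG (g : Γ) g.2]
  have hd := CfsgLib.CharCorr.irr_one_eq_charDegree θ
  have hidx : G.index.Coprime (charDegree (θ : G → ℂ)) := by
    rw [index_eq hc]
    exact (hcop.coprime_dvd_left (CfsgLib.CharCorr.charDegree_irr_dvd_card θ)).symm
  have hext := CfsgLib.CharExtension.extends_of_det G θ.2 hinv _ hd hidx (fun g => (μ g : ℂ))
    (isCharacter_of_irr (isIrrCharacter_of_hom μ)) (by simp) hμG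
  obtain ⟨χ, ⟨hχ, hχG, hχd⟩, -⟩ :=
    CfsgLib.CharExtension.existsUnique_ext_det G θ.2 _ hd hidx hext μ hμG
  refine ⟨⟨χ, hχ⟩, hχG, ?_⟩
  refine hcop.coprime_dvd_left ?_
  unfold detOrder
  rw [hχd]
  refine orderOf_dvd_of_pow_eq_one (funext fun x => ?_)
  show (μ x : ℂ) ^ Nat.card G = 1
  rw [← Units.val_pow_eq_pow_val]
  show ((D _ ^ Nat.card G : ℂˣ) : ℂ) = 1
  rw [← map_pow, pow_card_eq_one', map_one, Units.val_one]

variable {C : Subgroup Γ} [Fintype C] (hC : C = G ⊓ Subgroup.centralizer (S : Set Γ))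

include hC in
theorem commute_of_mem {c s : Γ} (hc' : c ∈ C) (hs : s ∈ S) : Commute c s := by
  rw [hC] at hc'
  exact (Subgroup.mem_centralizer_iff.1 hc'.2 s hs).symm

include hC in
theorem le_of_eq : C ≤ G := hC.le.trans inf_le_left

include hcop hC in
/-- Sums over the coset of a generator reduce to the fixed points. -/
theorem sum_coset {F : Γ → ℂ} (hF : IsClassFunction Γ F) {s : Γ}
    (hs : Subgroup.zpowers s = S) :
    (Nat.card C : ℂ) * ∑ x : G, F ((x : Γ) * s) =
      (Nat.card G : ℂ) * ∑ c : C, F ((c : Γ) * s) := by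
  classical
  have hsS : s ∈ S := hs ▸ Subgroup.mem_zpowers s
  have hCG := le_of_eq hC
  let Φ : G × C → G := fun p =>
    ⟨(p.1 : Γ) * (p.2 : Γ) * (s * (p.1 : Γ)⁻¹ * s⁻¹),
      G.mul_mem (G.mul_mem p.1.2 (hCG p.2.2)) (hG.conj_mem _ (G.inv_mem p.1.2) s)⟩
  have hΦ : ∀ p, ((Φ p : G) : Γ) * s = (p.1 : Γ) * ((p.2 : Γ) * s) * (p.1 : Γ)⁻¹ := fun p => by
    simp only [Φ]
    group
  obtain ⟨e, he1, he2⟩ := Nat.chineseRemainder hcop 0 1
  have hkill : ∀ c : C, ((c : Γ) * s) ^ e = s := by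
    intro c
    rw [(commute_of_mem hC c.2 hsS).mul_pow]
    have h1 : (⟨(c : Γ), hCG c.2⟩ : G) ^ e = 1 := by
      rw [← pow_mod_natCard, show e % Nat.card G = 0 % Nat.card G from he1, Nat.zero_mod, pow_zero]
    have h2 : (⟨s, hsS⟩ : S) ^ e = ⟨s, hsS⟩ := by
      rw [← pow_mod_natCard, show e % Nat.card S = 1 % Nat.card S from he2, pow_mod_natCard,
        pow_one]
    have h1' := congrArg (fun z : G => (z : Γ)) h1
    have h2' := congrArg (fun z : S => (z : Γ)) h2
    simp only [Subgroup.coe_pow, Subgroup.coe_one] at h1' h2'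
    rw [h1', h2', one_mul]
  have hsu : ∀ p q : G × C, Φ p = Φ q → ∃ u : C, (q.1 : Γ) = (p.1 : Γ) * u ∧
      (q.2 : Γ) = (u : Γ)⁻¹ * p.2 * u := by
    intro p q hpq
    set u : Γ := (p.1 : Γ)⁻¹ * q.1 with hu
    have h1 : u * ((q.2 : Γ) * s) * u⁻¹ = (p.2 : Γ) * s := by
      have e1 : (p.1 : Γ) * ((p.2 : Γ) * s) * (p.1 : Γ)⁻¹ =
          (q.1 : Γ) * ((q.2 : Γ) * s) * (q.1 : Γ)⁻¹ := by rw [← hΦ, ← hΦ, hpq]
      calc u * ((q.2 : Γ) * s) * u⁻¹
          = (p.1 : Γ)⁻¹ * ((q.1 : Γ) * ((q.2 : Γ) * s) * (q.1 : Γ)⁻¹) * (p.1 : Γ) := by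
            rw [hu]; group
        _ = (p.2 : Γ) * s := by rw [← e1]; group
    have h2 : Commute u s := by
      have := congrArg (fun z => z ^ e) h1
      simp only [conj_pow, hkill] at this
      exact mul_inv_eq_iff_eq_mul.1 this
    have huC : u ∈ C := by
      rw [hC]
      refine ⟨G.mul_mem (G.inv_mem p.1.2) q.1.2, Subgroup.mem_centralizer_iff.2 fun t ht => ?_⟩
      rw [← hs] at ht
      obtain ⟨k, rfl⟩ := ht
      exact ((h2.zpow_right k).eq).symm
    refine ⟨⟨u, huC⟩, by show _ = (p.1 : Γ) * u; rw [hu]; group, ?_⟩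
    show (q.2 : Γ) = u⁻¹ * p.2 * u
    calc (q.2 : Γ) = u⁻¹ * (u * ((q.2 : Γ) * s) * u⁻¹) * (u * s⁻¹) := by group
      _ = u⁻¹ * ((p.2 : Γ) * s) * (s⁻¹ * u) := by rw [h1, (h2.inv_right).eq]
      _ = u⁻¹ * p.2 * u := by group
  have hfib : ∀ p : G × C, (Finset.univ.filter fun q => Φ q = Φ p).card = Nat.card C := by
    intro p
    let ι : C → G × C := fun u =>
      (⟨(p.1 : Γ) * u, G.mul_mem p.1.2 (hCG u.2)⟩, u⁻¹ * p.2 * u)
    have hι : Function.Injective ι := fun u v h => by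
      have := congrArg (fun q : G × C => (q.1 : Γ)) h
      exact Subtype.ext (mul_left_cancel this)
    have himg : (Finset.univ.filter fun q => Φ q = Φ p) = Finset.univ.image ι := by
      ext q
      simp only [Finset.mem_filter, Finset.mem_univ, true_and, Finset.mem_image]
      constructor
      · intro hq
        obtain ⟨u, hu1, hu2⟩ := hsu p q hq.symm
        exact ⟨u, Prod.ext (Subtype.ext hu1.symm) (Subtype.ext hu2.symm)⟩
      · rintro ⟨u, rfl⟩
        refine Subtype.ext ?_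
        simp only [Φ, ι, Subgroup.coe_mul, InvMemClass.coe_inv]
        have hus : Commute (u : Γ) s := commute_of_mem hC u.2 hsS
        calc (p.1 : Γ) * u * ((u : Γ)⁻¹ * p.2 * u) * (s * ((p.1 : Γ) * u)⁻¹ * s⁻¹)
            = (p.1 : Γ) * p.2 * ((u : Γ) * s * (u : Γ)⁻¹) * (p.1 : Γ)⁻¹ * s⁻¹ := by group
          _ = (p.1 : Γ) * p.2 * (s * (p.1 : Γ)⁻¹ * s⁻¹) := by
            rw [hus.eq, mul_inv_cancel_right]; group
    rw [himg, Finset.card_image_of_injective _ hι, Finset.card_univ, Nat.card_eq_fintype_card]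
  have hsurj : Finset.univ.image Φ = Finset.univ := by
    apply Finset.eq_univ_of_card
    have hsum := Finset.card_eq_sum_card_image Φ (Finset.univ : Finset (G × C))
    rw [Finset.sum_const_nat (m := Nat.card C) (fun x hx => by
      obtain ⟨p, -, rfl⟩ := Finset.mem_image.1 hx
      exact hfib p), Finset.card_univ, Fintype.card_prod,
      Nat.card_eq_fintype_card] at hsum
    exact (Nat.eq_of_mul_eq_mul_right Fintype.card_pos hsum).symm
  have hL : ∑ p : G × C, F (((Φ p : G) : Γ) * s) =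
      (Nat.card C : ℂ) * ∑ x : G, F ((x : Γ) * s) := by
    rw [← Finset.sum_fiberwise Finset.univ Φ, Finset.mul_sum]
    refine Finset.sum_congr rfl fun x _ => ?_
    obtain ⟨p, -, rfl⟩ := Finset.mem_image.1 (hsurj.symm ▸ Finset.mem_univ x)
    rw [Finset.sum_congr rfl (fun q hq => by rw [(Finset.mem_filter.1 hq).2]), Finset.sum_const,
      hfib, nsmul_eq_mul]
  rw [← hL, Fintype.sum_prod_type, Finset.sum_congr rfl (fun g _ => Finset.sum_congr rfl
    (fun c _ => (congrArg F (hΦ (g, c))).trans (hF _ _)))]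
  show ∑ _g : G, ∑ c : C, F ((c : Γ) * s) = _
  rw [Finset.sum_const, Finset.card_univ, nsmul_eq_mul, Nat.card_eq_fintype_card]

/-- The restriction to the coset of a generator. -/
def slice (C : Subgroup Γ) (χ : Γ → ℂ) (s : Γ) : C → ℂ := fun c => χ ((c : Γ) * s)

include hC in
theorem isClassFunction_slice {χ : Γ → ℂ} (hχ : IsCharacter Γ χ) {s : Γ} (hs : s ∈ S) :
    IsClassFunction C (slice C χ s) := by
  intro c d
  show χ (((d * c * d⁻¹ : C) : Γ) * s) = χ ((c : Γ) * s)
  rw [← isClassFunction_of_isCharacter hχ ((c : Γ) * s) (d : Γ)]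
  congr 1
  simp only [Subgroup.coe_mul, InvMemClass.coe_inv, mul_assoc]
  rw [(commute_of_mem hC d.2 hs).inv_left.eq]

include hcop hC in
/-- Orthogonality on the coset. -/
theorem inner_slice {χ χ' : Γ → ℂ} (hχ : IsCharacter Γ χ) (hχ' : IsCharacter Γ χ') {s : Γ}
    (hs : Subgroup.zpowers s = S) :
    classInner (slice C χ s) (slice C χ' s) = pairAvg G χ χ' s := by
  have hF : IsClassFunction Γ (fun x => χ x * conj (χ' x)) :=
    isClassFunction_mul (isClassFunction_of_isCharacter hχ)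
      (isClassFunction_conj (isClassFunction_of_isCharacter hχ'))
  have h := sum_coset hcop hC hF hs
  have hC0 : (Nat.card C : ℂ) ≠ 0 := Nat.cast_ne_zero.2 Nat.card_pos.ne'
  have hG0 : (Nat.card G : ℂ) ≠ 0 := Nat.cast_ne_zero.2 Nat.card_pos.ne'
  show (Nat.card C : ℂ)⁻¹ * ∑ c : C, χ ((c : Γ) * s) * conj (χ' ((c : Γ) * s)) =
    (Nat.card G : ℂ)⁻¹ * ∑ x : G, χ ((x : Γ) * s) * conj (χ' ((x : Γ) * s))
  field_simp
  linear_combination -h

include hc hcop hC in
/-- The values on the coset do not depend on the generator. -/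
theorem slice_generator {χ : Γ → ℂ} (hχ : IsIrrCharacter Γ χ) {θ : G → ℂ}
    (hθ : IsIrrCharacter G θ) (h : ∀ g : G, χ g = θ g)
    (ho : (detOrder χ).Coprime (Nat.card S)) {s s' : Γ}
    (hs : Subgroup.zpowers s = S) (hs' : Subgroup.zpowers s' = S) :
    slice C χ s' = slice C χ s := by
  have hn : orderOf s = Nat.card S := by rw [← Nat.card_zpowers, hs]
  obtain ⟨j, hj⟩ : ∃ j : ℕ, s ^ j = s' := by
    have : s' ∈ Subgroup.zpowers s := by rw [hs, ← hs']; exact Subgroup.mem_zpowers s'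
    exact (isOfFinOrder_of_finite s).mem_powers_iff_mem_zpowers.2 this
  have hjc : j.Coprime (Nat.card S) := by
    have h1 : orderOf s' = Nat.card S := by rw [← Nat.card_zpowers, hs']
    rw [← hj, orderOf_pow, hn] at h1
    have hn0 : Nat.card S ≠ 0 := Nat.card_pos.ne'
    have := (Nat.div_eq_self).1 h1
    rcases this with h2 | h2
    · exact absurd h2 hn0
    · exact Nat.Coprime.symm h2
  obtain ⟨k, hk1, hk2, hk⟩ := exists_exponent hcop hjc
  rw [← card_eq hc] at hk
  obtain ⟨σ, hσ⟩ := by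
    haveI : NeZero (Nat.card Γ) := ⟨Nat.card_pos.ne'⟩
    exact CfsgLib.CharGalois.exists_autComplex (Nat.card Γ) hk
  have hmap : ∀ x, σ (χ x) = χ (x ^ k) :=
    CfsgLib.CharGalois.map_char_eq_pow (isCharacter_of_irr hχ) σ hσ
  have hG' : ∀ g : G, (g : Γ) ^ k = g := fun g => by
    have h1 : g ^ k = g := by
      rw [← pow_mod_natCard, show k % Nat.card G = 1 % Nat.card G from hk1, pow_mod_natCard,
        pow_one]
    exact congrArg (fun z : G => (z : Γ)) h1
  have heq : (fun x => σ (χ x)) = χ :=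
    canonical_unique hc hcop (CfsgLib.CharGalois.isIrrCharacter_map σ hχ) hχ hθ
      (fun g => by show σ (χ g) = θ g; rw [hmap, hG', h]) h (by rw [detOrder_map σ hχ]; exact ho) ho
  have hsS : s ∈ S := hs ▸ Subgroup.mem_zpowers s
  funext c
  show χ ((c : Γ) * s') = χ ((c : Γ) * s)
  rw [← congrFun heq ((c : Γ) * s)]
  show _ = σ _
  rw [hmap, (commute_of_mem hC c.2 hsS).mul_pow, hG' ⟨(c : Γ), le_of_eq hC c.2⟩, ← hj]
  congr 2
  rw [← pow_mod_orderOf, hn, ← hk2, ← hn, pow_mod_orderOf]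

include hc hcop hC in
/-- The coefficients on the coset are integers, nonzero only at constituents. -/
theorem coeff_slice {χ : Γ → ℂ} (hχ : IsIrrCharacter Γ χ) {θ : G → ℂ} (hθ : IsIrrCharacter G θ)
    (h : ∀ g : G, χ g = θ g) (ho : (detOrder χ).Coprime (Nat.card S)) {s : Γ}
    (hs : Subgroup.zpowers s = S) (β : IrrCharacter C) :
    ∃ z : ℤ, classInner (slice C χ s) (β : C → ℂ) = (z : ℂ) ∧
      (z ≠ 0 → classInner (fun c : C => χ c) (β : C → ℂ) ≠ 0) := by
  classical
  have hsS : s ∈ S := hs ▸ Subgroup.mem_zpowers s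
  let L := C × S
  let j : L →* Γ :=
    { toFun := fun p => (p.1 : Γ) * (p.2 : Γ)
      map_one' := by simp
      map_mul' := fun a b => by
        simp only [L, Prod.fst_mul, Prod.snd_mul, Subgroup.coe_mul]
        exact (commute_of_mem hC b.1.2 a.2.2).mul_mul_mul_comm _ _ }
  let N : Subgroup L := (MonoidHom.inl C S).range
  haveI : N.Normal := ⟨by
    rintro _ ⟨c, rfl⟩ g
    exact ⟨g.1 * c * g.1⁻¹, Prod.ext rfl (show (1 : S) = g.2 * 1 * g.2⁻¹ by simp)⟩⟩
  haveI : Fintype N := Fintype.ofFinite N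
  haveI : Fintype L := Fintype.ofFinite L
  have hψ : IsCharacter L fun p => χ (j p) :=
    CfsgLib.Clifford.isCharacter_pullback (isCharacter_of_irr hχ) j
  have hη : IsCharacter L fun p : L => (β : C → ℂ) (MonoidHom.fst C S p) :=
    CfsgLib.Clifford.isCharacter_pullback (irr_isCharacter β) (MonoidHom.fst C S)
  let ξ : L → ℂ := pairAvg N (fun p => χ (j p)) fun p => (β : C → ℂ) (MonoidHom.fst C S p)
  have hξc : IsCharacter L ξ := isCharacter_pairAvg N hψ hη
  have hval : ∀ t : S, ξ (1, t) = classInner (slice C χ (t : Γ)) (β : C → ℂ) := by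
    intro t
    show pairAvg N _ _ _ = _
    rw [pairAvg_apply]
    unfold classInner
    let eN : C ≃* N := MonoidHom.ofInjective (f := MonoidHom.inl C S)
      fun a b h => (Prod.ext_iff.1 h).1
    rw [← Nat.card_congr eN.toEquiv]
    congr 1
    refine (Fintype.sum_equiv eN.toEquiv _ _ fun c => ?_).symm
    show χ ((c : Γ) * t) * conj ((β : C → ℂ) c) =
      χ (j ((c, 1) * (1, t))) * conj ((β : C → ℂ) (c * 1))
    rw [mul_one, show j ((c, 1) * (1, t)) = (c : Γ) * t from
      show ((c * 1 : C) : Γ) * ((1 * t : S) : Γ) = (c : Γ) * t by simp]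
  have hfix : ∀ m : ℕ, m.Coprime (Nat.card L) → ξ ((1, ⟨s, hsS⟩) ^ m) = ξ (1, ⟨s, hsS⟩) := by
    intro m hm
    rw [Prod.pow_mk, one_pow, hval, hval]
    have hm' : m.Coprime (orderOf s) := by
      rw [← Nat.card_zpowers, hs]
      exact hm.coprime_dvd_right ⟨Nat.card C, by rw [Nat.card_prod, mul_comm]⟩
    have hgen : Subgroup.zpowers (s ^ m) = S := by
      rw [← hs]
      refine le_antisymm (Subgroup.zpowers_le.2 (Subgroup.pow_mem _ (Subgroup.mem_zpowers s) m))
        (Subgroup.zpowers_le.2 ?_)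
      obtain ⟨l, hl⟩ := exists_pow_eq_self_of_coprime hm'
      have h1 := Subgroup.pow_mem _ (Subgroup.mem_zpowers (s ^ m)) l
      rwa [hl] at h1
    exact congrArg (fun φ => classInner φ (β : C → ℂ))
      (slice_generator hc hcop hC hχ hθ h ho hs (by simpa using hgen))
  obtain ⟨q, hq⟩ := CfsgLib.CharGalois.exists_rat_char hξc (1, ⟨s, hsS⟩) hfix
  obtain ⟨z, hz⟩ := exists_int_of_isIntegral_rat (q := q)
    (hq ▸ isIntegral_of_isCharacter hξc (1, ⟨s, hsS⟩))
  have hz' : ξ (1, ⟨s, hsS⟩) = (z : ℂ) := by rw [hq, ← hz]; norm_cast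
  refine ⟨z, by rw [← hz', hval], fun hz0 hzero => hz0 ?_⟩
  have h1 : ξ 1 = 0 := by
    show ξ (1, 1) = 0
    rw [hval, show slice C χ ((1 : S) : Γ) = fun c : C => χ c from funext fun c => by simp [slice]]
    exact hzero
  have := congrFun (eq_zero_of_degree_zero hξc h1) (1, ⟨s, hsS⟩)
  rw [hz', Pi.zero_apply] at this
  exact_mod_cast this

include hc hcop hC in
/-- On the coset of any generator the canonical extension is plus or minus a character. -/
theorem exists_beta {χ : Γ → ℂ} (hχ : IsIrrCharacter Γ χ) {θ : G → ℂ} (hθ : IsIrrCharacter G θ)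
    (h : ∀ g : G, χ g = θ g) (ho : (detOrder χ).Coprime (Nat.card S)) {s : Γ}
    (hs : Subgroup.zpowers s = S) :
    ∃ (β : IrrCharacter C) (ε : ℤ), (ε = 1 ∨ ε = -1) ∧
      classInner (fun c : C => χ c) (β : C → ℂ) ≠ 0 ∧
      ∀ (s' : Γ), Subgroup.zpowers s' = S → slice C χ s' = (ε : ℂ) • (β : C → ℂ) := by
  classical
  have hsS : s ∈ S := hs ▸ Subgroup.mem_zpowers s
  choose z hz hz0 using coeff_slice hc hcop hC hχ hθ h ho hs
  have hres : IsIrrCharacter G fun g : G => χ g := by rwa [funext h]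
  have hcf := isClassFunction_slice hC (isCharacter_of_irr hχ) hsS
  have hnorm : classInner (slice C χ s) (slice C χ s) = 1 := by
    rw [inner_slice hcop hC (isCharacter_of_irr hχ) (isCharacter_of_irr hχ) hs,
      pairAvg_self G (isCharacter_of_irr hχ) hres]
  have hsq := classInner_self_eq_sum_sq hcf (m := z) hz
  rw [hnorm] at hsq
  have hsq' : ∑ β, z β ^ 2 = 1 := by exact_mod_cast hsq.symm
  obtain ⟨β, hβ⟩ : ∃ β, z β ≠ 0 := by
    by_contra hall
    push Not at hall
    simp [hall] at hsq'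
  have hle : z β ^ 2 ≤ 1 := hsq' ▸ Finset.single_le_sum (fun γ _ => sq_nonneg (z γ)) (Finset.mem_univ β)
  have hε : z β = 1 ∨ z β = -1 := by
    have h1 : -1 ≤ z β := by nlinarith
    have h2 : z β ≤ 1 := by nlinarith
    omega
  have hother : ∀ γ, γ ≠ β → z γ = 0 := by
    intro γ hγ
    have h1 : z β ^ 2 + z γ ^ 2 ≤ ∑ δ, z δ ^ 2 := by
      rw [← Finset.sum_pair (f := fun δ => z δ ^ 2) hγ.symm]
      exact Finset.sum_le_sum_of_subset_of_nonneg (Finset.subset_univ _) fun δ _ _ => sq_nonneg _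
    have h2 : z β ^ 2 = 1 := by rcases hε with h' | h' <;> simp [h']
    have h3 : z γ ^ 2 ≤ 0 := by omega
    exact pow_eq_zero_iff two_ne_zero |>.1 (le_antisymm h3 (sq_nonneg _))
  refine ⟨β, z β, hε, hz0 β hβ, fun s' hs' => ?_⟩
  rw [slice_generator hc hcop hC hχ hθ h ho hs hs', classFunction_eq_sum hcf]
  rw [Finset.sum_eq_single β (fun γ _ hγ => by rw [hz, hother γ hγ]; simp)
    (fun hh => absurd (Finset.mem_univ β) hh), hz]

include hc hcop hC in
/-- Different characters give orthogonal slices. -/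
theorem eq_of_slice {χ χ' : Γ → ℂ} (hχ : IsIrrCharacter Γ χ) (hχ' : IsIrrCharacter Γ χ')
    (θ θ' : IrrCharacter G) (h : ∀ g : G, χ g = (θ : G → ℂ) g)
    (h' : ∀ g : G, χ' g = (θ' : G → ℂ) g) {s : Γ} (hs : Subgroup.zpowers s = S)
    (β : IrrCharacter C) {ε ε' : ℤ} (hε : ε ≠ 0) (hε' : ε' ≠ 0)
    (hb : slice C χ s = (ε : ℂ) • (β : C → ℂ)) (hb' : slice C χ' s = (ε' : ℂ) • (β : C → ℂ)) :
    θ = θ' := by
  classical
  by_contra hne
  have h1 := inner_slice hcop hC (isCharacter_of_irr hχ) (isCharacter_of_irr hχ') hs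
  rw [pairAvg_eq_zero G (isCharacter_of_irr hχ) (isCharacter_of_irr hχ') (by
    rw [funext h, funext h', classInner_irr, if_neg hne]), hb, hb', classInner_smul_left,
    classInner_smul_right, classInner_irr_self β.2, Pi.zero_apply] at h1
  simp [hε, hε'] at h1

end Setting

end CfsgLib.CyclicGlauberman
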