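import Cfsg.Agent.Lib.CharCorr.Solvable
import Cfsg.Agent.Lib.Characters.NormalRes
import Cfsg.Agent.Lib.Characters.LinearTwist
import Cfsg.Agent.Lib.Characters.GoingDown
import Cfsg.Agent.Lib.Coprime.SchurZassenhaus
import Mathlib.GroupTheory.SemidirectProduct

/-!
# Coprime operators on the characters over a layer
-/

set_option autoImplicit false
set_option linter.style.haveILetI false
set_option linter.unusedSectionVars false
open Cfsg CfsgLib.Characters CfsgLib.CharCorr
open scoped ComplexConjugate commutatorElement Pointwise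

namespace CfsgLib.CoprimeFixed

universe u v

/-- A coprime group of operators on a torsor of an abelian group has a fixed point. -/
theorem fixed_of_abelian {A X Λ : Type*} [Group A] [MulAction A X] [CommGroup Λ] [Finite Λ]
    [MulAction Λ X] (φ : A →* MulAut Λ)
    (hcompat : ∀ (a : A) (l : Λ) (x : X), a • l • x = φ a l • a • x)
    (B : Subgroup A) [B.FiniteIndex] (hB : ∀ b ∈ B, ∀ x : X, b • x = x)
    (hcop : B.index.Coprime (Nat.card Λ)) (x₀ : X) (htrans : ∀ y : X, ∃ l : Λ, l • x₀ = y) :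
    ∃ x : X, ∀ a : A, a • x = x := by
  classical
  have : Fintype (A ⧸ B) := Fintype.ofFinite _
  choose lam hlam using fun a : A => htrans (a • x₀)
  have hcongr : ∀ a b : A, (a : A ⧸ B) = (b : A ⧸ B) → a • x₀ = b • x₀ := fun a b h => by
    rw [show b = a * (a⁻¹ * b) by group, mul_smul, hB _ (QuotientGroup.eq.1 h)]
  let Λ₀ : Subgroup Λ := MulAction.stabilizer Λ x₀
  let c : A ⧸ B → Λ := fun q => lam q.out
  have hc : ∀ (a : A) (q : A ⧸ B), φ a (c q) * lam a * (c (a • q))⁻¹ ∈ Λ₀ := by
    intro a q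
    rw [MulAction.mem_stabilizer_iff]
    have h1 : (φ a (c q) * lam a) • x₀ = c (a • q) • x₀ := by
      rw [mul_smul, hlam, ← hcompat, hlam, hlam, ← mul_smul]
      refine hcongr _ _ ?_
      rw [QuotientGroup.out_eq']
      conv_rhs => rw [← QuotientGroup.out_eq' q]
      rfl
    rw [mul_comm _ ((c (a • q))⁻¹), mul_smul, h1, inv_smul_smul]
  set P : Λ := ∏ q, c q with hP
  set n := B.index with hn
  have key : ∀ a : A, φ a P * lam a ^ n * P⁻¹ ∈ Λ₀ := by
    intro a
    have h1 : ∏ q, (φ a (c q) * lam a * (c (a • q))⁻¹) = φ a P * lam a ^ n * P⁻¹ := by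
      rw [Finset.prod_mul_distrib, Finset.prod_mul_distrib, ← map_prod, Finset.prod_inv_distrib,
        Finset.prod_const, Finset.card_univ, ← Nat.card_eq_fintype_card,
        show ∏ q, c (a • q) = P from Fintype.prod_equiv (MulAction.toPerm a) _ _ fun _ => rfl]
      rfl
    rw [← h1]
    exact Subgroup.prod_mem _ fun q _ => hc a q
  obtain ⟨m, hm⟩ : ∃ m : ℕ, ∀ l : Λ, (l ^ n) ^ m = l := by
    by_cases h1 : 1 < Nat.card Λ
    · obtain ⟨m, -, hm⟩ := Nat.exists_mul_mod_eq_one_of_coprime hcop h1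
      exact ⟨m, fun l => by rw [← pow_mul, ← pow_mod_natCard, hm, pow_one]⟩
    · haveI : Subsingleton Λ := Finite.card_le_one_iff_subsingleton.1 (by omega)
      exact ⟨0, fun l => Subsingleton.elim _ _⟩
  refine ⟨P ^ m • x₀, fun a => ?_⟩
  have h1 := Λ₀.pow_mem (key a) m
  rw [mul_pow, mul_pow, inv_pow, hm, ← map_pow, MulAction.mem_stabilizer_iff,
    mul_comm _ ((P ^ m)⁻¹), mul_smul, inv_smul_eq_iff] at h1
  rw [hcompat, ← hlam, ← mul_smul]
  exact h1

/-- Glauberman's lemma. -/
theorem fixed_of_transitive {H X : Type*} [Group H] [Finite H] [MulAction H X] (G N A : Subgroup H)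
    [G.Normal] [N.Normal] (hNG : N ≤ G) (hAG : A ⊔ G = ⊤)
    (hcop : (N.relIndex G).Coprime (Nat.card A))
    (hsolv : Group.IsSolvable A ∨ Group.IsSolvable (G ⧸ N.subgroupOf G))
    (hfix : ∀ n ∈ N, ∀ x : X, n • x = x) (x₀ : X) (htrans : ∀ y : X, ∃ g ∈ G, g • x₀ = y) :
    ∃ x : X, ∀ a ∈ A, a • x = x := by
  classical
  set π := QuotientGroup.mk' N with hπ
  have hπs : Function.Surjective π := QuotientGroup.mk'_surjective N
  set Gb := G.map π with hGb
  set Ab := A.map π with hAb
  haveI : Gb.Normal := Subgroup.Normal.map inferInstance π hπs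
  have hcG : Nat.card Gb = N.relIndex G := by
    rw [hGb, Subgroup.relIndex, Subgroup.index_eq_card]
    let f : G →* Gb := π.subgroupMap G
    have hk : f.ker = N.subgroupOf G := by
      ext g
      rw [MonoidHom.mem_ker, Subgroup.mem_subgroupOf]
      exact ⟨fun h => (QuotientGroup.eq_one_iff (g : H)).1 (congrArg Subtype.val h),
        fun h => Subtype.ext ((QuotientGroup.eq_one_iff (g : H)).2 h)⟩
    rw [← hk]
    exact (Nat.card_congr (QuotientGroup.quotientKerEquivOfSurjective f
      (π.subgroupMap_surjective G)).toEquiv).symm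
  have hcA : Nat.card Ab ∣ Nat.card A := Subgroup.card_map_dvd A π
  have hcop' : (Nat.card Gb).Coprime (Nat.card Ab) := hcG ▸ hcop.coprime_dvd_right hcA
  have hdis : Gb ⊓ Ab = ⊥ := Subgroup.inf_eq_bot_of_coprime hcop'
  have htop : Ab ⊔ Gb = ⊤ := by
    rw [hAb, hGb, ← Subgroup.map_sup, hAG, Subgroup.map_top_of_surjective π hπs]
  have hidx : Gb.index = Nat.card Ab := by
    have h1 : Gb.relIndex Ab = Gb.index := by
      rw [← Subgroup.relIndex_sup_right, htop, Subgroup.relIndex_top_right]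
    rw [← h1, ← Subgroup.inf_relIndex_right, hdis, Subgroup.relIndex_bot_left]
  -- the stabiliser
  set T := (MulAction.stabilizer H x₀).map π with hT
  have hTG : T ⊔ Gb = ⊤ := by
    rw [hT, hGb, ← Subgroup.map_sup, eq_top_iff]
    intro y _
    obtain ⟨h, rfl⟩ := hπs y
    refine ⟨h, ?_, rfl⟩
    obtain ⟨g, hg, hgx⟩ := htrans (h • x₀)
    refine Subgroup.mem_sup_of_normal_right.2 ⟨h * (h⁻¹ * g⁻¹ * h)⁻¹⁻¹, ?_, (h⁻¹ * g⁻¹ * h)⁻¹,
      Subgroup.inv_mem _ (by simpa using (inferInstance : G.Normal).conj_mem _ (G.inv_mem hg) h⁻¹),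
      by group⟩
    rw [MulAction.mem_stabilizer_iff, inv_inv,
      show h * (h⁻¹ * g⁻¹ * h) = g⁻¹ * h by group, mul_smul, ← hgx, inv_smul_smul]
  have hTidx : (Gb.subgroupOf T).index = Gb.index := by
    rw [← Subgroup.relIndex, ← Subgroup.relIndex_sup_right, hTG, Subgroup.relIndex_top_right]
  have hTcop : (Nat.card (Gb.subgroupOf T)).Coprime (Gb.subgroupOf T).index := by
    rw [hTidx, hidx]
    refine hcop'.coprime_dvd_left ?_
    rw [← Subgroup.card_map_of_injective T.subtype_injective, Subgroup.subgroupOf_map_subtype]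
    exact Subgroup.card_dvd_of_le inf_le_left
  obtain ⟨K, hK⟩ := Subgroup.exists_right_complement'_of_coprime hTcop
  have hKc : Nat.card (K.map T.subtype) = Gb.index := by
    rw [Subgroup.card_map_of_injective T.subtype_injective, ← hTidx]
    exact hK.symm.index_eq_card.symm
  have hsolv' : Group.IsSolvable Gb ∨ Group.IsSolvable ((H ⧸ N) ⧸ Gb) := by
    rcases hsolv with hs | hs
    · right
      haveI := hs
      refine Group.isSolvable_of_surjective
        (f := ((QuotientGroup.mk' Gb).comp π).comp A.subtype) fun y => ?_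
      obtain ⟨z, rfl⟩ := QuotientGroup.mk'_surjective Gb y
      have hz : z ∈ Ab ⊔ Gb := htop ▸ Subgroup.mem_top z
      obtain ⟨a, ⟨a', ha', rfl⟩, g, hg, rfl⟩ := Subgroup.mem_sup_of_normal_right.1 hz
      refine ⟨⟨a', ha'⟩, ?_⟩
      simp [(QuotientGroup.eq_one_iff g).2 hg]
    · left
      haveI := hs
      let f : G →* Gb := π.subgroupMap G
      have hker : N.subgroupOf G ≤ f.ker := fun g hg => by
        exact MonoidHom.mem_ker.2 (Subtype.ext ((QuotientGroup.eq_one_iff (g : H)).2 hg))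
      refine Group.isSolvable_of_surjective (f := QuotientGroup.lift _ f hker) ?_
      exact QuotientGroup.lift_surjective_of_surjective _ f (π.subgroupMap_surjective G) hker
  obtain ⟨z, hz, hconj⟩ := CfsgLib.Coprime.conj_complement_of_card Gb (by rw [hidx]; exact hcop')
    hsolv' (K.map T.subtype) Ab hKc hidx.symm
  obtain ⟨g, rfl⟩ := hπs z
  refine ⟨g • x₀, fun a ha => ?_⟩
  have ha' : π a ∈ MulAut.conj (π g) • K.map T.subtype := by rw [hconj]; exact ⟨a, ha, rfl⟩
  obtain ⟨k, ⟨k', hk', rfl⟩, hk2⟩ := ha'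
  obtain ⟨t, ht, ht'⟩ := k'.2
  have h2 : π a = π (g * t * g⁻¹) := by
    rw [← hk2, map_mul, map_mul, map_inv, ht']
    rfl
  rw [hπ, QuotientGroup.mk'_apply, QuotientGroup.mk'_apply, QuotientGroup.eq] at h2
  have h3 : a = g * t * g⁻¹ * (a⁻¹ * (g * t * g⁻¹))⁻¹ := by group
  rw [h3, mul_smul, hfix _ (N.inv_mem h2), mul_smul, mul_smul, inv_smul_smul, MulAction.mem_stabilizer_iff.1 ht]

variable {G : Type u} [Group G]

/-- Over a normal subgroup with abelian quotient, two characters over one differ by a linear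
character. -/
theorem exists_linear_twist [Fintype G] (N : Subgroup G) [hN : N.Normal] [Fintype N]
    (hab : commutator G ≤ N) (χ χ' : IrrCharacter G) {θ : IrrCharacter N}
    (h : classInner (fun n : N => (χ : G → ℂ) n) (θ : N → ℂ) ≠ 0)
    (h' : classInner (fun n : N => (χ' : G → ℂ) n) (θ : N → ℂ) ≠ 0) :
    ∃ f : G →* ℂˣ, (∀ n ∈ N, f n = 1) ∧ (χ' : G → ℂ) = fun g => (χ : G → ℂ) g * (f g : ℂ) := by
  classical
  let F := {f : G →* ℂˣ // ∀ l ∈ N, f l = 1}
  have := Fintype.ofFinite F
  have hcard : Fintype.card F = N.index := by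
    rw [← Nat.card_eq_fintype_card]; exact CfsgLib.GoingDown.card_homs_trivial N hab
  have hsum : ∀ x : G, ∑ f : F, (f.1 x : ℂ) = if x ∈ N then (N.index : ℂ) else 0 := by
    intro x
    split_ifs with hx
    · rw [Finset.sum_congr rfl fun f _ => show (f.1 x : ℂ) = 1 by rw [f.2 x hx, Units.val_one],
        Finset.sum_const, Finset.card_univ, hcard, nsmul_one]
    · obtain ⟨f₀, hf₀⟩ : ∃ f₀ : F, f₀.1 x ≠ 1 := by
        letI : CommGroup (G ⧸ N) :=
          { (inferInstance : Group (G ⧸ N)) with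
            mul_comm := fun a b => by
              refine QuotientGroup.induction_on a fun x => QuotientGroup.induction_on b fun y => ?_
              show (QuotientGroup.mk (x * y) : G ⧸ N) = QuotientGroup.mk (y * x)
              refine QuotientGroup.eq.2 (hab ?_)
              have := Subgroup.commutator_mem_commutator (Subgroup.mem_top y⁻¹) (Subgroup.mem_top x⁻¹)
              rw [commutatorElement_def, ← commutator_def] at this
              simpa [mul_assoc] using this }
        have : NeZero (Monoid.exponent (G ⧸ N) : ℂ) :=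
          ⟨Nat.cast_ne_zero.mpr Monoid.exponent_ne_zero_of_finite⟩
        obtain ⟨φ, hφ⟩ := CommGroup.exists_apply_ne_one_of_hasEnoughRootsOfUnity (G ⧸ N) ℂ
          (show (x : G ⧸ N) ≠ 1 from fun e => hx ((QuotientGroup.eq_one_iff x).1 e))
        exact ⟨⟨φ.comp (QuotientGroup.mk' N), fun l hl => by
          rw [MonoidHom.comp_apply, QuotientGroup.mk'_apply, (QuotientGroup.eq_one_iff l).2 hl,
            map_one]⟩, hφ⟩
      have h1 : (f₀.1 x : ℂ) * ∑ f : F, (f.1 x : ℂ) = ∑ f : F, (f.1 x : ℂ) := by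
        rw [Finset.mul_sum]
        let e : F ≃ F :=
          { toFun := fun f => ⟨f₀.1 * f.1, fun l hl => by simp [f₀.2 l hl, f.2 l hl]⟩
            invFun := fun f => ⟨f₀.1⁻¹ * f.1, fun l hl => by simp [f₀.2 l hl, f.2 l hl]⟩
            left_inv := fun f => Subtype.ext (inv_mul_cancel_left f₀.1 f.1)
            right_inv := fun f => Subtype.ext (mul_inv_cancel_left f₀.1 f.1) }
        exact Fintype.sum_equiv e _ _ fun f => by simp [e]
      by_contra h0
      exact hf₀ (Units.ext ((mul_eq_right₀ h0).1 h1))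
  by_contra hcon
  push Not at hcon
  have hz : ∀ f : F, classInner (χ' : G → ℂ) (fun g => (χ : G → ℂ) g * (f.1 g : ℂ)) = 0 := fun f =>
    classInner_irr_ne χ'.2 (CfsgLib.LinearTwist.isIrr_mul_hom χ.2 f.1) (hcon f.1 f.2)
  obtain ⟨m, hm⟩ := classInner_char_nat (CfsgLib.Clifford.isCharacter_subtype (irr_isCharacter χ') N)
    (irr_isCharacter θ)
  have hne : classInner (fun n : N => (χ' : G → ℂ) n) (fun n : N => (χ : G → ℂ) n) ≠ 0 := by
    obtain ⟨a, ha, hasum⟩ := CfsgLib.Clifford.exists_mult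
      (CfsgLib.Clifford.isCharacter_subtype (irr_isCharacter χ') N)
    obtain ⟨b, hb, hbsum⟩ := CfsgLib.Clifford.exists_mult
      (CfsgLib.Clifford.isCharacter_subtype (irr_isCharacter χ) N)
    rw [hbsum, classInner_sum_right]
    simp only [classInner_smul_right, ha, Complex.conj_natCast]
    intro h0
    have h1 : ∑ ψ : IrrCharacter N, b ψ * a ψ = 0 := by exact_mod_cast h0
    have h2 := Finset.sum_eq_zero_iff.1 h1 θ (Finset.mem_univ _)
    rw [hb] at h
    rw [ha] at h'
    exact (mul_ne_zero (fun e => h (by rw [e, Nat.cast_zero]))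
      (fun e => h' (by rw [e, Nat.cast_zero]))) h2
  apply hne
  have hall : ∑ f : F, classInner (χ' : G → ℂ) (fun g => (χ : G → ℂ) g * (f.1 g : ℂ)) = 0 :=
    Finset.sum_eq_zero fun f _ => hz f
  simp only [classInner, map_mul, ← Finset.mul_sum] at hall
  rw [mul_eq_zero, Finset.sum_comm] at hall
  have h3 := hall.resolve_left (inv_ne_zero (Nat.cast_ne_zero.mpr Nat.card_pos.ne'))
  simp only [← Finset.mul_sum, ← map_sum, hsum, apply_ite (starRingEnd ℂ), map_zero,
    Complex.conj_natCast, mul_ite, mul_zero] at h3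
  rw [← Finset.sum_filter, Finset.sum_subtype _ (p := fun x => x ∈ N) (fun x => by simp)] at h3
  rw [classInner, mul_eq_zero]
  right
  simp only [← mul_assoc, ← Finset.sum_mul, mul_eq_zero, Nat.cast_eq_zero,
    Subgroup.index_ne_zero_of_finite, or_false] at h3
  exact h3

end CfsgLib.CoprimeFixed
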