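import Cfsg.Agent.Lib.CharCorr.InvariantAbelian
import Cfsg.Agent.Lib.Characters.Ramified
import Mathlib.GroupTheory.SchurZassenhaus

/-!
# Invariant constituents over an invariant character, solvable operator quotient

The invariant character is moved to a central subgroup by the extension of intertwiners, where
the coprime complement of the central part carries a coprime action.
-/

set_option autoImplicit false
set_option linter.style.haveILetI false
set_option linter.unusedSectionVars false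

noncomputable section

namespace CfsgLib.InvariantTriple

open Cfsg CfsgLib.Characters CfsgLib.CharCorr CfsgLib.NormalAvg CfsgLib.CharExtension
  CfsgLib.LinearExt
open scoped ComplexConjugate commutatorElement

universe u

/-- An invariant character extends to a finite central extension. -/
theorem exists_lift {Γ : Type u} [Group Γ] [Finite Γ] (N : Subgroup Γ) [hN : N.Normal]
    [Fintype N] (θ : IrrCharacter N)
    (hinv : ∀ (x : Γ) (n : N),
      (θ : N → ℂ) ⟨x * n * x⁻¹, hN.conj_mem n n.2 x⟩ = (θ : N → ℂ) n) :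
    ∃ (L : Type u) (_ : Group L) (_ : Finite L) (π : L →* Γ) (σ : L → ℂ) (j : N →* L),
      Function.Surjective π ∧ IsCharacter L σ ∧ (∀ n, π (j n) = n) ∧
      (∀ n, σ (j n) = (θ : N → ℂ) n) ∧ j.range.Normal ∧
      ∀ z, π z = 1 → z ∈ Subgroup.center L ∧ ∃ c : ℂˣ, ∀ y, σ (y * z) = (c : ℂ) * σ y := by
  classical
  haveI : Fintype Γ := Fintype.ofFinite Γ
  obtain ⟨_, d, ρ, hρ, rfl⟩ := θ
  obtain ⟨φ, hφ⟩ := powExtends_index_top N ρ hinv
  set m := N.index with hm
  have hm0 : m ≠ 0 := Subgroup.index_ne_zero_of_finite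
  have : NeZero m := ⟨hm0⟩
  let π : φ.ker →* Γ := (proj N ρ).comp φ.ker.subtype
  have hsurj : Function.Surjective π := by
    intro g
    obtain ⟨γ, hγ⟩ := proj_surjective N ρ hinv g
    obtain ⟨c, hc⟩ := exists_root m (Nat.pos_of_ne_zero hm0) (φ γ)⁻¹
    let z : interGroup N ρ := ⟨_, sc_mem N ρ c 1⟩
    have hz : z ∈ preim N ρ N := (1 : N).2
    have hcz : coordN N ρ ⟨z, hz⟩ = c :=
      sc_injective (pos_of_irreducible ρ)
        (mul_right_cancel (b := rhoU N ρ 1) (coordN_spec N ρ ⟨z, hz⟩).symm)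
    refine ⟨⟨γ * z, MonoidHom.mem_ker.2 ?_⟩, ?_⟩
    · rw [map_mul, hφ ⟨z, hz⟩, hcz, zpow_natCast, hc, mul_inv_cancel]
    · show proj N ρ (γ * z) = g
      rw [map_mul, hγ]
      exact mul_one g
  let Z : Subgroup φ.ker := N.comap π
  have hcm : ∀ x : Z, coordN N ρ ⟨(x : φ.ker), x.2⟩ ^ m = 1 := fun x => by
    have := (hφ ⟨(x : φ.ker), x.2⟩).symm.trans (x : φ.ker).2
    rwa [zpow_natCast] at this
  have hfinZ : Finite Z := by
    refine Finite.of_injective (β := N × rootsOfUnity m ℂ)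
      (fun x => (⟨π x, x.2⟩, ⟨coordN N ρ ⟨(x : φ.ker), x.2⟩, (mem_rootsOfUnity _ _).2 (hcm x)⟩)) ?_
    intro x y h
    simp only [Prod.mk.injEq, Subtype.mk.injEq] at h
    refine Subtype.ext (Subtype.ext (Subtype.ext (Prod.ext (congrArg Subtype.val h.1) ?_)))
    have h1 := coordN_spec N ρ ⟨(x : φ.ker), x.2⟩
    have h2 := coordN_spec N ρ ⟨(y : φ.ker), y.2⟩
    have h3 : (⟨π x, x.2⟩ : N) = ⟨π y, y.2⟩ := h.1
    refine h1.trans (Eq.trans ?_ h2.symm)
    congr 1
    · rw [h.2]
    · exact congrArg (rhoU N ρ) h3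
  have hZidx : Z.index = m := Subgroup.index_comap_of_surjective N hsurj
  have hfin : Finite φ.ker := by
    have : Z.FiniteIndex := ⟨by rw [hZidx]; exact hm0⟩
    exact Finite.of_equiv _ (Subgroup.groupEquivQuotientProdSubgroup (s := Z)).symm
  have hlift : ∀ n : N, liftN N ρ n ∈ φ.ker := fun n => by
    have hmem : liftN N ρ n ∈ preim N ρ N := n.2
    refine MonoidHom.mem_ker.2 ((hφ ⟨_, hmem⟩).trans ?_)
    have : coordN N ρ ⟨_, hmem⟩ = 1 := sc_injective (pos_of_irreducible ρ)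
      (mul_right_cancel (b := rhoU N ρ n) (by
        rw [map_one, one_mul]
        exact (coordN_spec N ρ ⟨_, hmem⟩).symm))
    rw [this, one_zpow]
  let j : N →* φ.ker := (liftN N ρ).codRestrict φ.ker hlift
  let σ : Representation ℂ φ.ker (Fin d → ℂ) :=
    (Units.coeHom _).comp ((op N ρ).comp φ.ker.subtype)
  refine ⟨φ.ker, inferInstance, hfin, π, σ.character, j, hsurj, ⟨d, σ, rfl⟩, fun n => rfl,
    fun n => rfl, ⟨?_⟩, ?_⟩
  · rintro _ ⟨n, rfl⟩ γ
    refine ⟨conjN N (π γ) n, Subtype.ext (Subtype.ext (Prod.ext rfl ?_))⟩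
    show rhoU N ρ (conjN N (π γ) n) = op N ρ γ * rhoU N ρ n * (op N ρ γ)⁻¹
    rw [eq_mul_inv_iff_mul_eq]
    exact (op_spec N ρ γ n).symm
  · intro z hz
    have hz' : proj N ρ (z : interGroup N ρ) ∈ N := by
      rw [show proj N ρ (z : interGroup N ρ) = 1 from hz]
      exact N.one_mem
    set c := coordN N ρ ⟨(z : interGroup N ρ), hz'⟩
    have hopz : op N ρ z = sc d c := by
      have h := coordN_spec N ρ ⟨(z : interGroup N ρ), hz'⟩
      have he : (⟨proj N ρ (z : interGroup N ρ), hz'⟩ : N) = 1 := Subtype.ext hz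
      rw [show rhoU N ρ ⟨proj N ρ ((⟨(z : interGroup N ρ), hz'⟩ : preim N ρ N) :
          interGroup N ρ), hz'⟩ = 1 from (congrArg (rhoU N ρ) he).trans (map_one _), mul_one] at h
      exact h
    refine ⟨Subgroup.mem_center_iff.2 fun y => Subtype.ext (Subtype.ext (Prod.ext ?_ ?_)), c,
      fun y => ?_⟩
    · show π y * π z = π z * π y
      rw [hz, mul_one, one_mul]
    · show op N ρ y * op N ρ z = op N ρ z * op N ρ y
      rw [hopz, sc_commute]
    · show LinearMap.trace ℂ _ (op N ρ ((y * z : φ.ker) : interGroup N ρ)).1 =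
        (c : ℂ) * LinearMap.trace ℂ _ (op N ρ y).1
      rw [Subgroup.coe_mul, map_mul, hopz, Units.val_mul]
      show LinearMap.trace ℂ _ (_ * algebraMap ℂ (Module.End ℂ (Fin d → ℂ)) (c : ℂ)) = _
      rw [Algebra.algebraMap_eq_smul_one, mul_smul_comm, mul_one, map_smul, smul_eq_mul]

/-- The part of a central subgroup supported on the primes of `t` has index prime to `t`. -/
theorem not_dvd_relIndex {X : Type u} [Group X] [Finite X] (C C₀ : Subgroup X)
    (hC : C ≤ Subgroup.center X) {t : ℕ}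
    (hmem : ∀ c, c ∈ C₀ ↔ c ∈ C ∧ ∃ k : ℕ, c ^ (t ^ k) = 1) {q : ℕ} (hq : q.Prime)
    (hqt : q ∣ t) : ¬ q ∣ C₀.relIndex C := by
  intro h3
  haveI := Fact.mk hq
  let C₁ : Subgroup C := C₀.subgroupOf C
  haveI : C₁.Normal := ⟨fun x hx g => by
    have h : g * x * g⁻¹ = x := Subtype.ext (by
      simp only [Subgroup.coe_mul, InvMemClass.coe_inv]
      rw [Subgroup.mem_center_iff.1 (hC x.2) (g : X), mul_inv_cancel_right])
    rw [h]; exact hx⟩
  change q ∣ C₁.index at h3
  rw [Subgroup.index_eq_card] at h3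
  obtain ⟨z, hz⟩ := exists_prime_orderOf_dvd_card' (G := C ⧸ C₁) q h3
  obtain ⟨w, rfl⟩ := QuotientGroup.mk_surjective z
  have hwq : w ^ q ∈ C₁ := by
    rw [← QuotientGroup.eq_one_iff, QuotientGroup.mk_pow, ← hz, pow_orderOf_eq_one]
  obtain ⟨-, l, hl⟩ := (hmem _).1 hwq
  obtain ⟨r, hr⟩ := hqt
  have hw : w ∈ C₁ := by
    refine (hmem _).2 ⟨w.2, l + 1, ?_⟩
    have he : t ^ (l + 1) = q * t ^ l * r := by
      calc t ^ (l + 1) = t ^ l * t := pow_succ t l
        _ = t ^ l * (q * r) := by rw [← hr]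
        _ = q * t ^ l * r := by ring
    change ((w ^ q : C) : X) ^ t ^ l = 1 at hl
    rw [SubgroupClass.coe_pow, ← pow_mul] at hl
    show (w : X) ^ t ^ (l + 1) = 1
    rw [he, pow_mul, hl, one_pow]
  rw [(QuotientGroup.eq_one_iff w).2 hw, orderOf_one] at hz
  exact hq.one_lt.ne hz

/-- The case of a central subgroup. -/
theorem exists_inv_central {X : Type u} [Group X] [Finite X] (Y C : Subgroup X) [hY : Y.Normal]
    (hCY : C ≤ Y) (hC : C ≤ Subgroup.center X) (lam : C →* ℂˣ)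
    (hcop : Y.index.Coprime (C.relIndex Y)) (hsolv : Group.IsSolvable (X ⧸ Y)) :
    ∃ η : IrrCharacter Y,
      (∀ (x : X) (y : Y),
        (η : Y → ℂ) ⟨x * y * x⁻¹, hY.conj_mem y y.2 x⟩ = (η : Y → ℂ) y) ∧
      ∀ (c : C) (y : Y),
        (η : Y → ℂ) (y * ⟨(c : X), hCY c.2⟩) = (η : Y → ℂ) y * (lam c : ℂ) := by
  classical
  set t := Y.index with ht
  have hcomm : ∀ c ∈ C, ∀ x : X, Commute x c := fun c hc x => Subgroup.mem_center_iff.1 (hC hc) x
  -- the part of the centre supported on the primes of the index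
  let C₀ : Subgroup X :=
    { carrier := {c | c ∈ C ∧ ∃ k : ℕ, c ^ (t ^ k) = 1}
      one_mem' := ⟨C.one_mem, 0, by simp⟩
      mul_mem' := fun {a b} ha hb => by
        obtain ⟨ha, k, hk⟩ := ha
        obtain ⟨hb, l, hl⟩ := hb
        refine ⟨C.mul_mem ha hb, k + l, ?_⟩
        rw [(hcomm b hb a).mul_pow, pow_add, pow_mul, hk, one_pow, one_mul, mul_comm, pow_mul,
          hl, one_pow]
      inv_mem' := fun {a} ha => ⟨C.inv_mem ha.1, ha.2.elim fun k hk => ⟨k, by rw [inv_pow, hk, inv_one]⟩⟩ }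
  have hC₀C : C₀ ≤ C := fun c hc => hc.1
  have hC₀Y : C₀ ≤ Y := hC₀C.trans hCY
  let D₀ : Subgroup Y := C₀.subgroupOf Y
  haveI : D₀.Normal := ⟨fun x hx g => by
    have h : g * x * g⁻¹ = x := Subtype.ext (by
      simp only [Subgroup.coe_mul, InvMemClass.coe_inv]
      rw [(hcomm (x : X) (hC₀C hx) (g : X)).eq, mul_inv_cancel_right])
    rw [h]; exact hx⟩
  have hD₀card : Nat.card D₀ = Nat.card C₀ :=
    Nat.card_congr (Subgroup.subgroupOfEquivOfLe hC₀Y).toEquiv
  have hD₀idx : D₀.index = C₀.relIndex C * C.relIndex Y := by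
    rw [Subgroup.relIndex_mul_relIndex _ _ _ hC₀C hCY]
    rfl
  have hcop₀ : (Nat.card D₀).Coprime D₀.index := by
    refine Nat.coprime_of_dvd fun q hq h1 h2 => ?_
    rw [hD₀card] at h1
    haveI := Fact.mk hq
    obtain ⟨⟨c, hc, k, hk⟩, hord⟩ := exists_prime_orderOf_dvd_card' (G := C₀) q h1
    have hqt : q ∣ t := by
      refine hq.dvd_of_dvd_pow (n := k) ?_
      rw [← hord]
      exact orderOf_dvd_of_pow_eq_one (Subtype.ext hk)
    rw [hD₀idx] at h2
    rcases hq.dvd_mul.1 h2 with h3 | h3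
    · exact not_dvd_relIndex C C₀ hC (fun _ => Iff.rfl) hq hqt h3
    · exact Nat.not_coprime_of_dvd_of_dvd hq.one_lt hqt h3 hcop
  obtain ⟨K₀, hK₀⟩ := Subgroup.exists_right_complement'_of_coprime hcop₀
  set m := Nat.card K₀ with hm
  have hmD : D₀.index = m := hK₀.symm.index_eq_card
  -- membership in the complement is a torsion condition
  have hmem : ∀ y : Y, y ^ m = 1 → y ∈ K₀ := by
    intro y hy
    obtain ⟨⟨c, k⟩, hck⟩ := hK₀.2 y
    have hck' : (c : Y) * (k : Y) = y := hck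
    have hcy : Commute (c : Y) (k : Y) :=
      Subtype.ext ((hcomm _ (hC₀C c.2) ((k : Y) : X)).symm : (_ : X) = _)
    have hkm : (k : Y) ^ m = 1 := by
      rw [← Subgroup.coe_pow, hm, pow_card_eq_one', Subgroup.coe_one]
    rw [← hck', hcy.mul_pow, hkm, mul_one] at hy
    have hc1 : c = 1 := orderOf_eq_one_iff.1 (Nat.eq_one_of_dvd_coprimes (hmD ▸ hcop₀)
      (orderOf_dvd_natCard c) (orderOf_dvd_of_pow_eq_one (Subtype.ext hy)))
    rw [← hck', hc1, Subgroup.coe_one, one_mul]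
    exact k.2
  have hpowm : ∀ y ∈ K₀, y ^ m = 1 := fun y hy =>
    congrArg Subtype.val (pow_card_eq_one' (x := (⟨y, hy⟩ : K₀)))
  let H : Subgroup X := K₀.map Y.subtype
  have hHY : H ≤ Y := by rintro _ ⟨y, -, rfl⟩; exact y.2
  haveI hH : H.Normal := ⟨by
    rintro _ ⟨y, hy, rfl⟩ x
    refine ⟨⟨x * y * x⁻¹, hY.conj_mem y y.2 x⟩, hmem _ (Subtype.ext ?_), rfl⟩
    show ((⟨x * y * x⁻¹, _⟩ : Y) ^ m : Y).1 = 1
    rw [Subgroup.coe_pow, conj_pow, ← Subgroup.coe_pow, hpowm y hy, Subgroup.coe_one, mul_one,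
      mul_inv_cancel]⟩
  let eH : K₀ ≃* H := K₀.equivMapOfInjective Y.subtype Y.subtype_injective
  have hcardH : Nat.card H = m := (Nat.card_congr eH.toEquiv).symm
  -- the decomposition
  have hcK : ∀ (c : D₀) (k : K₀), Commute (k : Y) (c : Y) := fun c k =>
    Subtype.ext (hcomm _ (hC₀C c.2) ((k : Y) : X) : (_ : X) = _)
  let E : D₀ × K₀ →* Y :=
    { toFun := fun p => (p.1 : Y) * (p.2 : Y)
      map_one' := by simp
      map_mul' := fun a b => by
        simp only [Prod.fst_mul, Prod.snd_mul, Subgroup.coe_mul]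
        exact ((hcK b.1 a.2).symm).mul_mul_mul_comm _ _ }
  let Ee : D₀ × K₀ ≃* Y := MulEquiv.ofBijective E hK₀
  let pr : Y →* H := eH.toMonoidHom.comp ((MonoidHom.snd D₀ K₀).comp Ee.symm.toMonoidHom)
  let qC : Y →* C :=
    ((Subgroup.inclusion hC₀C).comp ((Subgroup.subgroupOfEquivOfLe hC₀Y).toMonoidHom)).comp
      ((MonoidHom.fst D₀ K₀).comp Ee.symm.toMonoidHom)
  have hdec : ∀ y : Y, (y : X) = (qC y : X) * (pr y : X) := fun y =>
    (congrArg Subtype.val (Ee.apply_symm_apply y)).symm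
  have hprsurj : Function.Surjective pr := by
    intro h
    refine ⟨Ee (1, eH.symm h), ?_⟩
    show eH (Ee.symm (Ee (1, eH.symm h))).2 = h
    rw [MulEquiv.symm_apply_apply, MulEquiv.apply_symm_apply]
  have hqC : ∀ y, (qC y : X) ∈ C₀ := fun y => ((Ee.symm y).1).2
  have huniq : ∀ (y : Y) (c : X) (h : H), c ∈ C₀ → (y : X) = c * h → (qC y : X) = c ∧ pr y = h := by
    intro y c h hc hy
    have he : Ee.symm y = ((⟨⟨c, hC₀Y hc⟩, hc⟩ : D₀), eH.symm h) := by
      rw [MulEquiv.symm_apply_eq]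
      refine Subtype.ext (hy.trans ?_)
      show c * (h : X) = c * ((eH.symm h : Y) : X)
      congr 1
      conv_lhs => rw [← eH.apply_symm_apply h]
      rfl
    constructor
    · show (((Ee.symm y).1 : Y) : X) = c
      rw [he]
    · show eH (Ee.symm y).2 = h
      rw [he, MulEquiv.apply_symm_apply]
  -- a complement of the normal complement
  have hidxH : H.index = t * Nat.card C₀ := by
    have h1 := H.card_mul_index
    have h2 := Y.card_mul_index
    have h3 : Nat.card Y = Nat.card C₀ * m := by rw [← hD₀card, ← hmD, Subgroup.card_mul_index]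
    have hm0 : 0 < m := Nat.card_pos
    rw [hcardH] at h1
    refine Nat.eq_of_mul_eq_mul_left hm0 ?_
    rw [h1, ← h2, h3, ht]
    ring
  have hcopH : (Nat.card H).Coprime H.index := by
    rw [hcardH, hidxH]
    refine Nat.Coprime.mul_right ?_ ?_
    · rw [← hmD, hD₀idx]
      refine Nat.Coprime.mul_left ?_ (hcop.symm)
      exact Nat.coprime_of_dvd fun q hq h1 h2 =>
        not_dvd_relIndex C C₀ hC (fun _ => Iff.rfl) hq h2 h1
    · rw [← hD₀card, ← hmD]
      exact hcop₀.symm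
  obtain ⟨S, hS⟩ := Subgroup.exists_right_complement'_of_coprime hcopH
  have hSsolv : Group.IsSolvable S := by
    let ψ : S →* X ⧸ Y := (QuotientGroup.mk' Y).comp S.subtype
    haveI : Group.IsSolvable ψ.ker := Group.isSolvable_of_comm fun a b => by
      have haY : ((a : S) : X) ∈ Y := (QuotientGroup.eq_one_iff _).1 a.2
      have hbY : ((b : S) : X) ∈ Y := (QuotientGroup.eq_one_iff _).1 b.2
      refine Subtype.ext (Subtype.ext (commutatorElement_eq_one_iff_mul_comm.1 ?_))
      set A : Y := ⟨_, haY⟩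
      set B : Y := ⟨_, hbY⟩
      have hmemS : ⁅((a : S) : X), ((b : S) : X)⁆ ∈ S :=
        S.mul_mem (S.mul_mem (S.mul_mem (a : S).2 (b : S).2) (S.inv_mem (a : S).2))
          (S.inv_mem (b : S).2)
      have hmemH : ⁅((a : S) : X), ((b : S) : X)⁆ ∈ H := by
        have h1 : qC ⁅A, B⁆ = 1 := by
          rw [map_commutatorElement, commutatorElement_eq_one_iff_mul_comm]
          exact Subtype.ext (hcomm _ (qC B).2 _)
        have h2 := hdec ⁅A, B⁆
        rw [h1, Subgroup.coe_one, one_mul] at h2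
        rw [show ⁅((a : S) : X), ((b : S) : X)⁆ = ((⁅A, B⁆ : Y) : X) from rfl, h2]
        exact (pr _).2
      exact (Subgroup.disjoint_def.1 hS.disjoint) hmemH hmemS
    exact Group.isSolvable_of_ker_le_range ψ.ker.subtype ψ (by simp)
  -- the character of the complement
  let act := subgroupAct H S fun s _ g hg => hH.conj_mem g hg s
  let D : Subgroup H := C.subgroupOf H
  haveI : D.Normal := ⟨fun x hx g => by
    have h : g * x * g⁻¹ = x := Subtype.ext (by
      simp only [Subgroup.coe_mul, InvMemClass.coe_inv]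
      rw [(hcomm (x : X) hx (g : X)).eq, mul_inv_cancel_right])
    rw [h]; exact hx⟩
  haveI : Fintype H := Fintype.ofFinite H
  haveI : Fintype D := Fintype.ofFinite D
  let fD : D →* C := (H.subtype.comp D.subtype).codRestrict C fun d => d.2
  let θ₀ : IrrCharacter D := ⟨_, isIrrCharacter_of_hom (lam.comp fD)⟩
  have hfix : ∀ s, ∀ x ∈ D, act s x = x := fun s x hx => Subtype.ext (by
    rw [subgroupAct_coe, (hcomm (x : X) hx (s : X)).eq, mul_inv_cancel_right])
  obtain ⟨η₀, hη₀, hη₀m⟩ := CfsgLib.CharCorr.exists_inv_over _ S H act D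
    (fun s x hx => by rw [hfix s x hx]; exact hx) θ₀ rfl hSsolv
    (by
      have : Nat.card S = H.index := hS.symm.index_eq_card.symm
      rw [this]
      exact hcopH)
    (fun s x => congrArg (θ₀ : D → ℂ) (Subtype.ext (hfix s x x.2)))
  have hη₀D : ∀ (h : H) (c : D),
      (η₀ : H → ℂ) (h * c) = (η₀ : H → ℂ) h * (lam (fD c) : ℂ) := by
    intro h c
    have hcon : classInner (fun n : D => (η₀ : H → ℂ) n) (θ₀ : D → ℂ) ≠ 0 := by
      intro h0
      apply hη₀m
      have h2 := mult_spec D.subtype η₀ θ₀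
      exact_mod_cast h2.symm.trans h0
    have hres := CfsgLib.Ramified.res_eq_smul_of_invariant D η₀.2 θ₀.2 (fun g n =>
      congrArg (θ₀ : D → ℂ) (Subtype.ext (Subtype.ext (by
        simp only [Subgroup.coe_mul, InvMemClass.coe_inv]
        rw [(hcomm ((n : H) : X) n.2 (g : X)).eq, mul_inv_cancel_right])))) hcon
    obtain ⟨_, d, ρ, hρ, rfl⟩ := η₀
    haveI := hρ
    set e := classInner (fun n : D => ρ.character n) (θ₀ : D → ℂ)
    have he : e = (d : ℂ) := by
      have := congrFun hres 1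
      simpa [θ₀, fD, Representation.char_one] using this.symm
    have hv : ρ.character c = (d : ℂ) * (lam (fD c) : ℂ) := by
      have := congrFun hres c
      rw [he] at this
      exact this
    have hl : ‖(lam (fD c) : ℂ)‖ = 1 := by
      refine Complex.norm_eq_one_of_pow_eq_one (n := Nat.card C) ?_ Nat.card_pos.ne'
      rw [← Units.val_pow_eq_pow_val, ← map_pow, pow_card_eq_one', map_one, Units.val_one]
    obtain ⟨ω, hω⟩ := (norm_char_eq_iff_scalar ρ (c : H)).1 (by
      rw [hv, norm_mul, hl, mul_one, Complex.norm_natCast, Module.finrank_fin_fun])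
    have hd : (d : ℂ) ≠ 0 := Nat.cast_ne_zero.2 (pos_of_irreducible ρ).ne'
    have hωv : ρ.character c = ω * d := by
      show LinearMap.trace ℂ _ (ρ c) = _
      rw [hω, map_smul, LinearMap.trace_id, Module.finrank_fin_fun, smul_eq_mul]
    show ρ.character (h * c) = ρ.character h * _
    show LinearMap.trace ℂ _ (ρ (h * c)) = LinearMap.trace ℂ _ (ρ h) * _
    rw [map_mul, hω, ← Module.End.one_eq_id, mul_smul_comm, mul_one, map_smul, smul_eq_mul,
      mul_comm]
    congr 1
    refine mul_right_cancel₀ hd ?_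
    rw [← hωv, hv, mul_comm]
  -- the character of `Y`
  have hη : IsIrrCharacter Y fun y => (η₀ : H → ℂ) (pr y) * ((lam.comp qC) y : ℂ) :=
    CfsgLib.LinearTwist.isIrr_mul_hom
      (CfsgLib.Clifford.isIrrCharacter_pullback η₀.2 pr hprsurj) (lam.comp qC)
  refine ⟨⟨_, hη⟩, fun x y => ?_, fun c y => ?_⟩
  · set y' : Y := ⟨x * y * x⁻¹, hY.conj_mem y y.2 x⟩
    obtain ⟨h1, h2⟩ := huniq y' (qC y) ⟨x * pr y * x⁻¹, hH.conj_mem _ (pr y).2 x⟩ (hqC y) (by
      show x * (y : X) * x⁻¹ = (qC y : X) * (x * (pr y : X) * x⁻¹)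
      rw [hdec y, ← mul_assoc x, (hcomm _ (qC y).2 x).eq]
      simp only [mul_assoc])
    show (η₀ : H → ℂ) (pr y') * (lam (qC y') : ℂ) = (η₀ : H → ℂ) (pr y) * (lam (qC y) : ℂ)
    rw [show qC y' = qC y from Subtype.ext h1, h2]
    congr 1
    obtain ⟨⟨a, s⟩, has⟩ := hS.2 x
    have has' : (a : X) * (s : X) = x := has
    rw [← hη₀ s (pr y)]
    refine Eq.trans ?_ (irr_isClassFunction η₀ (act s (pr y)) a)
    refine congrArg (η₀ : H → ℂ) (Subtype.ext ?_)
    simp only [Subgroup.coe_mul, InvMemClass.coe_inv, act, subgroupAct_coe, ← has', mul_inv_rev,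
      mul_assoc]
  · set cY : Y := ⟨(c : X), hCY c.2⟩
    have hprc : (pr cY : X) ∈ C := by
      have h := hdec cY
      have : (pr cY : X) = (qC cY : X)⁻¹ * (c : X) := by
        rw [show (c : X) = (cY : X) from rfl, h, inv_mul_cancel_left]
      rw [this]
      exact C.mul_mem (C.inv_mem (qC cY).2) c.2
    show (η₀ : H → ℂ) (pr (y * cY)) * (lam (qC (y * cY)) : ℂ) =
      (η₀ : H → ℂ) (pr y) * (lam (qC y) : ℂ) * (lam c : ℂ)
    rw [map_mul, map_mul, map_mul, Units.val_mul, hη₀D (pr y) ⟨pr cY, hprc⟩]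
    have hc : c = qC cY * fD ⟨pr cY, hprc⟩ := Subtype.ext (hdec cY)
    conv_rhs => rw [hc, map_mul, Units.val_mul]
    ring

/-- The invariant constituent. -/
theorem exists_inv_over_of_solvable_operators {Γ : Type u} [Group Γ] [Finite Γ]
    (G N : Subgroup Γ) [hG : G.Normal] [hN : N.Normal] [Fintype N] (hNG : N ≤ G)
    (hcop : (G.index).Coprime (N.relIndex G)) (hsolv : Group.IsSolvable (Γ ⧸ G))
    (θ : IrrCharacter N)
    (hinv : ∀ (x : Γ) (n : N),
      (θ : N → ℂ) ⟨x * n * x⁻¹, hN.conj_mem n n.2 x⟩ = (θ : N → ℂ) n) :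
    ∃ χ : IrrCharacter G,
      classInner (fun n : N => (χ : G → ℂ) ⟨n, hNG n.2⟩) (θ : N → ℂ) ≠ 0 ∧
      ∀ (x : Γ) (g : G), (χ : G → ℂ) ⟨x * g * x⁻¹, hG.conj_mem g g.2 x⟩ = (χ : G → ℂ) g := by
  classical
  obtain ⟨L, _, _, π, σ, j, hπ, hσ, hπj, hσj, hj, hker⟩ := exists_lift N θ hinv
  haveI := hj
  have hjinj : Function.Injective j := fun a b h => Subtype.ext (by rw [← hπj a, h, hπj])
  let φ : L ⧸ j.range →* Γ ⧸ N := QuotientGroup.lift j.range ((QuotientGroup.mk' N).comp π) (by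
    rintro _ ⟨n, rfl⟩
    rw [MonoidHom.mem_ker, MonoidHom.comp_apply, hπj]
    exact (QuotientGroup.eq_one_iff _).2 n.2)
  let ψ : L ⧸ j.range →* Γ ⧸ G := QuotientGroup.lift j.range ((QuotientGroup.mk' G).comp π) (by
    rintro _ ⟨n, rfl⟩
    rw [MonoidHom.mem_ker, MonoidHom.comp_apply, hπj]
    exact (QuotientGroup.eq_one_iff _).2 (hNG n.2))
  have hφs : Function.Surjective φ := by
    intro q
    obtain ⟨g, rfl⟩ := QuotientGroup.mk_surjective q
    obtain ⟨l, rfl⟩ := hπ g
    exact ⟨(l : L ⧸ j.range), rfl⟩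
  have hψs : Function.Surjective ψ := by
    intro q
    obtain ⟨g, rfl⟩ := QuotientGroup.mk_surjective q
    obtain ⟨l, rfl⟩ := hπ g
    exact ⟨(l : L ⧸ j.range), rfl⟩
  let Y : Subgroup (L ⧸ j.range) := ψ.ker
  let C : Subgroup (L ⧸ j.range) := φ.ker
  have hmemY : ∀ l : L, (l : L ⧸ j.range) ∈ Y ↔ π l ∈ G := fun l => by
    rw [MonoidHom.mem_ker]
    exact QuotientGroup.eq_one_iff (π l)
  have hCz : ∀ q ∈ C, ∃ z, π z = 1 ∧ (z : L ⧸ j.range) = q := by
    intro q hq
    obtain ⟨l, rfl⟩ := QuotientGroup.mk_surjective q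
    have hl : π l ∈ N := (QuotientGroup.eq_one_iff (π l)).1 hq
    refine ⟨l * (j ⟨π l, hl⟩)⁻¹, by rw [map_mul, map_inv, hπj, mul_inv_cancel], ?_⟩
    rw [QuotientGroup.mk_mul, QuotientGroup.mk_inv,
      (QuotientGroup.eq_one_iff (N := j.range) (j ⟨π l, hl⟩)).2 ⟨_, rfl⟩, inv_one, mul_one]
  have hCY : C ≤ Y := fun q hq => by
    obtain ⟨z, hz, rfl⟩ := hCz q hq
    rw [hmemY, hz]
    exact G.one_mem
  have hCc : C ≤ Subgroup.center (L ⧸ j.range) := fun q hq => by
    obtain ⟨z, hz, rfl⟩ := hCz q hq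
    refine Subgroup.mem_center_iff.2 fun w => ?_
    obtain ⟨l, rfl⟩ := QuotientGroup.mk_surjective w
    rw [← QuotientGroup.mk_mul, ← QuotientGroup.mk_mul,
      Subgroup.mem_center_iff.1 (hker z hz).1 l]
  have hY : Y.index = G.index := by
    rw [Subgroup.index_ker, MonoidHom.range_eq_top.2 hψs, Subgroup.card_top,
      ← Subgroup.index_eq_card]
  have hC : C.index = N.index := by
    rw [Subgroup.index_ker, MonoidHom.range_eq_top.2 hφs, Subgroup.card_top,
      ← Subgroup.index_eq_card]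
  have hrel : C.relIndex Y = N.relIndex G := by
    have h1 := Subgroup.relIndex_mul_index hCY
    rw [hC, hY, ← Subgroup.relIndex_mul_index hNG] at h1
    exact Nat.eq_of_mul_eq_mul_right (Nat.pos_of_ne_zero Subgroup.index_ne_zero_of_finite) h1
  -- the scalars
  let d : ℂ := (θ : N → ℂ) 1
  have hd : d ≠ 0 := irr_one_ne_zero θ
  have hσ1 : σ 1 = d := by rw [← map_one j, hσj]
  have hscal : ∀ z, π z = 1 → σ z / d ≠ 0 ∧ ∀ y, σ (y * z) = σ z / d * σ y := by
    intro z hz
    obtain ⟨c, hc⟩ := (hker z hz).2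
    have h1 : σ z / d = (c : ℂ) := by
      rw [← one_mul z, hc, hσ1, mul_div_assoc, div_self hd, mul_one]
    rw [h1]
    exact ⟨c.ne_zero, hc⟩
  let ν : π.ker →* ℂˣ := MonoidHom.mk'
    (fun z => (Units.mk0 (σ (z : L) / d) (hscal z z.2).1)⁻¹) fun a b => by
      rw [← mul_inv]
      congr 1
      ext
      simp only [Units.val_mk0, Units.val_mul, Subgroup.coe_mul]
      rw [(hscal b b.2).2, mul_comm (σ (a : L) / d), mul_div_assoc]
  let mkC : π.ker →* C := ((QuotientGroup.mk' j.range).comp π.ker.subtype).codRestrict C fun z =>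
    (QuotientGroup.eq_one_iff (π (z : L))).2 (by rw [z.2]; exact N.one_mem)
  have hmkC : Function.Bijective mkC := by
    refine ⟨(injective_iff_map_eq_one mkC).2 fun z hz => ?_, fun q => ?_⟩
    · obtain ⟨n, hn⟩ := (QuotientGroup.eq_one_iff (z : L)).1 (congrArg Subtype.val hz)
      have : (n : Γ) = 1 := by rw [← hπj n, hn]; exact z.2
      refine Subtype.ext ?_
      rw [← hn, show n = 1 from Subtype.ext this, map_one, Subgroup.coe_one]
    · obtain ⟨z, hz, he⟩ := hCz q q.2
      exact ⟨⟨z, hz⟩, Subtype.ext he⟩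
  let lam : C →* ℂˣ := ν.comp (MulEquiv.ofBijective mkC hmkC).symm.toMonoidHom
  obtain ⟨η, hηinv, hηC⟩ := exists_inv_central Y C hCY hCc lam (by rw [hY, hrel]; exact hcop)
    (by
      haveI := hsolv
      exact Group.isSolvable_of_isSolvable_injective
        (f := (QuotientGroup.kerLift ψ : (L ⧸ j.range) ⧸ Y →* Γ ⧸ G))
        (QuotientGroup.kerLift_injective ψ))
  -- the character on the preimage of `G`
  let Yt : Subgroup L := G.comap π
  haveI : Fintype Yt := Fintype.ofFinite Yt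
  let f : Yt →* Y := ((QuotientGroup.mk' j.range).comp Yt.subtype).codRestrict Y fun y =>
    (hmemY y).2 y.2
  have hf : Function.Surjective f := by
    rintro ⟨q, hq⟩
    obtain ⟨l, rfl⟩ := QuotientGroup.mk_surjective q
    exact ⟨⟨l, (hmemY l).1 hq⟩, rfl⟩
  let σY : Yt → ℂ := fun y => σ y
  have hσY : IsCharacter Yt σY := CfsgLib.Clifford.isCharacter_pullback hσ Yt.subtype
  let ηt : Yt → ℂ := fun y => (η : Y → ℂ) (f y)
  have hηt : IsIrrCharacter Yt ηt := CfsgLib.Clifford.isIrrCharacter_pullback η.2 f hf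
  let F : Yt → ℂ := fun y => σY y * ηt y
  have hFc : IsCharacter Yt F := isCharacter_mul hσY (isCharacter_of_irr hηt)
  let jY : N →* Yt := j.codRestrict Yt fun n => by
    show π (j n) ∈ G
    rw [hπj]; exact hNG n.2
  have hjYinj : Function.Injective jY := fun a b h => hjinj (congrArg Subtype.val h)
  haveI : jY.range.Normal := ⟨by
    rintro _ ⟨n, rfl⟩ g
    obtain ⟨n', hn'⟩ := hj.conj_mem _ ⟨n, rfl⟩ (g : L)
    exact ⟨n', Subtype.ext hn'⟩⟩
  haveI : Fintype jY.range := Fintype.ofFinite _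
  have hfj : ∀ n, f (jY n) = 1 := fun n =>
    Subtype.ext ((QuotientGroup.eq_one_iff (j n)).2 ⟨n, rfl⟩)
  have hFirr : IsIrrCharacter Yt F := by
    refine CfsgLib.Clifford.isIrr_of_norm_one hFc ?_
    have hres : IsIrrCharacter jY.range fun x : jY.range => σY x := by
      let e := MonoidHom.ofInjective hjYinj
      convert (twistIrr e.symm θ).2 using 1
      funext x
      obtain ⟨n, rfl⟩ := e.surjective x
      show σ (j n) = (θ : N → ℂ) (e.symm (e n))
      rw [e.symm_apply_apply, hσj]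
    have hone : avgN jY.range (fun y => σY y * conj (σY y)) = fun _ => 1 :=
      pairAvg_self jY.range hσY hres
    have h := classInner_avgN_left jY.range (fun y => σY y * conj (σY y))
      (f := fun y => ηt y * conj (ηt y)) (by
        rintro ⟨_, n, rfl⟩ y
        simp only [ηt, map_mul, hfj, one_mul])
    rw [hone] at h
    have h2 : classInner ηt ηt = 1 := classInner_irr_self hηt
    refine Eq.trans ?_ h2
    unfold classInner at h ⊢
    refine Eq.trans ?_ (h.symm.trans ?_)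
    · congr 1
      exact Finset.sum_congr rfl fun y _ => by simp [F]; ring
    · congr 1
      exact Finset.sum_congr rfl fun y _ => by simp; ring
  let πY : Yt →* G := (π.comp Yt.subtype).codRestrict G fun y => y.2
  have hπY : Function.Surjective πY := by
    rintro ⟨g, hg⟩
    obtain ⟨l, rfl⟩ := hπ g
    exact ⟨⟨l, hg⟩, rfl⟩
  have hconst : ∀ a b : Yt, πY a = πY b → F a = F b := by
    intro a b hab
    have hz : π ((b : L)⁻¹ * a) = 1 := by
      rw [map_mul, map_inv, show π (a : L) = π (b : L) from congrArg Subtype.val hab,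
        inv_mul_cancel]
    set z : π.ker := ⟨(b : L)⁻¹ * a, hz⟩
    have h1 : σY a = σ (z : L) / d * σY b := by
      show σ (a : L) = σ (z : L) / d * σ (b : L)
      rw [← (hscal z hz).2 (b : L), mul_inv_cancel_left]
    have h2 : ηt a = ηt b * (lam (mkC z) : ℂ) := by
      show (η : Y → ℂ) (f a) = _
      rw [← hηC (mkC z) (f b)]
      refine congrArg (η : Y → ℂ) (Subtype.ext ?_)
      show ((a : L) : L ⧸ j.range) = ((b : L) : L ⧸ j.range) * (((b : L)⁻¹ * a : L) : L ⧸ j.range)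
      rw [← QuotientGroup.mk_mul, mul_inv_cancel_left]
    have h3 : (lam (mkC z) : ℂ) = (σ (z : L) / d)⁻¹ := by
      show (ν ((MulEquiv.ofBijective mkC hmkC).symm (mkC z)) : ℂ) = _
      rw [show mkC z = MulEquiv.ofBijective mkC hmkC z from rfl, MulEquiv.symm_apply_apply]
      show (((Units.mk0 (σ (z : L) / d) _)⁻¹ : ℂˣ) : ℂ) = _
      rw [Units.val_inv_eq_inv_val, Units.val_mk0]
    show σY a * ηt a = σY b * ηt b
    rw [h1, h2, h3]
    have hne := (hscal z hz).1
    generalize σ (z : L) / d = w at hne ⊢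
    field_simp
  let χ : G → ℂ := fun g => F (Function.surjInv hπY g)
  have hχF : ∀ y, χ (πY y) = F y := fun y => hconst _ _ (Function.surjInv_eq hπY _)
  have hχ : IsIrrCharacter G χ := CfsgLib.CharCorrQ.isIrrCharacter_of_pullback πY hπY (by
    convert hFirr using 1
    funext y
    exact hχF y)
  refine ⟨⟨χ, hχ⟩, ?_, fun x g => ?_⟩
  · have e : (fun n : N => χ ⟨n, hNG n.2⟩) = (η : Y → ℂ) 1 • (θ : N → ℂ) := by
      funext n
      rw [show (⟨(n : Γ), hNG n.2⟩ : G) = πY (jY n) from Subtype.ext (hπj n).symm, hχF]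
      show σ (j n) * (η : Y → ℂ) (f (jY n)) = _
      rw [hσj, hfj]
      exact mul_comm _ _
    show classInner (fun n : N => χ ⟨n, hNG n.2⟩) (θ : N → ℂ) ≠ 0
    rw [e, classInner_smul_left, classInner_irr_self θ.2, mul_one]
    exact irr_one_ne_zero η
  · obtain ⟨l, rfl⟩ := hπ x
    obtain ⟨y, rfl⟩ := hπY g
    have hmem : l * y * l⁻¹ ∈ Yt := by
      show π (l * y * l⁻¹) ∈ G
      rw [map_mul, map_mul, map_inv]
      exact hG.conj_mem _ y.2 _
    show χ ⟨π l * (π (y : L)) * (π l)⁻¹, _⟩ = χ (πY y)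
    rw [show (⟨π l * (π (y : L)) * (π l)⁻¹, hG.conj_mem _ y.2 _⟩ : G) = πY ⟨_, hmem⟩ from
      Subtype.ext (show π l * π (y : L) * (π l)⁻¹ = π (l * y * l⁻¹) by simp), hχF, hχF]
    show σ (l * y * l⁻¹) * (η : Y → ℂ) (f ⟨_, hmem⟩) = σ (y : L) * (η : Y → ℂ) (f y)
    rw [isClassFunction_of_isCharacter hσ (y : L) l, ← hηinv (l : L ⧸ j.range) (f y)]
    rfl

end CfsgLib.InvariantTriple
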