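import Cfsg.Agent.Lib.CharCorr.Solvable
import Cfsg.Agent.Lib.Characters.Ramified
import Cfsg.Agent.Lib.Characters.LinearTwist
import Cfsg.Agent.Lib.Characters.ExtensionUnique
import Cfsg.Agent.Lib.Characters.NormalRes

/-!
# Characters of degree prime to the order of a coprime complement
-/

set_option autoImplicit false
set_option linter.style.haveILetI false
set_option linter.unusedSectionVars false

noncomputable section

namespace CfsgLib.CoprimeDegree

open Cfsg CfsgLib.Characters CfsgLib.CharCorr CfsgLib.CharExtension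
open scoped ComplexConjugate

universe u v

/-- Coprime solvable operators fix as many characters as there are characters of the fixed
points. -/
theorem card_inv_eq_card_irr_fixed (n : ℕ) : ∀ (S : Type u) [Group S] [Finite S] (G : Type v)
    [Group G] [Finite G] (act : S →* MulAut G), Nat.card S = n → Group.IsSolvable S →
    (Nat.card G).Coprime (Nat.card S) →
    Nat.card {χ : IrrCharacter G // Inv act χ} = Nat.card (IrrCharacter (fixedSub act)) := by
  induction n using Nat.strong_induction_on with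
  | _ n ih =>
  intro S _ _ G _ _ act hn hsolv hcop
  classical
  have : Fintype G := Fintype.ofFinite G
  by_cases hS : Nontrivial S
  · obtain ⟨p, A, hp, hA, hAp, hAne⟩ := exists_normal_pGroup hsolv
    haveI := hA
    haveI : Fact p.Prime := ⟨hp⟩
    have hpS : p ∣ Nat.card S := by
      obtain ⟨k, hk⟩ := IsPGroup.iff_card.1 hAp
      refine dvd_trans ?_ A.card_subgroup_dvd_card
      rcases k with _ | k
      · exact absurd (Subgroup.card_eq_one.1 (by simpa using hk)) hAne
      · exact hk ▸ dvd_pow_self p (Nat.succ_ne_zero k)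
    have hpG : ¬ p ∣ Nat.card G := fun h =>
      Nat.not_coprime_of_dvd_of_dvd hp.one_lt h hpS hcop
    rw [card_inv_step act A hp hAp hpG, ih (Nat.card (S ⧸ A)) (by
        rw [← hn, Subgroup.card_eq_card_quotient_mul_card_subgroup A]
        exact lt_mul_of_one_lt_right Nat.card_pos ((Subgroup.one_lt_card_iff_ne_bot A).2 hAne))
      (S ⧸ A) _ (quotAct act A) rfl inferInstance
      ((hcop.coprime_dvd_left (Subgroup.card_subgroup_dvd_card _)).coprime_dvd_right
        (Dvd.intro _ (Subgroup.card_eq_card_quotient_mul_card_subgroup A).symm))]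
    let e : fixedSub act ≃* fixedSub (quotAct act A) :=
      { toFun := fun x => ⟨⟨x, fun a => x.2 a⟩, fun q => QuotientGroup.induction_on q fun s =>
          Subtype.ext (x.2 s)⟩
        invFun := fun x => ⟨x.1.1, fun s => congrArg Subtype.val (x.2 (s : S ⧸ A))⟩
        left_inv := fun x => rfl
        right_inv := fun x => rfl
        map_mul' := fun x y => rfl }
    exact Nat.card_congr
      { toFun := fun χ => twistIrr e χ
        invFun := fun χ => twistIrr e.symm χ
        left_inv := fun χ => Subtype.ext (funext fun g => congrArg (χ : _ → ℂ) (e.apply_symm_apply g))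
        right_inv := fun χ => Subtype.ext (funext fun g => congrArg (χ : _ → ℂ) (e.symm_apply_apply g)) }
  · haveI : Subsingleton S := not_nontrivial_iff_subsingleton.1 hS
    have h1 : ∀ χ : IrrCharacter G, Inv act χ := fun χ s g => by
      rw [Subsingleton.elim s 1, map_one]; rfl
    let e : fixedSub act ≃* G :=
      MulEquiv.ofBijective (fixedSub act).subtype ⟨Subgroup.subtype_injective _, fun g =>
        ⟨⟨g, fun s => by rw [Subsingleton.elim s 1, map_one]; rfl⟩, rfl⟩⟩
    rw [Nat.card_congr (Equiv.subtypeUnivEquiv h1)]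
    exact Nat.card_congr
      { toFun := fun χ => twistIrr e χ
        invFun := fun χ => twistIrr e.symm χ
        left_inv := fun χ => Subtype.ext (funext fun g => congrArg (χ : _ → ℂ) (e.apply_symm_apply g))
        right_inv := fun χ => Subtype.ext (funext fun g => congrArg (χ : _ → ℂ) (e.symm_apply_apply g)) }

/-- The count over a coprime complement. -/
theorem card_coprime_degree {G : Type u} [Group G] [Finite G] (K H : Subgroup G) [K.Normal]
    (hKH : Subgroup.IsComplement' K H) (hcop : (Nat.card K).Coprime (Nat.card H)) :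
    Nat.card {χ : IrrCharacter G // (charDegree (χ : G → ℂ)).Coprime (Nat.card H)} =
      Nat.card {θ : IrrCharacter K //
        Inv (subgroupAct K H fun h _ k hk => ‹K.Normal›.conj_mem k hk h) θ} *
        Nat.card (H →* ℂˣ) := by
  classical
  haveI : Fintype G := Fintype.ofFinite G
  haveI : Fintype K := Fintype.ofFinite K
  have hidx : K.index = Nat.card H := hKH.symm.index_eq_card
  let act := subgroupAct K H fun h _ k hk => ‹K.Normal›.conj_mem k hk h
  -- invariance under the complement is invariance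
  have hinvG : ∀ θ : IrrCharacter K, Inv act θ → ∀ (g : G) (k : K),
      (θ : K → ℂ) ⟨g * k * g⁻¹, ‹K.Normal›.conj_mem k k.2 g⟩ = (θ : K → ℂ) k := by
    intro θ hθ g k
    obtain ⟨⟨a, h⟩, hah⟩ := hKH.2 g
    have hah' : (a : G) * (h : G) = g := hah
    rw [← hθ h k]
    refine Eq.trans ?_ (irr_isClassFunction θ (act h k) a)
    refine congrArg (θ : K → ℂ) (Subtype.ext ?_)
    simp only [Subgroup.coe_mul, InvMemClass.coe_inv, act, subgroupAct_coe, ← hah', mul_inv_rev,
      mul_assoc]
  -- projection to the complement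
  have hK1 : Function.Bijective ((QuotientGroup.mk' K).comp H.subtype) := by
    refine ⟨(injective_iff_map_eq_one _).2 fun h hh => Subtype.ext ?_, fun q => ?_⟩
    · exact Subgroup.disjoint_def.1 hKH.disjoint ((QuotientGroup.eq_one_iff (h : G)).1 hh) h.2
    · obtain ⟨g, rfl⟩ := QuotientGroup.mk_surjective q
      obtain ⟨⟨a, h⟩, hah⟩ := hKH.2 g
      refine ⟨h, ?_⟩
      show ((h : G) : G ⧸ K) = (g : G ⧸ K)
      rw [← hah, QuotientGroup.mk_mul, (QuotientGroup.eq_one_iff (a : G)).2 a.2, one_mul]
  let pr : G →* H :=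
    (MulEquiv.ofBijective _ hK1).symm.toMonoidHom.comp (QuotientGroup.mk' K)
  have hprH : ∀ h : H, pr h = h := fun h =>
    (MulEquiv.ofBijective _ hK1).symm_apply_apply h
  have hprK : ∀ k ∈ K, pr k = 1 := fun k hk => by
    show (MulEquiv.ofBijective _ hK1).symm ((k : G ⧸ K)) = 1
    rw [(QuotientGroup.eq_one_iff k).2 hk, map_one]
  have hcompK : ∀ (f : H →* ℂˣ) (k : G), k ∈ K → (f.comp pr) k = 1 := fun f k hk =>
    (congrArg f (hprK k hk)).trans (map_one f)
  have hcompH : ∀ (f : H →* ℂˣ) (h : H), (f.comp pr) h = f h := fun f h => congrArg f (hprH h)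
  have hdecomp : ∀ g, g * (pr g : G)⁻¹ ∈ K := by
    intro g
    rw [← QuotientGroup.eq_one_iff, QuotientGroup.mk_mul, QuotientGroup.mk_inv, mul_inv_eq_one]
    exact ((MulEquiv.ofBijective _ hK1).apply_symm_apply (g : G ⧸ K)).symm
  -- every invariant character extends
  have hdegK : ∀ θ : IrrCharacter K, K.index.Coprime (charDegree (θ : K → ℂ)) := fun θ => by
    rw [hidx]
    exact (hcop.coprime_dvd_left (charDegree_irr_dvd_card θ)).symm
  have hext : ∀ θ : {θ : IrrCharacter K // Inv act θ}, ∃ χ : G → ℂ,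
      IsIrrCharacter G χ ∧ ∀ k : K, χ k = (θ.1 : K → ℂ) k := by
    intro θ
    obtain ⟨hDc, hD1⟩ := isCharacter_detChar K θ.1.2
    obtain ⟨D, hD⟩ := CfsgLib.LinearExt.exists_unitsHom hDc hD1
    have hDinv : ∀ (g : G) (k : K),
        D ⟨g * k * g⁻¹, ‹K.Normal›.conj_mem k k.2 g⟩ = D k := fun g k => Units.ext (by
      have h := detChar_invariant K θ.1.2 (hinvG θ.1 θ.2) g k
      rw [hD] at h
      exact h)
    let μ : G →* ℂˣ := MonoidHom.mk' (fun g => D ⟨g * (pr g : G)⁻¹, hdecomp g⟩) fun a b => by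
      have e : (⟨a * b * ((pr (a * b) : H) : G)⁻¹, hdecomp (a * b)⟩ : K) =
          ⟨a * (pr a : G)⁻¹, hdecomp a⟩ *
            ⟨(pr a : G) * (⟨b * (pr b : G)⁻¹, hdecomp b⟩ : K) * (pr a : G)⁻¹,
              ‹K.Normal›.conj_mem _ (hdecomp b) _⟩ := by
        refine Subtype.ext ?_
        simp only [Subgroup.coe_mul, map_mul, mul_inv_rev]
        group
      rw [e, map_mul, hDinv]
    refine extends_of_det K θ.1.2 (hinvG θ.1 θ.2) (charDegree (θ.1 : K → ℂ))
      (irr_one_eq_charDegree θ.1) (hdegK θ.1) (fun g => (μ g : ℂ))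
      (isCharacter_of_irr (isIrrCharacter_of_hom μ)) (by simp) fun k => ?_
    show (D _ : ℂ) = _
    rw [hD]
    congr 2
    refine Subtype.ext ?_
    show (k : G) * ((pr k : H) : G)⁻¹ = (k : G)
    simp [hprK (k : G) k.2]
  choose E hE hEK using hext
  -- the parametrisation
  let Φ : {θ : IrrCharacter K // Inv act θ} × (H →* ℂˣ) →
      {χ : IrrCharacter G // (charDegree (χ : G → ℂ)).Coprime (Nat.card H)} := fun p =>
    ⟨⟨fun g => E p.1 g * ((p.2.comp pr) g : ℂ),
      CfsgLib.LinearTwist.isIrr_mul_hom (hE p.1) _⟩, by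
      have h1 : (E p.1 1 * ((p.2.comp pr) 1 : ℂ)) = (p.1.1 : K → ℂ) 1 := by
        rw [map_one, Units.val_one, mul_one]
        exact hEK p.1 1
      simp only [charDegree, h1]
      exact hidx ▸ (hdegK p.1.1).symm⟩
  rw [← Nat.card_prod]
  refine (Nat.card_eq_of_bijective Φ ⟨fun p q hpq => ?_, fun χ => ?_⟩).symm
  · have hv : ∀ g, E p.1 g * ((p.2.comp pr) g : ℂ) = E q.1 g * ((q.2.comp pr) g : ℂ) :=
      fun g => congrFun (congrArg Subtype.val (congrArg Subtype.val hpq)) g
    have hθ : p.1 = q.1 := by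
      refine Subtype.ext (Subtype.ext (funext fun k => ?_))
      have := hv k
      rwa [hcompK _ k k.2, hcompK _ k k.2, Units.val_one,
        mul_one, mul_one, hEK, hEK] at this
    obtain ⟨θ, f⟩ := p
    obtain ⟨θ', f'⟩ := q
    cases hθ
    have h := CfsgLib.LinearTwist.hom_eq_of_mul_eq K (isCharacter_of_irr (hE θ))
      (by convert θ.1.2 using 1; exact funext fun k => hEK θ k) (f.comp pr) (f'.comp pr)
      (fun k => by rw [hcompK _ k k.2, hcompK _ k k.2]) hv
    refine Prod.ext rfl (MonoidHom.ext fun h' => ?_)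
    have := DFunLike.congr_fun h (h' : G)
    rwa [hcompH, hcompH] at this
  · obtain ⟨χ, hχ⟩ := χ
    obtain ⟨θ, hθ⟩ := CfsgLib.NormalRes.exists_mult_ne_zero K χ
    obtain ⟨k, hk, hkidx⟩ := CfsgLib.Ramified.degree_ratio_dvd_index K χ.2 θ.2 hθ
    rw [irr_one_eq_charDegree χ, irr_one_eq_charDegree θ, ← Nat.cast_mul, Nat.cast_inj] at hk
    rw [hidx] at hkidx
    have hk1 : k = 1 := Nat.eq_one_of_dvd_coprimes hχ ⟨_, hk⟩ hkidx
    rw [hk1, one_mul] at hk
    obtain ⟨m, hm, hsum⟩ := CfsgLib.Clifford.exists_mult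
      (CfsgLib.Clifford.isCharacter_pullback (irr_isCharacter χ) K.subtype)
    have hres : ∀ x : K, (χ : G → ℂ) x = (θ : K → ℂ) x := by
      have hmθ : m θ ≠ 0 := fun h0 => hθ ((hm θ).trans (by rw [h0, Nat.cast_zero]))
      have h1 := congrFun hsum 1
      simp only [Finset.sum_apply, Pi.smul_apply, smul_eq_mul, irr_one_eq_charDegree] at h1
      rw [map_one, irr_one_eq_charDegree χ, hk] at h1
      norm_cast at h1
      have hle : ∀ ξ, ξ ≠ θ → m ξ = 0 := by
        intro ξ hξ
        have h2 : m θ * charDegree (θ : K → ℂ) + m ξ * charDegree (ξ : K → ℂ) ≤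
            ∑ η : IrrCharacter K, m η * charDegree (η : K → ℂ) := by
          rw [← Finset.sum_pair (f := fun η : IrrCharacter K => m η * charDegree (η : K → ℂ))
            hξ.symm]
          exact Finset.sum_le_sum_of_subset (Finset.subset_univ _)
        rw [← h1] at h2
        have h3 : charDegree (θ : K → ℂ) ≤ m θ * charDegree (θ : K → ℂ) :=
          Nat.le_mul_of_pos_left _ (Nat.pos_of_ne_zero hmθ)
        have h4 : m ξ * charDegree (ξ : K → ℂ) = 0 := by omega
        exact (Nat.mul_eq_zero.1 h4).resolve_right (charDegree_irr_pos ξ).ne'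
      rw [Finset.sum_eq_single θ (fun ξ _ hξ => by rw [hle ξ hξ, zero_mul])
        (fun h => absurd (Finset.mem_univ θ) h)] at h1
      have hm1 : m θ = 1 :=
        Nat.eq_of_mul_eq_mul_right (charDegree_irr_pos θ) (by rw [one_mul]; exact h1.symm)
      intro x
      have := congrFun hsum x
      simp only [Finset.sum_apply, Pi.smul_apply, smul_eq_mul] at this
      rw [Finset.sum_eq_single θ (fun ξ _ hξ => by rw [hle ξ hξ, Nat.cast_zero, zero_mul])
        (fun h => absurd (Finset.mem_univ θ) h), hm1, Nat.cast_one, one_mul] at this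
      exact this
    have hθinv : Inv act θ := fun h x => by
      rw [← hres, ← hres]
      exact irr_isClassFunction χ (x : G) (h : G)
    have hEθ := hEK ⟨θ, hθinv⟩
    obtain ⟨_, d, ρ, hρ, rfl⟩ := θ
    haveI := hρ
    obtain ⟨s, hs, hsc⟩ := exists_hom_of_char_top K ρ (isCharacter_of_irr (hE ⟨_, hθinv⟩)) hEθ
    obtain ⟨t, ht, htc⟩ := exists_hom_of_char_top K ρ (irr_isCharacter χ) hres
    obtain ⟨γ, hγ, hγK⟩ := exists_twist K ρ hs ht
    refine ⟨(⟨_, hθinv⟩, γ.comp H.subtype), Subtype.ext (Subtype.ext (funext fun g => ?_))⟩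
    have hγg : γ (pr g : G) = γ g := by
      conv_rhs => rw [show g = (g * (pr g : G)⁻¹) * (pr g : G) from (inv_mul_cancel_right _ _).symm]
      rw [map_mul, hγK ⟨_, hdecomp g⟩, one_mul]
    show _ * (γ (pr g : G) : ℂ) = (χ : G → ℂ) g
    rw [hγg, ← congrFun hsc g, ← congrFun htc g]
    show LinearMap.trace ℂ _ (s g).1 * _ = LinearMap.trace ℂ _ (t g).1
    rw [hγ g, Units.val_mul]
    show _ = LinearMap.trace ℂ _ (algebraMap ℂ (Module.End ℂ (Fin d → ℂ)) (γ g : ℂ) * (s g).1)
    rw [Algebra.algebraMap_eq_smul_one, smul_mul_assoc, one_mul, map_smul, smul_eq_mul, mul_comm]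

end CfsgLib.CoprimeDegree
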