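import Cfsg.Agent.Lib.CharCorr.CyclicGlauberman
import Cfsg.Agent.Lib.Characters.Ito
import Mathlib.Algebra.CharP.Lemmas
import Mathlib.FieldTheory.Finite.Basic

/-!
# Signs of integer valued characters of cyclic groups

A character of a cyclic group of order `n` with values `±1` off the identity is, off the
identity, a sign times a linear character of order at most two, and its degree is congruent
to that sign modulo `n`.
-/

set_option autoImplicit false
set_option linter.style.haveILetI false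
set_option linter.unusedSectionVars false

noncomputable section

namespace CfsgLib.CyclicSigns

open Cfsg CfsgLib.Characters CfsgLib.NormalAvg
open scoped ComplexConjugate

universe u

variable {S : Type u} [Group S] [Finite S]

/-- The `p`-th power of a sum of algebraic integers. -/
theorem exists_sum_pow_eq {R : Type*} [CommRing R] {ι : Type*} (s : Finset ι) (z : ι → R) {p : ℕ}
    (hp : p.Prime) : ∃ w : R, (∑ i ∈ s, z i) ^ p = (∑ i ∈ s, z i ^ p) + (p : R) * w := by
  classical
  induction s using Finset.induction_on with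
  | empty => exact ⟨0, by simp [zero_pow hp.ne_zero]⟩
  | @insert a s ha ih =>
    obtain ⟨w, hw⟩ := ih
    obtain ⟨r, hr⟩ := exists_add_pow_prime_eq hp (z a) (∑ i ∈ s, z i)
    rw [Finset.sum_insert ha, Finset.sum_insert ha, hr, hw]
    exact ⟨w + z a * (∑ i ∈ s, z i) * r, by ring⟩

/-- Integer values at `t` and `t ^ p` are congruent modulo `p`. -/
theorem modEq_pow_prime {f : S → ℂ} (hf : IsCharacter S f) (t : S) {p : ℕ} (hp : p.Prime)
    {a b : ℤ} (ha : f t = a) (hb : f (t ^ p) = b) : a ≡ b [ZMOD p] := by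
  obtain ⟨N, z, hz, h⟩ := CfsgLib.CharGalois.exists_root_decomp hf t
  have hzi : ∀ i, IsIntegral ℤ (z i) := fun i =>
    IsIntegral.of_pow Nat.card_pos (by rw [hz i]; exact isIntegral_one)
  let Z : Fin N → integralClosure ℤ ℂ := fun i => ⟨z i, hzi i⟩
  obtain ⟨w, hw⟩ := exists_sum_pow_eq Finset.univ Z hp
  have hw' : (a : ℂ) ^ p = (b : ℂ) + (p : ℂ) * (w : ℂ) := by
    have h0 := congrArg (fun x : integralClosure ℤ ℂ => (x : ℂ)) hw
    push_cast at h0
    have h1 := h 1
    simp only [pow_one] at h1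
    rw [← ha, h1, ← hb, h p]
    exact h0
  have hp0 : (p : ℂ) ≠ 0 := Nat.cast_ne_zero.2 hp.ne_zero
  have hwq : (w : ℂ) = ((((a ^ p - b : ℤ) : ℚ) / (p : ℚ) : ℚ) : ℂ) := by
    push_cast
    field_simp
    linear_combination -hw'
  obtain ⟨z₀, hz₀⟩ := exists_int_of_isIntegral_rat
    (q := ((a ^ p - b : ℤ) : ℚ) / (p : ℚ)) (hwq ▸ w.2)
  have hdvd : a ^ p - b = (p : ℤ) * z₀ := by
    have : ((a ^ p - b : ℤ) : ℚ) = ((p : ℤ) * z₀ : ℤ) := by
      have hp0' : (p : ℚ) ≠ 0 := Nat.cast_ne_zero.2 hp.ne_zero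
      rw [Int.cast_mul, Int.cast_natCast, hz₀, mul_div_cancel₀ _ hp0']
    exact_mod_cast this
  haveI := Fact.mk hp
  have h3 : a ≡ a ^ p [ZMOD p] := by
    rw [← ZMod.intCast_eq_intCast_iff, Int.cast_pow, ZMod.pow_card]
  exact h3.trans (Int.modEq_of_dvd ⟨-z₀, by linarith⟩)

/-- Integer values sum over a coset of a cyclic subgroup to a multiple of its order. -/
theorem dvd_sum_coset (hcomm : ∀ a b : S, a * b = b * a) {f : S → ℂ} (hf : IsCharacter S f)
    (x v : S) (F : ℕ → ℤ) (hF : ∀ i, i < orderOf v → f (x * v ^ i) = F i) :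
    (orderOf v : ℤ) ∣ ∑ i ∈ Finset.range (orderOf v), F i := by
  classical
  haveI : Fintype S := Fintype.ofFinite S
  let T := Subgroup.zpowers v
  haveI : T.Normal := ⟨fun a ha g => by rwa [hcomm g a, mul_inv_cancel_right]⟩
  haveI : Fintype T := Fintype.ofFinite T
  have hc := isCharacter_avgN T hf
  have hval : avgN T f x = (orderOf v : ℂ)⁻¹ * ((∑ i ∈ Finset.range (orderOf v), F i : ℤ) : ℂ) := by
    rw [avgN, Nat.card_zpowers]
    congr 1
    rw [Int.cast_sum, ← Fin.sum_univ_eq_sum_range (fun i => ((F i : ℤ) : ℂ))]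
    refine (Fintype.sum_equiv (finEquivZPowers (isOfFinOrder_of_finite v)) _ _ fun i => ?_).symm
    show ((F i : ℤ) : ℂ) = f (v ^ (i : ℕ) * x)
    rw [← hF i i.2, hcomm]
  have h0 : (orderOf v : ℚ) ≠ 0 := Nat.cast_ne_zero.2 (orderOf_pos v).ne'
  obtain ⟨z, hz⟩ := exists_int_of_isIntegral_rat
    (q := ((∑ i ∈ Finset.range (orderOf v), F i : ℤ) : ℚ) / (orderOf v : ℚ)) (by
      have := isIntegral_of_isCharacter hc x
      rw [hval] at this
      convert this using 1
      rw [Rat.cast_div, Rat.cast_intCast, Rat.cast_natCast, div_eq_inv_mul])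
  refine ⟨z, ?_⟩
  have : ((∑ i ∈ Finset.range (orderOf v), F i : ℤ) : ℚ) = ((orderOf v : ℤ) * z : ℤ) := by
    rw [Int.cast_mul, Int.cast_natCast, hz, mul_div_cancel₀ _ h0]
  exact_mod_cast this

theorem sum_range_two_mul (F : ℕ → ℤ) (r : ℕ) :
    ∑ i ∈ Finset.range (2 * r), F i =
      ∑ i ∈ Finset.range r, F (2 * i) + ∑ i ∈ Finset.range r, F (2 * i + 1) := by
  induction r with
  | zero => simp
  | succ r ih =>
    rw [show 2 * (r + 1) = 2 * r + 1 + 1 by ring, Finset.sum_range_succ, Finset.sum_range_succ, ih,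
      Finset.sum_range_succ, Finset.sum_range_succ]
    ring

theorem sum_range_const_succ (F : ℕ → ℤ) {r : ℕ} (hr : 0 < r) (e : ℤ)
    (h : ∀ i, i < r → i ≠ 0 → F i = e) :
    ∑ i ∈ Finset.range r, F i = F 0 + ((r : ℤ) - 1) * e := by
  obtain ⟨m, rfl⟩ : ∃ m, r = m + 1 := ⟨r - 1, by omega⟩
  rw [Finset.sum_range_succ', Finset.sum_congr rfl fun i hi => h (i + 1)
    (by rw [Finset.mem_range] at hi; omega) (Nat.succ_ne_zero i), Finset.sum_const,
    Finset.card_range, nsmul_eq_mul]
  push_cast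
  ring

section Signs

variable {f : S → ℂ} (hf : IsCharacter S f) (σ : S → ℤ) (hσ : ∀ t, t ≠ 1 → f t = σ t)
  (hσ1 : ∀ t, t ≠ 1 → σ t = 1 ∨ σ t = -1)

include hf hσ hσ1 in
/-- Odd powers keep the sign. -/
theorem sign_pow_odd (l : ℕ) : ∀ t : S, Odd l → t ^ l ≠ 1 → σ (t ^ l) = σ t := by
  induction l using Nat.strong_induction_on with
  | _ l ih =>
    intro t hl hne
    rcases eq_or_ne l 1 with rfl | hl1
    · rw [pow_one]
    obtain ⟨p, hp, hpl⟩ := Nat.exists_prime_and_dvd hl1
    obtain ⟨q, rfl⟩ := hpl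
    obtain ⟨hpo, hqo⟩ := Nat.odd_mul.1 hl
    have hne' : t ^ p ≠ 1 := fun h => hne (by rw [pow_mul, h, one_pow])
    have ht : t ≠ 1 := fun h => hne (by rw [h, one_pow])
    have hq : q < p * q := by
      have : 0 < q := Nat.pos_of_ne_zero fun h => by simp [h] at hqo
      have := hp.two_le
      nlinarith
    rw [pow_mul] at hne ⊢
    rw [ih q hq (t ^ p) hqo hne]
    have h := modEq_pow_prime hf t hp (hσ t ht) (hσ _ hne')
    have hp3 : 3 ≤ p := by
      rcases hp.eq_two_or_odd with h2 | h2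
      · subst h2; exact absurd hpo (by decide)
      · have := hp.two_le; omega
    rcases hσ1 t ht with h1 | h1 <;> rcases hσ1 _ hne' with h2 | h2 <;> rw [h1, h2] at h ⊢
    · exfalso
      have h3 := Int.le_of_dvd (by norm_num) ((dvd_neg).2 (Int.ModEq.dvd h))
      omega
    · exfalso
      have h3 := Int.le_of_dvd (by norm_num) (Int.ModEq.dvd h)
      omega

include hf hσ hσ1 in
/-- The sign theorem. -/
theorem exists_sign [IsCyclic S] (M : ℤ) (hM : f 1 = M) :
    ∃ ε : ℤ, (ε = 1 ∨ ε = -1) ∧ (∃ μ : S →* ℂˣ, (∀ x, μ x * μ x = 1) ∧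
      ∀ x, x ≠ 1 → f x = (ε : ℂ) * (μ x : ℂ)) ∧ (Nat.card S : ℤ) ∣ M - ε := by
  classical
  haveI : Fintype S := Fintype.ofFinite S
  rcases subsingleton_or_nontrivial S with hss | hnt
  · exact ⟨1, Or.inl rfl, ⟨1, fun x => by simp, fun x hx => absurd (Subsingleton.elim x 1) hx⟩,
      by rw [Nat.card_unique]; exact one_dvd _⟩
  obtain ⟨s, hs⟩ := IsCyclic.exists_generator (α := S)
  have hs' : ∀ x : S, ∃ i : ℕ, s ^ i = x := fun x =>
    (isOfFinOrder_of_finite s).mem_powers_iff_mem_zpowers.2 (hs x)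
  have hcomm : ∀ a b : S, a * b = b * a := fun a b => by
    obtain ⟨i, rfl⟩ := hs' a
    obtain ⟨j, rfl⟩ := hs' b
    rw [← pow_add, ← pow_add, add_comm]
  have hn : orderOf s = Nat.card S := orderOf_eq_card_of_forall_mem_zpowers hs
  set n := Nat.card S with hndef
  have hn0 : 0 < n := Nat.card_pos
  have hn1 : 1 < n := Finite.one_lt_card
  obtain ⟨k, m, hm, hnkm⟩ := Nat.exists_eq_two_pow_mul_odd hn0.ne'
  set g := s ^ 2 ^ k with hg
  set h := s ^ m with hh
  have hmodd : m % 2 = 1 := Nat.odd_iff.1 hm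
  have hgord : orderOf g = m := by
    rw [hg, orderOf_pow_of_dvd (pow_ne_zero _ two_ne_zero) (hn ▸ ⟨m, hnkm⟩), hn, hnkm,
      Nat.mul_div_cancel_left _ (pow_pos two_pos _)]
  have hhord : orderOf h = 2 ^ k := by
    rw [hh, orderOf_pow_of_dvd (by omega : m ≠ 0) (hn ▸ ⟨2 ^ k, by rw [hnkm, mul_comm]⟩), hn, hnkm,
      Nat.mul_div_cancel _ (by omega : 0 < m)]
  -- odd order elements share a sign
  have hodd_sign : ∀ t : S, t ≠ 1 → t ^ m = 1 → σ t = σ g := by
    intro t ht htm
    obtain ⟨i, rfl⟩ := hs' t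
    have hdvd : 2 ^ k ∣ i := by
      rw [← pow_mul] at htm
      have h1 := orderOf_dvd_of_pow_eq_one htm
      rw [hn, hnkm] at h1
      exact Nat.dvd_of_mul_dvd_mul_right (by omega : 0 < m) h1
    obtain ⟨j, rfl⟩ := hdvd
    rw [pow_mul, ← hg] at ht ⊢
    rcases Nat.even_or_odd j with hj | hj
    · have e : g ^ j = g ^ (j + m) := by
        conv_rhs => rw [pow_add, ← hgord, pow_orderOf_eq_one, mul_one]
      rw [e] at ht ⊢
      exact sign_pow_odd hf σ hσ hσ1 _ g (hj.add_odd hm) ht
    · exact sign_pow_odd hf σ hσ hσ1 j g hj ht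
  -- a base point on which the degree is congruent to a sign modulo `2 ^ k`
  obtain ⟨x, ε, F1, hε, hF1, hdiv, hxv, hxg⟩ : ∃ (x : S) (ε F1 : ℤ), (ε = 1 ∨ ε = -1) ∧
      f x = F1 ∧ ((2 : ℤ) ^ k ∣ F1 - ε) ∧
      (∀ v : S, v ^ 2 ^ k = 1 → v ≠ 1 → f (x * v) = σ v) ∧ (1 < m → ε = σ g) := by
    rcases Nat.lt_or_ge 1 m with hm1 | hm1
    · have hg1 : g ≠ 1 := fun e => by rw [e, orderOf_one] at hgord; omega
      refine ⟨g, σ g, σ g, hσ1 g hg1, hσ g hg1, by simp, fun v hv hv1 => ?_, fun _ => rfl⟩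
      have hvm : v ^ m ≠ 1 := fun e => hv1 (orderOf_eq_one_iff.1 (Nat.eq_one_of_dvd_coprimes
        ((Nat.coprime_two_left.2 hm).pow_left k) (orderOf_dvd_of_pow_eq_one hv)
        (orderOf_dvd_of_pow_eq_one e)))
      have hgv : (g * v) ^ m = v ^ m := by
        rw [Commute.mul_pow (hcomm g v), ← hgord, pow_orderOf_eq_one, one_mul, hgord]
      have hgv1 : g * v ≠ 1 := fun e => hvm (by rw [← hgv, e, one_pow])
      rw [hσ _ hgv1]
      norm_cast
      rw [← sign_pow_odd hf σ hσ hσ1 m (g * v) hm (by rw [hgv]; exact hvm), hgv,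
        sign_pow_odd hf σ hσ hσ1 m v hm hvm]
    · have hm' : m = 1 := by omega
      have hn2 : n = 2 ^ k := by rw [hnkm, hm', mul_one]
      -- the norm
      have hcf := isClassFunction_of_isCharacter hf
      obtain ⟨a, ha, hsum⟩ := CfsgLib.Clifford.exists_mult hf
      have hsq := classInner_self_eq_sum_sq hcf (m := fun χ => (a χ : ℤ))
        (fun χ => by rw [ha, Int.cast_natCast])
      have hMa : M = ∑ χ : IrrCharacter S, (a χ : ℤ) := by
        have h1 := congrFun hsum 1
        simp only [Finset.sum_apply, Pi.smul_apply, smul_eq_mul] at h1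
        rw [hM, Finset.sum_congr rfl fun χ _ => by
          rw [show (χ : S → ℂ) 1 = 1 by
            haveI : IsMulCommutative S := ⟨⟨hcomm⟩⟩
            exact CfsgLib.CharIto.degree_one_of_comm χ.2, mul_one]] at h1
        exact_mod_cast h1
      have hnorm : classInner f f = (n : ℂ)⁻¹ * (((M ^ 2 + ((n : ℤ) - 1)) : ℤ) : ℂ) := by
        show (n : ℂ)⁻¹ * _ = _
        congr 1
        rw [← Finset.add_sum_erase _ _ (Finset.mem_univ (1 : S)), hM,
          Finset.sum_congr rfl (fun t ht => by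
            have h1 := Finset.ne_of_mem_erase ht
            rw [hσ t h1]
            rcases hσ1 t h1 with e | e <;> simp [e] : ∀ t ∈ Finset.univ.erase (1 : S),
              f t * conj (f t) = 1),
          Finset.sum_const, Finset.card_erase_of_mem (Finset.mem_univ _), Finset.card_univ,
          ← Nat.card_eq_fintype_card, nsmul_eq_mul, mul_one, Nat.cast_sub (by omega : 1 ≤ n)]
        simp [sq]
      rw [hnorm, inv_mul_eq_iff_eq_mul₀ (Nat.cast_ne_zero.2 hn0.ne')] at hsq
      have hint : M ^ 2 + ((n : ℤ) - 1) = (n : ℤ) * ∑ χ : IrrCharacter S, (a χ : ℤ) ^ 2 := by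
        exact_mod_cast hsq
      have hpar : (2 : ℤ) ∣ (∑ χ : IrrCharacter S, (a χ : ℤ) ^ 2) - M := by
        rw [hMa, ← Finset.sum_sub_distrib]
        refine Finset.dvd_sum fun χ _ => ?_
        have := Int.even_mul_pred_self (a χ : ℤ)
        rw [show (a χ : ℤ) ^ 2 - a χ = (a χ : ℤ) * ((a χ : ℤ) - 1) by ring]
        exact this.two_dvd
      obtain ⟨w, hw⟩ := hpar
      have hk : k ≠ 0 := fun e => by rw [e, pow_zero] at hn2; omega
      obtain ⟨k', rfl⟩ : ∃ k', k = k' + 1 := ⟨k - 1, by omega⟩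
      have hn' : (n : ℤ) = 2 * 2 ^ k' := by rw [hn2]; push_cast; ring
      -- `M` is odd
      have hMo : Odd M := by
        have hh1 : M ^ 2 - 1 = 2 * (2 ^ k' * ((∑ χ : IrrCharacter S, (a χ : ℤ) ^ 2) - 1)) := by
          rw [← mul_assoc, ← hn']
          linarith [hint]
        have h2 : Odd (M ^ 2) := ⟨2 ^ k' * ((∑ χ : IrrCharacter S, (a χ : ℤ) ^ 2) - 1), by linarith⟩
        exact (Int.odd_pow' two_ne_zero).1 h2
      obtain ⟨r, hr⟩ := hMo
      -- `2 n` divides `M ^ 2 - 1`
      have hrr : r * (r + 1) = 2 ^ k' * (w + r) := by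
        refine mul_left_cancel₀ (show (4 : ℤ) ≠ 0 by norm_num) ?_
        have e1 : M ^ 2 - 1 = (n : ℤ) * ((2 * w + M) - 1) := by rw [← hw]; linarith [hint]
        rw [hr, hn'] at e1
        linarith
      have hε' : (2 : ℤ) ^ k' ∣ r ∨ (2 : ℤ) ^ k' ∣ r + 1 := by
        rcases Int.even_or_odd r with he | ho
        · left
          have hco : IsCoprime ((2 : ℤ) ^ k') (r + 1) := by
            refine IsCoprime.pow_left ?_
            exact (Prime.coprime_iff_not_dvd Int.prime_two).2 (by obtain ⟨c, rfl⟩ := he; omega)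
          exact hco.dvd_of_dvd_mul_right ⟨w + r, hrr⟩
        · right
          have hco : IsCoprime ((2 : ℤ) ^ k') r := by
            refine IsCoprime.pow_left ?_
            exact (Prime.coprime_iff_not_dvd Int.prime_two).2 (by obtain ⟨c, rfl⟩ := ho; omega)
          exact hco.dvd_of_dvd_mul_left ⟨w + r, hrr⟩
      rcases hε' with ⟨c, hc⟩ | ⟨c, hc⟩
      · refine ⟨1, 1, M, Or.inl rfl, hM, ⟨c, by rw [hr, hc, pow_succ]; ring⟩,
          fun v _ hv => by rw [one_mul]; exact hσ v hv, fun h1 => absurd h1 (by omega)⟩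
      · refine ⟨1, -1, M, Or.inr rfl, hM, ⟨c, ?_⟩,
          fun v _ hv => by rw [one_mul]; exact hσ v hv, fun h1 => absurd h1 (by omega)⟩
        rw [hr, show (2 * r + 1 : ℤ) - -1 = 2 * (r + 1) by ring, hc, pow_succ]
        ring
  -- the signs on the `2`-part below the top
  have hkey : ∀ j : ℕ, j < k → ∀ v : S, v ≠ 1 → v ^ 2 ^ j = 1 → σ v = ε := by
    intro j
    induction j with
    | zero => intro _ v hv hv1; exact absurd (by simpa using hv1) hv
    | succ j ih =>
      intro hj v hv hvj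
      by_cases hlow : v ^ 2 ^ j = 1
      · exact ih (by omega) v hv hlow
      have hvord : orderOf v = 2 * 2 ^ j := by
        rw [← pow_succ']
        exact orderOf_eq_prime_pow hlow hvj
      -- a square root
      obtain ⟨i, hi⟩ : ∃ i : ℕ, h ^ i = v := by
        obtain ⟨i, hi⟩ := hs' v
        have h1 : s ^ (i * 2 ^ k) = 1 := by
          rw [pow_mul, hi]
          obtain ⟨d, hd⟩ := pow_dvd_pow 2 (show j + 1 ≤ k by omega)
          rw [hd, pow_mul, hvj, one_pow]
        have h2 := orderOf_dvd_of_pow_eq_one h1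
        rw [hn, hnkm, mul_comm] at h2
        obtain ⟨i', rfl⟩ := Nat.dvd_of_mul_dvd_mul_right (pow_pos two_pos k) h2
        exact ⟨i', by rw [hh, ← pow_mul, hi]⟩
      have hi2 : 2 ∣ i := by
        have h1 : h ^ (i * (2 * 2 ^ j)) = 1 := by rw [pow_mul, hi, ← hvord, pow_orderOf_eq_one]
        have h2 := orderOf_dvd_of_pow_eq_one h1
        rw [hhord] at h2
        have h2' : 2 ^ (j + 1) * 2 ∣ 2 ^ k := by rw [← pow_succ]; exact pow_dvd_pow 2 (by omega)
        have h3 : 2 ^ (j + 1) * 2 ∣ i * (2 * 2 ^ j) := h2'.trans h2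
        rw [mul_comm i, ← pow_succ'] at h3
        exact Nat.dvd_of_mul_dvd_mul_left (pow_pos two_pos _) h3
      obtain ⟨i', rfl⟩ := hi2
      set w := h ^ i' with hw
      have hwv : w ^ 2 = v := by rw [hw, ← pow_mul, mul_comm i' 2, hi]
      have hwj : w ^ (2 * (2 * 2 ^ j)) = 1 := by rw [pow_mul, hwv, ← hvord, pow_orderOf_eq_one]
      have hwne : w ^ (2 * 2 ^ j) ≠ 1 := by rw [pow_mul, hwv]; exact hlow
      have hwk : w ^ 2 ^ k = 1 := by rw [hw, ← pow_mul, mul_comm, pow_mul, ← hhord,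
        pow_orderOf_eq_one, one_pow]
      have hword : orderOf w = 2 * (2 * 2 ^ j) := by
        rw [← pow_succ', ← pow_succ']
        refine orderOf_eq_prime_pow ?_ ?_
        · rw [pow_succ']; exact hwne
        · rw [pow_succ', pow_succ']; exact hwj
      -- values on the powers of `w`
      have hk2 : ∀ e : ℕ, (w ^ e) ^ 2 ^ k = 1 := fun e => by
        rw [← pow_mul, mul_comm, pow_mul, hwk, one_pow]
      let F : ℕ → ℤ := fun e => if w ^ e = 1 then F1 else σ (w ^ e)
      have hF : ∀ e, e < orderOf w → f (x * w ^ e) = F e := by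
        intro e _
        simp only [F]
        split_ifs with he
        · rw [he, mul_one, hF1]
        · exact hxv _ (hk2 e) he
      have hdvd := dvd_sum_coset hcomm hf x w F hF
      rw [hword, sum_range_two_mul, sum_range_two_mul] at hdvd
      have hFw : ∀ e, Odd e → F e = σ w := by
        intro e he
        have hne : w ^ e ≠ 1 := fun e1 => by
          have h1 := orderOf_dvd_of_pow_eq_one e1
          rw [hword] at h1
          exact (Nat.not_even_iff_odd.2 he) (even_iff_two_dvd.2 ((Dvd.intro _ rfl).trans h1))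
        simp only [F, if_neg hne]
        exact sign_pow_odd hf σ hσ hσ1 e w he hne
      have hFv : ∀ e, Odd e → F (2 * e) = σ v := by
        intro e he
        have hne : v ^ e ≠ 1 := fun e1 => by
          have h1 := orderOf_dvd_of_pow_eq_one e1
          rw [hvord] at h1
          exact (Nat.not_even_iff_odd.2 he) (even_iff_two_dvd.2 ((Dvd.intro _ rfl).trans h1))
        simp only [F, pow_mul, hwv, if_neg hne]
        exact sign_pow_odd hf σ hσ hσ1 e v he hne
      have hFl : ∀ e, e < 2 ^ j → e ≠ 0 → F (2 * (2 * e)) = ε := by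
        intro e he he0
        have hne : v ^ (2 * e) ≠ 1 := fun e1 => by
          have h1 := Nat.le_of_dvd (by omega) (orderOf_dvd_of_pow_eq_one e1)
          rw [hvord] at h1
          omega
        simp only [F, pow_mul, hwv]
        rw [← pow_mul, if_neg hne]
        refine ih (by omega) _ hne ?_
        rw [← pow_mul, show 2 * e * 2 ^ j = (2 * 2 ^ j) * e by ring, pow_mul, ← hvord,
          pow_orderOf_eq_one, one_pow]
      rw [sum_range_const_succ (fun e => F (2 * (2 * e))) (pow_pos two_pos j) ε hFl,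
        Finset.sum_congr rfl (fun e _ => hFv (2 * e + 1) (odd_two_mul_add_one e)),
        Finset.sum_congr rfl (fun e _ => hFw (2 * e + 1) (odd_two_mul_add_one e))] at hdvd
      simp only [Finset.sum_const, Finset.card_range, nsmul_eq_mul, F, mul_zero, pow_zero,
        if_true, Nat.cast_mul, Nat.cast_pow, Nat.cast_ofNat] at hdvd
      have hd2 : (2 : ℤ) ^ j * 4 ∣ F1 - ε := by
        refine Dvd.dvd.trans ?_ hdiv
        rw [show (4 : ℤ) = 2 ^ 2 by norm_num, ← pow_add]
        exact pow_dvd_pow 2 (by omega)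
      have h4 : (2 : ℤ) ^ j * 4 ∣ (2 : ℤ) ^ j * (ε + σ v + 2 * σ w) := by
        have h5 := dvd_sub (show (2 : ℤ) ^ j * 4 ∣ _ from
          (dvd_of_eq (by ring : (2 : ℤ) ^ j * 4 = 2 * (2 * 2 ^ j))).trans hdvd) hd2
        exact h5.trans (dvd_of_eq (by ring))
      have h6 := Int.dvd_of_mul_dvd_mul_left (pow_ne_zero j two_ne_zero) h4
      have hw1 : w ≠ 1 := fun e => hwne (by rw [e, one_pow])
      rcases hσ1 v hv with h1 | h1 <;> rcases hσ1 w hw1 with h2 | h2 <;> rcases hε with h3 | h3 <;>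
        rw [h1, h2, h3] at h6 <;> omega
  -- all the signs
  have hall : ∀ i : ℕ, s ^ i ≠ 1 → σ (s ^ i) = if Even n ∧ Odd i then σ s else ε := by
    intro i hi
    have hnE : Even n ↔ k ≠ 0 := by
      rw [hnkm, Nat.even_mul, Nat.even_pow, Nat.even_iff (n := m)]
      constructor
      · rintro (⟨-, h1⟩ | h1)
        · exact h1
        · omega
      · exact fun h1 => Or.inl ⟨even_two, h1⟩
    by_cases hc : Even n ∧ Odd i
    · rw [if_pos hc]
      exact sign_pow_odd hf σ hσ hσ1 i s hc.2 hi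
    rw [if_neg hc]
    by_cases htop : (s ^ i) ^ m = 1
    · rw [hodd_sign _ hi htop]
      refine (hxg ?_).symm
      by_contra hm1
      exact hi (by rw [show m = 1 by omega, pow_one] at htop; exact htop)
    rw [← sign_pow_odd hf σ hσ hσ1 m (s ^ i) hm htop]
    have hk0 : k ≠ 0 := fun e => htop (by
      rw [← pow_mul, mul_comm, pow_mul, show m = n by rw [hnkm, e, pow_zero, one_mul], ← hn,
        pow_orderOf_eq_one, one_pow])
    have hie : Even i := Nat.not_odd_iff_even.1 fun ho => hc ⟨hnE.2 hk0, ho⟩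
    obtain ⟨k', rfl⟩ : ∃ k', k = k' + 1 := ⟨k - 1, by omega⟩
    refine hkey k' (by omega) _ htop ?_
    obtain ⟨i', rfl⟩ := hie
    rw [← pow_mul, ← pow_mul, show (i' + i') * (m * 2 ^ k') = n * i' by rw [hnkm]; ring, pow_mul, ← hn,
      pow_orderOf_eq_one, one_pow]
  -- the congruence
  have hS1 : s ≠ 1 := fun e => by rw [e, orderOf_one] at hn; omega
  let G0 : ℕ → ℤ := fun i => if i = 0 then M else σ (s ^ i)
  have hG0 : ∀ i, i < orderOf s → f (1 * s ^ i) = G0 i := by
    intro i hi
    simp only [G0, one_mul]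
    split_ifs with h0
    · rw [h0, pow_zero, hM]
    · exact hσ _ fun e => absurd (Nat.le_of_dvd (by omega) (orderOf_dvd_of_pow_eq_one e)) (by omega)
  have hd := dvd_sum_coset hcomm hf 1 s G0 hG0
  have hG0v : ∀ i, i < n → i ≠ 0 → G0 i = if Even n ∧ Odd i then σ s else ε := by
    intro i hi h0
    simp only [G0, if_neg h0]
    exact hall i fun e => absurd (Nat.le_of_dvd (by omega) (orderOf_dvd_of_pow_eq_one e)) (by omega)
  rw [hn] at hd
  refine ⟨ε, hε, ?_, ?_⟩
  · by_cases hflip : Even n ∧ σ s ≠ ε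
    · have hdiv2 : orderOf (-1 : ℂˣ) ∣ orderOf s := by
        refine (orderOf_dvd_of_pow_eq_one (show (-1 : ℂˣ) ^ 2 = 1 by simp)).trans ?_
        rw [hn]
        exact even_iff_two_dvd.1 hflip.1
      let μ := monoidHomOfForallMemZpowers hs hdiv2
      have hμ : ∀ i : ℕ, μ (s ^ i) = (-1) ^ i := fun i => by
        rw [map_pow, monoidHomOfForallMemZpowers_apply_gen]
      refine ⟨μ, fun x => ?_, fun x hx => ?_⟩
      · obtain ⟨i, rfl⟩ := hs' x
        rw [hμ, ← mul_pow, show (-1 : ℂˣ) * -1 = 1 by simp, one_pow]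
      · obtain ⟨i, rfl⟩ := hs' x
        rw [hσ _ hx, hμ, hall i hx]
        rcases Nat.even_or_odd i with he | ho
        · rw [if_neg fun h => Nat.not_odd_iff_even.2 he h.2, he.neg_one_pow]
          simp
        · rw [if_pos ⟨hflip.1, ho⟩, ho.neg_one_pow]
          have : σ s = -ε := by
            rcases hσ1 s hS1 with h1 | h1 <;> rcases hε with h2 | h2 <;> omega
          rw [this]
          simp
    · refine ⟨1, fun x => by simp, fun x hx => ?_⟩
      obtain ⟨i, rfl⟩ := hs' x
      rw [hσ _ hx, hall i hx, MonoidHom.one_apply, Units.val_one, mul_one]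
      split_ifs with hc
      · rw [not_and_not_right.1 hflip hc.1]
      · rfl
  · rcases Nat.even_or_odd n with he | ho
    · obtain ⟨r, hr⟩ := he
      have hr0 : 0 < r := by omega
      rw [show n = 2 * r by omega, sum_range_two_mul,
        sum_range_const_succ (fun i => G0 (2 * i)) hr0 ε (fun i hi h0 => by
          rw [hG0v _ (by omega) (by omega), if_neg]
          exact fun h => Nat.not_even_iff_odd.2 h.2 (even_two_mul i)),
        Finset.sum_congr rfl (show ∀ i ∈ Finset.range r, G0 (2 * i + 1) = σ s from fun i hi => by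
          rw [Finset.mem_range] at hi
          rw [hG0v _ (by omega) (by omega), if_pos ⟨⟨r, hr⟩, odd_two_mul_add_one i⟩]),
        Finset.sum_const, Finset.card_range, nsmul_eq_mul] at hd
      simp only [G0, mul_zero, if_true] at hd
      have hrest : (n : ℤ) ∣ (r : ℤ) * (ε + σ s) := by
        rw [hr]
        push_cast
        rcases hσ1 s hS1 with h1 | h1 <;> rcases hε with h2 | h2 <;> rw [h1, h2]
        · exact ⟨1, by ring⟩
        · exact ⟨0, by ring⟩
        · exact ⟨0, by ring⟩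
        · exact ⟨-1, by ring⟩
      have hd' : (n : ℤ) ∣ M + ((r : ℤ) - 1) * ε + (r : ℤ) * σ s := by
        rw [hr, show r + r = 2 * r by omega]
        exact hd
      have h5 := dvd_sub hd' hrest
      exact h5.trans (dvd_of_eq (by ring))
    · rw [sum_range_const_succ G0 hn0 ε (fun i hi h0 => by
        rw [hG0v i hi h0, if_neg fun h => Nat.not_even_iff_odd.2 ho h.1])] at hd
      simp only [G0, if_true] at hd
      have h5 := dvd_sub hd (dvd_mul_right (n : ℤ) ε)
      exact h5.trans (dvd_of_eq (by ring))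

end Signs

end CfsgLib.CyclicSigns
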