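import Cfsg.Agent.Lib.CharCorr.QuotientTools
import Cfsg.Agent.Lib.Characters.Ito
import Mathlib.GroupTheory.Abelianization.Defs

/-!
# Invariant constituents over an invariant character, solvable quotient

The acting group `S` has a normal subgroup `M` acting by inner automorphisms from `N`, with
`(|S : M|, |G : N|) = 1` and `G/N` solvable.
-/

set_option autoImplicit false
set_option linter.style.haveILetI false
set_option linter.unusedSectionVars false

noncomputable section

namespace CfsgLib.InvariantAbelian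

open Cfsg CfsgLib.Characters CfsgLib.CharCorr CfsgLib.Clifford CfsgLib.NormalAvg
open scoped ComplexConjugate commutatorElement

universe u v

section Basic

variable {G : Type u} [Group G] [Finite G]

/-- Constituents of constituents are constituents. -/
theorem constituent_trans {K N : Subgroup G} [Fintype K] [Fintype N] (hNK : N ≤ K)
    {χ : G → ℂ} (hχ : IsCharacter G χ) (η : IrrCharacter K) (θ : IrrCharacter N)
    (h1 : classInner (fun k : K => χ k) (η : K → ℂ) ≠ 0)
    (h2 : classInner (fun n : N => (η : K → ℂ) ⟨n, hNK n.2⟩) (θ : N → ℂ) ≠ 0) :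
    classInner (fun n : N => χ n) (θ : N → ℂ) ≠ 0 := by
  classical
  obtain ⟨m, hm, hsum⟩ := exists_mult (isCharacter_pullback hχ K.subtype)
  have hk : ∀ ξ : IrrCharacter K, ∃ e : ℕ,
      classInner (fun n : N => (ξ : K → ℂ) ⟨n, hNK n.2⟩) (θ : N → ℂ) = (e : ℂ) := fun ξ =>
    classInner_char_nat (isCharacter_pullback (irr_isCharacter ξ) (Subgroup.inclusion hNK))
      (irr_isCharacter θ)
  choose e he using hk
  have hexp : classInner (fun n : N => χ n) (θ : N → ℂ) =
      ∑ ξ : IrrCharacter K, (m ξ : ℂ) * (e ξ : ℂ) := by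
    have : (fun n : N => χ n) =
        ∑ ξ : IrrCharacter K, (m ξ : ℂ) • fun n : N => (ξ : K → ℂ) ⟨n, hNK n.2⟩ := by
      funext n
      have := congrFun hsum ⟨n, hNK n.2⟩
      simp only [Finset.sum_apply, Pi.smul_apply, smul_eq_mul] at this ⊢
      exact this
    rw [this, classInner_sum_left]
    exact Finset.sum_congr rfl fun ξ _ => by rw [classInner_smul_left, he]
  have hm0 : m η ≠ 0 := by
    intro h0
    refine h1 ((hm η).trans ?_)
    rw [h0, Nat.cast_zero]
  have he0 : e η ≠ 0 := fun h0 => h2 (by rw [he, h0, Nat.cast_zero])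
  rw [hexp]
  norm_cast
  intro h0
  have := Finset.sum_eq_zero_iff.mp h0 η (Finset.mem_univ η)
  exact (mul_ne_zero hm0 he0) this

/-- Over a normal subgroup with commutative quotient, two characters lying over the same
character differ by a linear character of the quotient. -/
theorem exists_linear_twist [Fintype G] (K : Subgroup G) [K.Normal] [Fintype K]
    (hK : commutator G ≤ K) (χ₁ χ₂ : IrrCharacter G) (η : IrrCharacter K)
    (h1 : classInner (fun k : K => (χ₁ : G → ℂ) k) (η : K → ℂ) ≠ 0)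
    (h2 : classInner (fun k : K => (χ₂ : G → ℂ) k) (η : K → ℂ) ≠ 0) :
    ∃ f : G →* ℂˣ, (∀ k ∈ K, f k = 1) ∧
      ∀ g, (χ₂ : G → ℂ) g = (χ₁ : G → ℂ) g * (f g : ℂ) := by
  classical
  have hr := isCharacter_pullback (irr_isCharacter χ₁) K.subtype
  -- the restrictions have a common constituent
  have hres : classInner (fun k : K => (χ₂ : G → ℂ) k) (fun k : K => (χ₁ : G → ℂ) k) ≠ 0 := by
    obtain ⟨m₁, hm₁, hs₁⟩ := exists_mult hr
    obtain ⟨m₂, hm₂, hs₂⟩ := exists_mult (isCharacter_pullback (irr_isCharacter χ₂) K.subtype)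
    have e2 : (fun k : K => (χ₂ : G → ℂ) k) = ∑ ξ : IrrCharacter K, (m₂ ξ : ℂ) • (ξ : K → ℂ) :=
      hs₂
    have hval : classInner (fun k : K => (χ₂ : G → ℂ) k) (fun k : K => (χ₁ : G → ℂ) k) =
        ∑ ξ : IrrCharacter K, (m₂ ξ : ℂ) * (m₁ ξ : ℂ) := by
      rw [e2, classInner_sum_left]
      refine Finset.sum_congr rfl fun ξ _ => ?_
      rw [classInner_smul_left]
      congr 1
      rw [classInner_conj_symm]
      show conj (classInner ((fun g => (χ₁ : G → ℂ) (K.subtype g))) (ξ : K → ℂ)) = _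
      rw [hm₁, Complex.conj_natCast]
    rw [hval]
    norm_cast
    intro h0
    have := Finset.sum_eq_zero_iff.mp h0 η (Finset.mem_univ η)
    refine mul_ne_zero ?_ ?_ this
    · exact fun h => h2 ((hm₂ η).trans (by rw [h, Nat.cast_zero]))
    · exact fun h => h1 ((hm₁ η).trans (by rw [h, Nat.cast_zero]))
  set P := pairAvg K (χ₂ : G → ℂ) (χ₁ : G → ℂ) with hP
  have hPc : IsCharacter G P := isCharacter_pairAvg K (irr_isCharacter χ₂) (irr_isCharacter χ₁)
  have hP0 : P ≠ 0 := fun h => hres (by rw [← pairAvg_one, ← hP, h]; rfl)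
  obtain ⟨ξ, hξ⟩ := exists_constituent hPc hP0
  -- the constituent is trivial on `K`
  have hfix : ∀ (k : K) (g : G), (ξ : G → ℂ) ((k : G) * g) = (ξ : G → ℂ) g := by
    rcases avgN_irr K ξ.2 with h | h
    · intro k g
      rw [← h]
      exact avgN_mul_left K _ k g
    · refine absurd ?_ hξ
      have hb : ∀ F : G → ℂ, classInner P F = classInner P (avgN K F) := fun F =>
        ((classInner_conj_symm _ _).trans ((congrArg conj (classInner_avgN_left K F
          (fun k g => avgN_mul_left K _ k g))).trans (classInner_conj_symm _ _).symm)).symm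
      rw [hb, h]
      simp [classInner]
  haveI : IsMulCommutative (G ⧸ K) := Subgroup.Normal.quotient_commutative_iff_commutator_le.2 hK
  let F : G ⧸ K → ℂ := fun q => (ξ : G → ℂ) q.out
  have hF : ∀ g : G, F (g : G ⧸ K) = (ξ : G → ℂ) g := by
    intro g
    obtain ⟨⟨k, hk⟩, he⟩ := QuotientGroup.mk_out_eq_mul K g
    show (ξ : G → ℂ) (QuotientGroup.mk g : G ⧸ K).out = _
    rw [he]
    have := hfix ⟨g * k * g⁻¹, ‹K.Normal›.conj_mem k hk g⟩ g
    simpa using this
  have hFi : IsIrrCharacter (G ⧸ K) F := by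
    refine CfsgLib.CharCorrQ.isIrrCharacter_of_pullback (QuotientGroup.mk' K)
      (QuotientGroup.mk'_surjective K) ?_
    convert ξ.2 using 1
    funext g
    exact hF g
  have hdeg : (ξ : G → ℂ) 1 = 1 := by
    rw [← hF 1]
    exact CfsgLib.CharIto.degree_one_of_comm hFi
  obtain ⟨f, hf⟩ := CfsgLib.LinearExt.exists_unitsHom (irr_isCharacter ξ) hdeg
  have hfK : ∀ k ∈ K, f k = 1 := by
    intro k hk
    have := hfix ⟨k, hk⟩ 1
    rw [mul_one, hdeg, hf] at this
    exact Units.ext this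
  refine ⟨f, hfK, ?_⟩
  let ψ : IrrCharacter G := ⟨_, CfsgLib.LinearTwist.isIrr_mul_hom χ₁.2 f⟩
  have hne : classInner (χ₂ : G → ℂ) (ψ : G → ℂ) ≠ 0 := by
    have e : classInner P (ξ : G → ℂ) = classInner (χ₂ : G → ℂ) (ψ : G → ℂ) := by
      rw [hP, pairAvg, classInner_avgN_left K _ hfix]
      unfold classInner
      congr 1
      refine Finset.sum_congr rfl fun g _ => ?_
      show _ = (χ₂ : G → ℂ) g * conj ((χ₁ : G → ℂ) g * (f g : ℂ))
      rw [map_mul, hf]
      ring
    rwa [← e]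
  have hψ : χ₂ = ψ := by
    by_contra h
    exact hne (by rw [classInner_irr, if_neg h])
  intro g
  exact congrFun (congrArg Subtype.val hψ) g

end Basic

/-- The invariant constituent. -/
theorem exists_inv_over_of_solvable_quotient (n : ℕ) : ∀ (G : Type u) [Group G] [Finite G]
    (N : Subgroup G) [Fintype N] [N.Normal] (S : Type v) [Group S] [Finite S]
    (act : S →* MulAut G) (M : Subgroup S) [M.Normal],
    Nat.card G = n → (∀ a ∈ M, ∃ x ∈ N, ∀ g, act a g = x * g * x⁻¹) →
    ∀ hN : (∀ s, ∀ x ∈ N, act s x ∈ N), (M.index).Coprime N.index →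
    Group.IsSolvable (G ⧸ N) → ∀ θ : IrrCharacter N, Inv (restrictAct act N hN) θ →
    ∃ χ : IrrCharacter G, Inv act χ ∧
      classInner (fun x : N => (χ : G → ℂ) x) (θ : N → ℂ) ≠ 0 := by
  induction n using Nat.strong_induction_on with
  | _ n ih =>
  intro G _ _ N _ _ S _ _ act M _ hn hM hN hcop hsolv θ hθ
  classical
  haveI : Fintype G := Fintype.ofFinite G
  obtain ⟨χ₁, hχ₁⟩ := exists_over N θ
  have hχ₁' : classInner (fun x : N => (χ₁ : G → ℂ) x) (θ : N → ℂ) ≠ 0 := by
    intro h0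
    apply hχ₁
    have h2 := mult_spec N.subtype χ₁ θ
    exact_mod_cast h2.symm.trans h0
  by_cases htop : N = ⊤
  · subst htop
    refine ⟨twistIrr (Subgroup.topEquiv : (⊤ : Subgroup G) ≃* G).symm θ, fun s g => ?_, ?_⟩
    · exact hθ s ⟨g, trivial⟩
    · show classInner (θ : (⊤ : Subgroup G) → ℂ) (θ : (⊤ : Subgroup G) → ℂ) ≠ 0
      rw [classInner_irr_self θ.2]
      exact one_ne_zero
  haveI : Nontrivial (G ⧸ N) := by
    rw [← Finite.one_lt_card_iff_nontrivial, ← Subgroup.index_eq_card]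
    have : N.index ≠ 1 := fun h => htop (Subgroup.index_eq_one.1 h)
    have : N.index ≠ 0 := Subgroup.index_ne_zero_of_finite
    omega
  let K : Subgroup G := N ⊔ commutator G
  haveI hKn : K.Normal := inferInstanceAs (N ⊔ commutator G).Normal
  have hKlt : K ≠ ⊤ := by
    intro hKt
    refine absurd ?_ (ne_of_lt (Group.IsSolvable.commutator_lt_top_of_nontrivial (G ⧸ N)))
    have hmap := Subgroup.map_sup N (commutator G) (QuotientGroup.mk' N)
    rw [show N ⊔ commutator G = (⊤ : Subgroup G) from hKt, QuotientGroup.map_mk'_self, bot_sup_eq,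
      Subgroup.map_top_of_surjective _ (QuotientGroup.mk'_surjective N), commutator_def,
      Subgroup.map_commutator, Subgroup.map_top_of_surjective _ (QuotientGroup.mk'_surjective N),
      ← commutator_def] at hmap
    exact hmap.symm
  have hNK : N ≤ K := le_sup_left
  have hKstab : ∀ s, ∀ x ∈ K, act s x ∈ K := by
    intro s
    have : K ≤ K.comap (act s).toMonoidHom := by
      refine sup_le (fun x hx => hNK (hN s x hx)) ?_
      rw [commutator_def, Subgroup.commutator_le]
      intro a _ b _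
      show act s ⁅a, b⁆ ∈ K
      rw [map_commutatorElement]
      exact le_sup_right (a := N) (Subgroup.commutator_mem_commutator trivial trivial)
    exact fun x hx => this hx
  haveI : Fintype K := Fintype.ofFinite K
  let N' : Subgroup K := N.subgroupOf K
  let e : N' ≃* N := Subgroup.subgroupOfEquivOfLe hNK
  haveI : Fintype N' := Fintype.ofFinite N'
  have hcardK : Nat.card K < n := by
    rw [← hn]
    exact lt_of_le_of_ne (Subgroup.card_le_card_group K) fun h =>
      hKlt (Subgroup.eq_top_of_card_eq K h)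
  have hidx : N'.index ∣ N.index := ⟨K.index, (Subgroup.relIndex_mul_index hNK).symm⟩
  obtain ⟨η, hη, hηθ⟩ := ih _ hcardK K N' S (restrictAct act K hKstab) M rfl
    (fun a ha => by
      obtain ⟨x, hx, hax⟩ := hM a ha
      exact ⟨⟨x, hNK hx⟩, hx, fun g => Subtype.ext (hax g)⟩)
    (fun s x hx => hN s x hx) (hcop.coprime_dvd_right hidx)
    (by
      let φ : K ⧸ N' →* G ⧸ N := QuotientGroup.map N' N K.subtype fun x hx => hx
      refine Group.isSolvable_of_isSolvable_injective (f := φ) ?_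
      rw [← MonoidHom.ker_eq_bot_iff, eq_bot_iff]
      intro q hq
      obtain ⟨x, rfl⟩ := QuotientGroup.mk_surjective q
      rw [MonoidHom.mem_ker] at hq
      have hq' : ((x : G) : G ⧸ N) = 1 := hq
      rw [QuotientGroup.eq_one_iff] at hq'
      exact Subgroup.mem_bot.2 ((QuotientGroup.eq_one_iff x).2 hq'))
    (twistIrr e θ) (fun s x => hθ s (e x))
  have hηθ' : classInner (fun x : N => (η : K → ℂ) ⟨x, hNK x.2⟩) (θ : N → ℂ) ≠ 0 := by
    rw [← classInner_comp_equiv e]
    exact hηθ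
  obtain ⟨χ₀, hχ₀⟩ := exists_over K η
  have hχ₀' : classInner (fun x : K => (χ₀ : G → ℂ) x) (η : K → ℂ) ≠ 0 := by
    intro h0
    apply hχ₀
    have h2 := mult_spec K.subtype χ₀ η
    exact_mod_cast h2.symm.trans h0
  suffices hmain : ∃ f : G →* ℂˣ, (∀ k ∈ K, f k = 1) ∧ ∀ s g,
      (χ₀ : G → ℂ) (act s g) * (f (act s g) : ℂ) = (χ₀ : G → ℂ) g * (f g : ℂ) by
    obtain ⟨f, hfK, hf⟩ := hmain
    refine ⟨⟨_, CfsgLib.LinearTwist.isIrr_mul_hom χ₀.2 f⟩, hf, ?_⟩
    refine constituent_trans hNK (isCharacter_of_irr (CfsgLib.LinearTwist.isIrr_mul_hom χ₀.2 f))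
      η θ ?_ hηθ'
    have : (fun k : K => (χ₀ : G → ℂ) k * (f k : ℂ)) = fun k : K => (χ₀ : G → ℂ) k :=
      funext fun k => by simp [hfK k k.2]
    exact this.symm ▸ hχ₀'
  -- the twisting characters of the cosets of `M`
  have hchoose : ∀ s : S, ∃ f : G →* ℂˣ, (∀ k ∈ K, f k = 1) ∧
      ∀ g, (χ₀ : G → ℂ) (act s g) = (χ₀ : G → ℂ) g * (f g : ℂ) := by
    intro s
    refine exists_linear_twist K le_sup_right χ₀ (twistIrr (act s) χ₀) η hχ₀' ?_
    have e1 : (fun k : K => (twistIrr (act s) χ₀ : G → ℂ) k) =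
        (fun k : K => (χ₀ : G → ℂ) k) ∘ (restrictAct act K hKstab s) := rfl
    have e2 : (η : K → ℂ) = (η : K → ℂ) ∘ (restrictAct act K hKstab s) :=
      (funext fun k => hη s k).symm
    rw [e1, e2, classInner_comp_equiv]
    exact hχ₀'
  choose c₀ hc₀K hc₀ using hchoose
  let c : S → (G → ℂˣ) := fun s => ⇑(c₀ (QuotientGroup.mk (s := M) s).out)
  have hcM : ∀ s t, (QuotientGroup.mk (s := M) s) = QuotientGroup.mk t → c s = c t := fun s t h => by
    show ⇑(c₀ _) = ⇑(c₀ _)
    rw [h]
  have hc : ∀ s g, (χ₀ : G → ℂ) (act s g) = (χ₀ : G → ℂ) g * (c s g : ℂ) := by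
    intro s g
    rw [← hc₀]
    obtain ⟨⟨a, ha⟩, hout⟩ := QuotientGroup.mk_out_eq_mul M s
    obtain ⟨x, -, hax⟩ := hM (s * a * s⁻¹) (‹M.Normal›.conj_mem a ha s)
    have h1 : (QuotientGroup.mk (s := M) s).out = (s * a * s⁻¹) * s := by rw [hout]; simp
    rw [h1, map_mul, MulAut.mul_apply, hax]
    exact (irr_isClassFunction χ₀ _ x).symm
  -- the stabiliser of `χ₀`
  let St : Subgroup (G → ℂˣ) :=
    { carrier := {f | ∀ g, (χ₀ : G → ℂ) g * (f g : ℂ) = (χ₀ : G → ℂ) g}
      one_mem' := fun g => by simp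
      mul_mem' := fun {a b} ha hb g => by
        rw [Pi.mul_apply, Units.val_mul, ← mul_assoc, ha, hb]
      inv_mem' := fun {a} ha g => by
        rw [Pi.inv_apply, Units.val_inv_eq_inv_val]
        conv_lhs => rw [← ha g]
        rw [mul_assoc, mul_inv_cancel₀ (Units.ne_zero _), mul_one] }
  have hSt : ∀ f f' : G → ℂˣ, (∀ g, (χ₀ : G → ℂ) g * (f g : ℂ) = (χ₀ : G → ℂ) g * (f' g : ℂ)) →
      f * f'⁻¹ ∈ St := by
    intro f f' h g
    rw [Pi.mul_apply, Pi.inv_apply, Units.val_mul, Units.val_inv_eq_inv_val,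
      ← mul_assoc, h, mul_assoc, mul_inv_cancel₀ (Units.ne_zero _), mul_one]
  let R : S → ((G → ℂˣ) →* (G → ℂˣ)) := fun s =>
    { toFun := fun f => fun g => f (act s g)
      map_one' := rfl
      map_mul' := fun _ _ => rfl }
  have hcoc : ∀ t s, c (t * s) * (R s (c t) * c s)⁻¹ ∈ St := by
    intro t s
    refine hSt _ _ fun g => ?_
    rw [← hc, map_mul, MulAut.mul_apply, hc, hc, Pi.mul_apply, Units.val_mul]
    show _ = (χ₀ : G → ℂ) g * (((c t) (act s g) : ℂ) * _)
    ring
  -- averaging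
  haveI : Fintype (S ⧸ M) := Fintype.ofFinite _
  let d : S ⧸ M → (G → ℂˣ) := fun q => ⇑(c₀ q.out)
  let P : G → ℂˣ := ∏ q, d q
  have havg : ∀ s, P * (R s P * c s ^ M.index)⁻¹ ∈ St := by
    intro s
    have e1 : P = ∏ q : S ⧸ M, d (q * (QuotientGroup.mk s)) :=
      (Equiv.prod_comp (Equiv.mulRight (QuotientGroup.mk s : S ⧸ M)) d).symm
    have e2 : R s P * c s ^ M.index = ∏ q : S ⧸ M, (R s (d q) * c s) := by
      rw [Finset.prod_mul_distrib, map_prod, Finset.prod_const, Finset.card_univ,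
        ← Nat.card_eq_fintype_card, ← Subgroup.index_eq_card]
    rw [e2]
    rw [e1, ← Finset.prod_inv_distrib, ← Finset.prod_mul_distrib]
    refine Subgroup.prod_mem _ fun q _ => ?_
    have h := hcoc q.out s
    have h1 : c (q.out * s) = d (q * (QuotientGroup.mk s)) := by
      show ⇑(c₀ _) = ⇑(c₀ _)
      rw [QuotientGroup.mk_mul, QuotientGroup.out_eq']
    have h2 : c q.out = d q := by
      show ⇑(c₀ _) = ⇑(c₀ _)
      rw [QuotientGroup.out_eq']
    rwa [h1, h2] at h
  obtain ⟨k, hk⟩ : ∃ k : ℕ, (M.index * k) % K.index = 1 % K.index := by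
    have hcK : M.index.Coprime K.index :=
      hcop.coprime_dvd_right ⟨N.relIndex K, by rw [mul_comm]; exact (Subgroup.relIndex_mul_index hNK).symm⟩
    have hK1 : 1 < K.index := by
      have : K.index ≠ 1 := fun h => hKlt (Subgroup.index_eq_one.1 h)
      have : K.index ≠ 0 := Subgroup.index_ne_zero_of_finite
      omega
    obtain ⟨k, -, hk⟩ := Nat.exists_mul_mod_eq_one_of_coprime hcK hK1
    exact ⟨k, by rw [hk, Nat.mod_eq_of_lt hK1]⟩
  have hexp : ∀ s, c s ^ (M.index * k) = c s := by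
    intro s
    funext g
    have h1 : c s g ^ K.index = 1 := by
      rw [← map_pow]
      exact hc₀K _ _ (K.pow_index_mem g)
    rw [Pi.pow_apply]
    rw [← Nat.mod_add_div (M.index * k) K.index, pow_add, pow_mul, h1, one_pow, mul_one, hk]
    conv_rhs => rw [← pow_one (c s g), ← Nat.mod_add_div 1 K.index, pow_add, pow_mul, h1, one_pow,
      mul_one]
  let P' : G →* ℂˣ := ∏ q : S ⧸ M, c₀ q.out
  have hP' : ∀ g, (P' ^ k) g = P g ^ k := fun g => by
    rw [MonoidHom.pow_apply]
    congr 1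
    show (∏ q : S ⧸ M, c₀ q.out) g = (∏ q, d q) g
    rw [MonoidHom.finset_prod_apply, Finset.prod_apply]
  refine ⟨P' ^ k, fun x hx => ?_, fun s g => ?_⟩
  · rw [hP']
    have : P x = 1 := by
      show (∏ q, d q) x = 1
      rw [Finset.prod_apply]
      exact Finset.prod_eq_one fun q _ => hc₀K _ x hx
    rw [this, one_pow]
  · have h := St.pow_mem (havg s) k
    rw [mul_pow, inv_pow, mul_pow, ← pow_mul, hexp, ← map_pow] at h
    have h' := h g
    rw [Pi.mul_apply, Pi.inv_apply, Units.val_mul, Units.val_inv_eq_inv_val,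
      Pi.mul_apply, Units.val_mul, ← mul_assoc,
      mul_inv_eq_iff_eq_mul₀ (mul_ne_zero (Units.ne_zero _) (Units.ne_zero _))] at h'
    rw [hP', hP', ← Pi.pow_apply P k, ← Pi.pow_apply P k, hc, h']
    show _ = (χ₀ : G → ℂ) g * (((P ^ k) (act s g) : ℂ) * _)
    ring

end CfsgLib.InvariantAbelian
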