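import Cfsg.Agent.Lib.CharCorr.CentralTriple

/-!
# An invariant character lies under an invariant one across a coprime layer
-/

set_option autoImplicit false
set_option linter.style.haveILetI false
set_option linter.unusedSectionVars false
open Cfsg CfsgLib.Characters CfsgLib.CharCorr CfsgLib.CharExtension
open scoped ComplexConjugate

namespace CfsgLib.CoprimeFixed

universe u

variable {Γ : Type u} [Group Γ] [Fintype Γ]

theorem exists_inv_over_layer (G N : Subgroup Γ) [hG : G.Normal] [hN : N.Normal] [Fintype G]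
    [Fintype N] (hNG : N ≤ G) (hcop : G.index.Coprime (N.relIndex G))
    (hsolv : Group.IsSolvable (Γ ⧸ G) ∨ Group.IsSolvable (G ⧸ N.subgroupOf G))
    (θ : IrrCharacter N) (hinv : ∀ (x : Γ) (n : N), (θ : N → ℂ) (conjN N x n) = (θ : N → ℂ) n) :
    ∃ χ : IrrCharacter G, classInner (fun n : N => (χ : G → ℂ) ⟨n, hNG n.2⟩) (θ : N → ℂ) ≠ 0 ∧
      ∀ (x : Γ) (g : G), (χ : G → ℂ) ⟨x * g * x⁻¹, hG.conj_mem g g.2 x⟩ = (χ : G → ℂ) g := by
  classical
  obtain ⟨d, ρ, hρ, hθ⟩ := θ.2
  haveI := hρ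
  have hd : 0 < d := pos_of_irreducible ρ
  have hinv' : ∀ g n, ρ.character (conjN N g n) = ρ.character n := fun g n => by
    rw [hθ]; exact hinv g n
  set M := Nat.card N with hM
  have hM0 : 0 < M := Nat.card_pos
  let detU : interGroup N ρ →* ℂˣ := (Units.map LinearMap.det).comp (op N ρ)
  let T : Subgroup (interGroup N ρ) := ((powMonoidHom M).comp detU).ker
  let f : T →* Γ := (proj N ρ).comp T.subtype
  have hdetsc : ∀ c : ℂˣ, Units.map LinearMap.det (sc d c) = c ^ d := fun c => Units.ext (by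
    rw [Units.val_pow_eq_pow_val]; exact det_sc c)
  have hfs : Function.Surjective f := by
    intro g
    obtain ⟨γ, hγ⟩ := proj_surjective N ρ hinv' g
    obtain ⟨b, hb⟩ := CfsgLib.LinearExt.exists_root d hd (detU γ)⁻¹
    let s : interGroup N ρ := ⟨(((1 : N) : Γ), sc d b * rhoU N ρ 1), sc_mem N ρ b 1⟩
    refine ⟨⟨s * γ, ?_⟩, ?_⟩
    · rw [MonoidHom.mem_ker]
      show (detU (s * γ)) ^ M = 1
      rw [map_mul detU]
      have : detU s = b ^ d := by
        show Units.map LinearMap.det (sc d b * rhoU N ρ 1) = _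
        rw [map_one (rhoU N ρ), mul_one, hdetsc]
      rw [this, hb, inv_mul_cancel, one_pow]
    · show proj N ρ (s * γ) = g
      rw [map_mul, hγ]
      exact one_mul g
  -- the kernel is scalar
  have hker : ∀ k : f.ker, ∃ c : ℂˣ, op N ρ (k : T) = sc d c := by
    intro k
    have h1 : proj N ρ (k : T) = 1 := k.2
    obtain ⟨c, hc⟩ := exists_coord N ρ (γ := ((k : T) : interGroup N ρ)) (h1 ▸ N.one_mem)
    refine ⟨c, ?_⟩
    rw [hc, show (⟨proj N ρ ((k : T) : interGroup N ρ), h1 ▸ N.one_mem⟩ : N) = 1 from Subtype.ext h1,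
      map_one, mul_one]
  choose co hco using hker
  have hsci := sc_injective (d := d) hd
  have hcomul : ∀ a b : f.ker, co (a * b) = co a * co b := fun a b => hsci (by
    rw [map_mul (sc d), ← hco, ← hco, ← hco, ← map_mul (op N ρ)]; rfl)
  have hkext : ∀ a b : f.ker, co a = co b → a = b := fun a b h => by
    apply Subtype.ext; apply Subtype.ext; apply Subtype.ext
    refine Prod.ext ((show proj N ρ (a : T) = 1 from a.2).trans (show proj N ρ (b : T) = 1 from b.2).symm) ?_
    show op N ρ ((a : T) : interGroup N ρ) = op N ρ ((b : T) : interGroup N ρ)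
    rw [hco a, hco b, h]
  haveI : Finite f.ker := by
    haveI : NeZero (d * M) := ⟨(Nat.mul_pos hd hM0).ne'⟩
    refine Finite.of_injective (fun k => (⟨co k, ?_⟩ : rootsOfUnity (d * M) ℂ)) fun a b h =>
      hkext a b (congrArg Subtype.val h)
    rw [mem_rootsOfUnity, pow_mul, ← hdetsc, ← hco]
    exact (k : T).2
  haveI : Finite T := by
    haveI : Finite (T ⧸ f.ker) := Finite.of_injective _ (QuotientGroup.kerLift_injective f)
    exact Finite.of_equiv _ (Subgroup.groupEquivQuotientProdSubgroup (s := f.ker)).symm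
  -- the copy of `N`
  have hliftT : ∀ n : N, liftN N ρ n ∈ T := fun n => by
    rw [MonoidHom.mem_ker]
    show (Units.map LinearMap.det (rhoU N ρ n)) ^ M = 1
    rw [← MonoidHom.comp_apply, ← map_pow, hM, pow_card_eq_one', map_one]
  let lf : N →* T := (liftN N ρ).codRestrict T hliftT
  have hflf : ∀ n : N, f (lf n) = n := fun n => rfl
  let L : Subgroup T := lf.range
  haveI : L.Normal := ⟨fun x hx γ => by
    obtain ⟨n, rfl⟩ := hx
    refine ⟨conjN N (f γ) n, ?_⟩
    apply Subtype.ext; apply Subtype.ext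
    refine Prod.ext rfl ?_
    show rhoU N ρ (conjN N (f γ) n) = op N ρ γ * rhoU N ρ n * (op N ρ γ)⁻¹
    rw [op_spec, mul_inv_cancel_right]
    rfl⟩
  set q := QuotientGroup.mk' L with hq
  have hqs : Function.Surjective q := QuotientGroup.mk'_surjective L
  set GT : Subgroup T := G.comap f with hGT
  haveI : GT.Normal := hG.comap f
  set Gh : Subgroup (T ⧸ L) := GT.map q with hGh
  haveI : Gh.Normal := Subgroup.Normal.map inferInstance q hqs
  let jz : f.ker →* T ⧸ L := q.comp f.ker.subtype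
  have hjz : Function.Injective jz := by
    rw [injective_iff_map_eq_one]
    intro k hk
    obtain ⟨n, hn⟩ := (QuotientGroup.eq_one_iff (k : T)).1 hk
    have h1 : n = 1 := Subtype.ext ((hflf n).symm.trans ((congrArg f hn).trans k.2))
    rw [h1, map_one] at hn
    exact Subtype.ext hn.symm
  set Zh : Subgroup (T ⧸ L) := jz.range with hZh
  have hZc : Zh ≤ Subgroup.center (T ⧸ L) := by
    rintro _ ⟨k, rfl⟩
    rw [Subgroup.mem_center_iff]
    intro y
    obtain ⟨γ, rfl⟩ := hqs y
    show q γ * q k = q k * q γ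
    rw [← map_mul, ← map_mul]
    congr 1
    apply Subtype.ext; apply Subtype.ext
    refine Prod.ext ?_ ?_
    · show f γ * f (k : T) = f (k : T) * f γ
      rw [show f (k : T) = 1 from k.2, one_mul, mul_one]
    · show op N ρ γ * op N ρ ((k : T) : interGroup N ρ) = op N ρ ((k : T) : interGroup N ρ) * op N ρ γ
      rw [hco k, sc_commute]
  have hkG : f.ker ≤ GT := fun k hk => by
    rw [hGT, Subgroup.mem_comap, MonoidHom.mem_ker.1 hk]; exact G.one_mem
  have hLG : L ≤ GT := by rintro _ ⟨n, rfl⟩; exact hNG n.2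
  have hZG : Zh ≤ Gh := by rintro _ ⟨k, rfl⟩; exact ⟨k, hkG k.2, rfl⟩
  haveI : (Zh.subgroupOf Gh).Normal := ⟨fun z hz g => by
    show ((g * z * g⁻¹ : Gh) : T ⧸ L) ∈ Zh
    rw [show g * z * g⁻¹ = z from mul_inv_eq_iff_eq_mul.2
      (Subtype.ext (Subgroup.mem_center_iff.1 (hZc hz) (g : T ⧸ L)))]
    exact hz⟩
  have hZmap : Zh = f.ker.map q := by
    rw [hZh, MonoidHom.range_comp, Subgroup.range_subtype]
  have hsup : f.ker ⊔ L = N.comap f := by
    refine le_antisymm (sup_le (fun k hk => ?_) ?_) fun γ hγ => ?_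
    · rw [Subgroup.mem_comap, MonoidHom.mem_ker.1 hk]; exact N.one_mem
    · rintro _ ⟨n, rfl⟩; exact n.2
    · rw [← mul_inv_cancel_right γ (lf ⟨f γ, hγ⟩), mul_assoc]
      refine Subgroup.mem_sup_of_normal_right.2
        ⟨γ * (lf ⟨f γ, hγ⟩)⁻¹, ?_, lf ⟨f γ, hγ⟩, ⟨_, rfl⟩, by group⟩
      rw [MonoidHom.mem_ker, map_mul, map_inv, hflf, mul_inv_cancel]
  have hidxG : Gh.index = G.index := by
    rw [hGh, Subgroup.index_map_eq _ hqs (by rwa [hq, QuotientGroup.ker_mk']),
      hGT, Subgroup.index_comap_of_surjective _ hfs]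
  have hrel : Zh.relIndex Gh = N.relIndex G := by
    rw [hZmap, hGh, Subgroup.relIndex_map_map, hq, QuotientGroup.ker_mk', hsup, sup_eq_left.2 hLG,
      hGT, Subgroup.relIndex_comap, Subgroup.map_comap_eq_self_of_surjective hfs]
  have hsolv' : Group.IsSolvable ((T ⧸ L) ⧸ Gh) ∨ Group.IsSolvable (Gh ⧸ Zh.subgroupOf Gh) := by
    refine hsolv.imp (fun hs => ?_) fun hs => ?_
    · haveI := hs
      haveI : Group.IsSolvable (T ⧸ GT) := by
        refine Group.isSolvable_of_isSolvable_injective (f := QuotientGroup.map GT G f fun x hx => hx) ?_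
        rw [injective_iff_map_eq_one]
        intro x
        refine QuotientGroup.induction_on x fun γ hγ => ?_
        replace hγ : ((f γ : Γ) : Γ ⧸ G) = 1 := hγ
        rw [QuotientGroup.eq_one_iff] at hγ
        exact (QuotientGroup.eq_one_iff γ).2 hγ
      refine Group.isSolvable_of_surjective
        (f := QuotientGroup.lift GT ((QuotientGroup.mk' Gh).comp q) fun γ hγ =>
          (QuotientGroup.eq_one_iff (q γ)).2 ⟨γ, hγ, rfl⟩) fun y => ?_
      obtain ⟨z, rfl⟩ := QuotientGroup.mk'_surjective Gh y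
      obtain ⟨x, rfl⟩ := hqs z
      exact ⟨QuotientGroup.mk x, rfl⟩
    · haveI := hs
      let g₁ : GT →* G := f.subgroupComap G
      set NT := (N.subgroupOf G).comap g₁ with hNT
      haveI : NT.Normal := (Subgroup.Normal.subgroupOf hN G).comap g₁
      haveI : Group.IsSolvable (GT ⧸ NT) := by
        refine Group.isSolvable_of_isSolvable_injective
          (f := QuotientGroup.map NT (N.subgroupOf G) g₁ fun x hx => hx) ?_
        rw [injective_iff_map_eq_one]
        intro x
        refine QuotientGroup.induction_on x fun γ hγ => ?_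
        replace hγ : ((g₁ γ : G) : G ⧸ N.subgroupOf G) = 1 := hγ
        rw [QuotientGroup.eq_one_iff] at hγ
        exact (QuotientGroup.eq_one_iff γ).2 hγ
      let g₂ : GT →* Gh := q.subgroupMap GT
      refine Group.isSolvable_of_surjective
        (f := QuotientGroup.lift NT ((QuotientGroup.mk' (Zh.subgroupOf Gh)).comp g₂) fun γ hγ => ?_)
        fun y => ?_
      · refine (QuotientGroup.eq_one_iff (g₂ γ)).2 ?_
        have h1 : (γ : T) ∈ f.ker ⊔ L := hsup ▸ (hγ : f (γ : T) ∈ N)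
        obtain ⟨k, hk, l, hl, hkl⟩ := Subgroup.mem_sup_of_normal_right.1 h1
        refine ⟨⟨k, hk⟩, ?_⟩
        show q k = q γ
        rw [← hkl, map_mul, show q l = 1 from (QuotientGroup.eq_one_iff l).2 hl, mul_one]
      · obtain ⟨z, rfl⟩ := QuotientGroup.mk'_surjective _ y
        obtain ⟨x, rfl⟩ := q.subgroupMap_surjective GT z
        exact ⟨QuotientGroup.mk x, rfl⟩
  let ez : f.ker ≃* Zh := MonoidHom.ofInjective hjz
  let lam : Zh →* ℂˣ := MonoidHom.mk' (fun z => (co (ez.symm z))⁻¹) fun a b => by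
    rw [map_mul, hcomul, mul_inv]
  haveI : Fintype (T ⧸ L) := Fintype.ofFinite _
  haveI : Fintype Gh := Fintype.ofFinite _
  haveI : Fintype GT := Fintype.ofFinite _
  obtain ⟨η, hη, hηinv⟩ := exists_inv_central Gh Zh hZG hZc (by rw [hidxG, hrel]; exact hcop) hsolv' lam
  let qG : GT →* Gh := q.subgroupMap GT
  let pG : GT →* G := f.subgroupComap G
  have hpG : Function.Surjective pG := fun g => by
    obtain ⟨γ, hγ⟩ := hfs (g : Γ)
    exact ⟨⟨γ, by rw [hGT, Subgroup.mem_comap, hγ]; exact g.2⟩, Subtype.ext hγ⟩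
  let σ : GT →* GLd d := (op N ρ).comp (T.subtype.comp GT.subtype)
  let trF : GT → ℂ := (repOfUnits σ).character
  let F : GT → ℂ := fun γ => trF γ * (η : Gh → ℂ) (qG γ)
  have hF : ∀ a b : GT, pG a = pG b → F a = F b := by
    intro a b hab
    have hk : ((a : T) * (b : T)⁻¹) ∈ f.ker := by
      rw [MonoidHom.mem_ker, map_mul, map_inv, mul_inv_eq_one]
      exact congrArg Subtype.val hab
    set k : f.ker := ⟨_, hk⟩
    have h1 : σ a = sc d (co k) * σ b := by
      rw [← hco k]
      show op N ρ ((a : T) : interGroup N ρ) = _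
      rw [← inv_mul_cancel_right (a : T) (b : T)]
      show op N ρ ((((a : T) * (b : T)⁻¹ * (b : T)) : T) : interGroup N ρ) = _
      rw [Subgroup.coe_mul, map_mul]
      rfl
    have h2 : qG a = (⟨jz k, hZG ⟨k, rfl⟩⟩ : Gh) * qG b := Subtype.ext (by
      show q a = q (k : T) * q b
      rw [← map_mul]
      show q a = q ((a : T) * (b : T)⁻¹ * (b : T))
      rw [inv_mul_cancel_right])
    have h3 : (lam ⟨jz k, ⟨k, rfl⟩⟩ : ℂˣ) = (co k)⁻¹ := by
      show (co (ez.symm ⟨jz k, _⟩))⁻¹ = _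
      rw [show (⟨jz k, ⟨k, rfl⟩⟩ : Zh) = ez k from rfl, MulEquiv.symm_apply_apply]
    show trF a * _ = trF b * _
    rw [h2, hη ⟨jz k, ⟨k, rfl⟩⟩ (qG b), h3, ← mul_assoc]
    congr 1
    show LinearMap.trace ℂ _ (σ a).1 * _ = LinearMap.trace ℂ _ (σ b).1
    rw [h1, Units.val_mul]
    show LinearMap.trace ℂ _ (algebraMap ℂ (Module.End ℂ (Fin d → ℂ)) (co k : ℂ) * (σ b).1) * _ = _
    rw [Algebra.algebraMap_eq_smul_one, smul_mul_assoc, one_mul, map_smul, smul_eq_mul,
      mul_comm _ ((LinearMap.trace ℂ _) _), mul_assoc, Units.mul_inv, mul_one]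
  choose sg hsg using hpG
  have hχF : ∀ γ : GT, F (sg (pG γ)) = F γ := fun γ => hF _ _ (hsg _)
  -- irreducibility upstairs
  set L' := L.subgroupOf GT with hL'
  haveI : L'.Normal := Subgroup.Normal.subgroupOf inferInstance GT
  haveI : Fintype L' := Fintype.ofFinite _
  let pL : L' →* N :=
    { toFun := fun l => ⟨f ((l : GT) : T), by
        obtain ⟨n, hn⟩ := (l.2 : ((l : GT) : T) ∈ L)
        have h : f ((l : GT) : T) = (n : Γ) := (congrArg f hn).symm.trans (hflf n)
        rw [h]; exact n.2⟩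
      map_one' := Subtype.ext (map_one f)
      map_mul' := fun a b => Subtype.ext (map_mul f _ _) }
  have hpL : Function.Surjective pL := fun n =>
    ⟨⟨⟨lf n, hLG ⟨n, rfl⟩⟩, ⟨n, rfl⟩⟩, Subtype.ext (hflf n)⟩
  have hresL : ∀ l : L', trF (l : GT) = (θ : N → ℂ) (pL l) := by
    intro l
    obtain ⟨n, hn⟩ := (l.2 : ((l : GT) : T) ∈ L)
    have hp : pL l = n := Subtype.ext (by
      show f ((l : GT) : T) = (n : Γ)
      exact (congrArg f hn).symm.trans (hflf n))
    rw [hp, ← hθ]
    show LinearMap.trace ℂ _ (op N ρ ((l : GT) : T)).1 = LinearMap.trace ℂ _ (ρ n)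
    exact congrArg (fun t : T => LinearMap.trace ℂ _ (op N ρ t).1) hn.symm
  have htrc : IsCharacter GT trF := ⟨d, repOfUnits σ, rfl⟩
  have hηc : IsCharacter GT (fun γ => (η : Gh → ℂ) (qG γ)) :=
    CfsgLib.Clifford.isCharacter_pullback (irr_isCharacter η) qG
  have hFc : IsCharacter GT F := isCharacter_mul htrc hηc
  have hηirr : IsIrrCharacter GT (fun γ => (η : Gh → ℂ) (qG γ)) :=
    CfsgLib.Clifford.isIrrCharacter_pullback η.2 qG (q.subgroupMap_surjective GT)
  have hLi : IsIrrCharacter L' (fun l : L' => trF l) := by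
    rw [funext hresL]
    exact CfsgLib.Clifford.isIrrCharacter_pullback θ.2 pL hpL
  have hqL : ∀ (l : L') (γ : GT), qG ((l : GT) * γ) = qG γ := fun l γ => Subtype.ext (by
    show q (((l : GT) : T) * γ) = q γ
    rw [map_mul, show q ((l : GT) : T) = 1 from (QuotientGroup.eq_one_iff _).2 l.2, one_mul])
  have hFirr : IsIrrCharacter GT F := by
    refine (isIrrCharacter_iff_classInner_self hFc).2 ?_
    have h := CfsgLib.NormalAvg.classInner_avgN_left L' (fun γ => trF γ * conj (trF γ))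
      (f := fun γ => (η : Gh → ℂ) (qG γ) * conj ((η : Gh → ℂ) (qG γ)))
      (fun n γ => by simp only [hqL])
    rw [show CfsgLib.NormalAvg.avgN L' (fun γ => trF γ * conj (trF γ)) = fun _ => 1 from
      CfsgLib.NormalAvg.pairAvg_self L' htrc hLi] at h
    rw [← classInner_irr_self hηirr]
    unfold classInner at h ⊢
    refine Eq.trans ?_ (h.symm.trans ?_)
    · congr 1
      exact Finset.sum_congr rfl fun γ _ => by simp [F]; ring
    · congr 1
      exact Finset.sum_congr rfl fun γ _ => by simp; ring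
  have hχi : IsIrrCharacter G (fun g => F (sg g)) :=
    CfsgLib.CharCorrQ.isIrrCharacter_of_pullback pG (fun g => ⟨sg g, hsg g⟩) (by rwa [funext hχF])
  refine ⟨⟨_, hχi⟩, ?_, fun x g => ?_⟩
  · have h1 : (fun n : N => F (sg ⟨n, hNG n.2⟩)) = (η : Gh → ℂ) 1 • (θ : N → ℂ) := by
      funext n
      have hmem : lf n ∈ GT := hLG ⟨n, rfl⟩
      rw [show (⟨(n : Γ), hNG n.2⟩ : G) = pG ⟨lf n, hmem⟩ from rfl, hχF]
      show trF ⟨lf n, hmem⟩ * (η : Gh → ℂ) (qG ⟨lf n, hmem⟩) = _
      rw [show qG ⟨lf n, hmem⟩ = 1 from Subtype.ext ((QuotientGroup.eq_one_iff (lf n)).2 ⟨n, rfl⟩),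
        hresL ⟨⟨lf n, hmem⟩, ⟨n, rfl⟩⟩, Pi.smul_apply, smul_eq_mul, mul_comm]
      congr 1
    show classInner (fun n : N => F (sg ⟨n, hNG n.2⟩)) (θ : N → ℂ) ≠ 0
    rw [h1, classInner_smul_left, classInner_irr_self θ.2, mul_one]
    exact irr_one_ne_zero η
  · obtain ⟨t, rfl⟩ := hfs x
    set a := sg g
    let c : GT := ⟨t * (a : T) * t⁻¹, (inferInstance : GT.Normal).conj_mem _ a.2 t⟩
    have hc : pG c = ⟨f t * g * (f t)⁻¹, hG.conj_mem g g.2 _⟩ := Subtype.ext (by
      show f (t * (a : T) * t⁻¹) = _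
      rw [map_mul, map_mul, map_inv, show f (a : T) = (g : Γ) from congrArg Subtype.val (hsg g)])
    show F (sg ⟨f t * g * (f t)⁻¹, _⟩) = F a
    rw [← hc, hχF]
    show trF c * (η : Gh → ℂ) (qG c) = trF a * (η : Gh → ℂ) (qG a)
    have h2 : trF c = trF a := by
      show LinearMap.trace ℂ _ (op N ρ ((t * (a : T) * t⁻¹ : T) : interGroup N ρ)).1 = _
      rw [Subgroup.coe_mul, Subgroup.coe_mul, Subgroup.coe_inv, map_mul, map_mul, map_inv,
        Units.val_mul, Units.val_mul, LinearMap.trace_mul_comm, ← mul_assoc, Units.inv_mul, one_mul]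
      rfl
    have h3 : (η : Gh → ℂ) (qG c) = (η : Gh → ℂ) (qG a) := by
      rw [← hηinv (q t) (qG a)]
      refine congrArg _ (Subtype.ext ?_)
      show q (t * (a : T) * t⁻¹) = q t * q a * (q t)⁻¹
      rw [map_mul, map_mul, map_inv]
    rw [h2, h3]

end CfsgLib.CoprimeFixed
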