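import Cfsg.Agent.Lib.CharCorr.NormalSylowOrth

/-!
# The correspondence of invariant characters modulo a normal Sylow subgroup
-/

set_option autoImplicit false
set_option linter.style.haveILetI false
set_option linter.unusedSectionVars false

noncomputable section

namespace CfsgLib.CharCorrQ

open Cfsg CfsgLib.Characters CfsgLib.CharCorr CfsgLib.NormalAvg CfsgLib.Clifford
open scoped ComplexConjugate

universe u v

theorem inner_eq_mult {A : Type*} [Group A] (N : Subgroup A) [Fintype N] (χ : IrrCharacter A)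
    (η : IrrCharacter N) :
    classInner (fun n : N => (χ : A → ℂ) n) (η : N → ℂ) = (mult N.subtype χ η : ℂ) :=
  mult_spec N.subtype χ η

theorem mult_comp_equiv {A B B' : Type*} [Group A] [Group B] [Group B'] [Fintype B] [Fintype B']
    (j : B →* A) (e : B' ≃* B) (χ : IrrCharacter A) (γ : IrrCharacter B) :
    mult (j.comp e.toMonoidHom) χ (twistIrr e γ) = mult j χ γ := by
  refine mult_eq_of_classInner_eq _ _ _ ?_
  rw [← mult_spec j χ γ, ← classInner_comp_equiv e ((χ : A → ℂ) ∘ j) (γ : B → ℂ)]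
  rfl

variable {K : Type u} [Group K] [Fintype K] {S : Type v} [Group S] [Finite S] {p : ℕ}
  {act : S →* MulAut K} {Q C : Subgroup K}
variable [hQn : Q.Normal] [Fintype Q] [Fintype C] (h : SylowSetting p act Q C)

include h in
/-- Invariant constituents of one character are conjugate under `C`. -/
theorem exists_conj_mem (θ θ' : IrrCharacter Q) (hθ : Inv (restrictAct act Q h.stable) θ)
    (hθ' : Inv (restrictAct act Q h.stable) θ')
    (hc : ∃ k : K, (θ' : Q → ℂ) = conjChar hQn (θ : Q → ℂ) k) :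
    ∃ c ∈ C, (θ' : Q → ℂ) = conjChar hQn (θ : Q → ℂ) c := by
  classical
  haveI : Fact p.Prime := ⟨h.prime⟩
  obtain ⟨k, hk⟩ := hc
  have hQfix : ∀ (z : K), z ∈ Q → conjChar hQn (θ : Q → ℂ) z = θ := fun z hz =>
    le_inertia hQn (irr_isClassFunction θ) hz
  let F : K → Prop := fun x => (θ' : Q → ℂ) = conjChar hQn (θ : Q → ℂ) x
  have hwd : ∀ x, ∀ z ∈ Q, F x → F (z * x) := fun x z hz hx => by
    simp only [F] at hx ⊢
    rw [← conjChar_mul, hQfix z hz, hx]
  let act' := quotAct act Q h.stable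
  let Z := {y : K ⧸ Q // F y.out}
  have hout : ∀ x : K, F x → F (x : K ⧸ Q).out := fun x hx => by
    obtain ⟨n, hn⟩ := QuotientGroup.mk_out_eq_mul Q x
    rw [hn, show x * n = (x * n * x⁻¹) * x by group]
    exact hwd x _ (hQn.conj_mem _ n.2 x) hx
  have hback : ∀ x : K, F (x : K ⧸ Q).out → F x := fun x hx => by
    obtain ⟨n, hn⟩ := QuotientGroup.mk_out_eq_mul Q x
    rw [hn] at hx
    have := hwd _ _ (hQn.conj_mem _ (Q.inv_mem n.2) x) hx
    rwa [show x * (n : K)⁻¹ * x⁻¹ * (x * n) = x by group] at this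
  have hF : ∀ s x, F x → F (act s x) := fun s x hx => by
    funext n
    have hm : (⟨x * ((restrictAct act Q h.stable s⁻¹ n : Q) : K) * x⁻¹, hQn.conj_mem _ (h.stable _ _ n.2) x⟩ : Q) =
        restrictAct act Q h.stable s⁻¹ ⟨act s x * n * (act s x)⁻¹, hQn.conj_mem _ n.2 _⟩ :=
      Subtype.ext (by
        show x * act s⁻¹ (n : K) * x⁻¹ = act s⁻¹ (act s x * n * (act s x)⁻¹)
        rw [map_mul (act s⁻¹), map_mul (act s⁻¹), map_inv (act s⁻¹),
          show act s⁻¹ (act s x) = x by
            rw [← MulAut.mul_apply, ← map_mul act, inv_mul_cancel, map_one]; rfl])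
    have h1 : (θ' : Q → ℂ) (restrictAct act Q h.stable s⁻¹ n) =
        (θ : Q → ℂ) ⟨x * ((restrictAct act Q h.stable s⁻¹ n : Q) : K) * x⁻¹,
          hQn.conj_mem _ (h.stable _ _ n.2) x⟩ := congrFun hx _
    rw [hθ', hm, hθ] at h1
    exact h1
  letI : MulAction S Z :=
    { smul := fun s y => ⟨act' s y.1, by
        obtain ⟨y, hy⟩ := y
        induction y using QuotientGroup.induction_on with
        | _ x => exact hout _ (hF s x (hback x hy))⟩
      one_smul := fun y => Subtype.ext (by change act' 1 y.1 = y.1; simp)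
      mul_smul := fun s t y => Subtype.ext (by change act' (s * t) y.1 = act' s (act' t y.1); simp) }
  let T := (inertia hQn (θ : Q → ℂ)).map (QuotientGroup.mk' Q)
  have hZ : Nat.card Z = Nat.card T := by
    symm
    have hkey : ∀ t ∈ inertia hQn (θ : Q → ℂ), F (t * k) := fun t ht => by
      simp only [F]
      rw [← conjChar_mul, show conjChar hQn (θ : Q → ℂ) t = θ from ht]
      exact hk
    refine Nat.card_eq_of_bijective (fun t => ⟨t.1 * (k : K ⧸ Q), ?_⟩) ⟨?_, ?_⟩
    · obtain ⟨t, ht, e⟩ := t.2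
      rw [← e, QuotientGroup.mk'_apply, ← QuotientGroup.mk_mul]
      exact hout _ (hkey t ht)
    · intro a b e
      exact Subtype.ext (mul_right_cancel (congrArg Subtype.val e))
    · rintro ⟨y, hy⟩
      induction y using QuotientGroup.induction_on with
      | _ x =>
        refine ⟨⟨_, x * k⁻¹, ?_, rfl⟩, Subtype.ext ?_⟩
        · show conjChar hQn (θ : Q → ℂ) (x * k⁻¹) = θ
          rw [← conjChar_mul, ← (hback x hy), hk, conjChar_mul, mul_inv_cancel, conjChar_one]
        · simp
  have hnd : ¬ p ∣ Nat.card Z := fun hd => h.coprime (by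
    rw [Subgroup.index_eq_card]
    exact (hZ ▸ hd).trans (Subgroup.card_subgroup_dvd_card T))
  obtain ⟨⟨y, hy⟩, hfix⟩ := h.pgroup.nonempty_fixed_point_of_prime_not_dvd_card Z hnd
  induction y using QuotientGroup.induction_on with
  | _ x =>
    refine ⟨x, (h.mem_iff x).mpr ((mem_fixedSub_mk act Q h.stable).mp fun s => ?_), hback x hy⟩
    exact congrArg Subtype.val (hfix s)

include h in
/-- At most one invariant constituent on `C` has multiplicity prime to `p`. -/
theorem mult_unique (χ : IrrCharacter K) (hχ : Inv act χ) (ξ₁ ξ₂ : IrrCharacter C)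
    (hξ₁ : Inv (restrictAct act C h.stableC) ξ₁) (hξ₂ : Inv (restrictAct act C h.stableC) ξ₂)
    (h₁ : ¬ p ∣ mult C.subtype χ ξ₁) (h₂ : ¬ p ∣ mult C.subtype χ ξ₂) : ξ₁ = ξ₂ := by
  classical
  haveI : Fact p.Prime := ⟨h.prime⟩
  obtain ⟨θ, hθ, hθm⟩ := exists_inv_constituent act Q h.stable h.pgroup h.coprime χ hχ
  set T := inertia hQn (θ : Q → ℂ) with hTdef
  letI := Fintype.ofFinite T
  have hQT : Q ≤ T := le_inertia hQn (irr_isClassFunction θ)
  have hTst : ∀ s, ∀ t ∈ T, act s t ∈ T := by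
    intro s t ht
    refine mem_inertia.2 fun n => ?_
    have h1 := mem_inertia.1 ht (restrictAct act Q h.stable s⁻¹ n)
    rw [hθ] at h1
    rw [← h1, ← hθ s ⟨t * ((restrictAct act Q h.stable s⁻¹ n : Q) : K) * t⁻¹, hQn.conj_mem _ (h.stable _ _ n.2) t⟩]
    refine congrArg _ (Subtype.ext ?_)
    show act s t * n * (act s t)⁻¹ = act s (t * act s⁻¹ (n : K) * t⁻¹)
    rw [map_mul (act s), map_mul (act s), map_inv (act s), ← MulAut.mul_apply,
      ← map_mul act, mul_inv_cancel, map_one]
    rfl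
  let actT := restrictAct act T hTst
  -- the Clifford correspondent
  obtain ⟨ψf, hψ, hψind, hψθ⟩ := Clifford.correspondence hQn θ.2 T hTdef hQT χ.2
    (by rw [inner_eq_mult]; exact_mod_cast hθm)
  let ψ : IrrCharacter T := ⟨ψf, hψ⟩
  let kT : Q →* T := Subgroup.inclusion hQT
  have hkT : T.subtype.comp kT = Q.subtype := MonoidHom.ext fun _ => rfl
  have hψk : mult kT ψ θ = mult Q.subtype χ θ :=
    mult_eq_of_classInner_eq _ _ _ (hψθ.trans (inner_eq_mult Q χ θ))
  have hψm : mult T.subtype χ ψ = 1 := by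
    refine mult_eq_of_classInner_eq _ _ _ ?_
    have := CfsgLib.Induction.classInner_indFun T ψf (irr_isClassFunction χ)
    rw [hψind, classInner_irr_self χ.2, classInner_conj_symm] at this
    have h' := congrArg conj this
    rw [Complex.conj_conj, map_one] at h'
    rw [Nat.cast_one]
    exact h'.symm
  have hother : ∀ ψ' : IrrCharacter T, ψ' ≠ ψ → mult T.subtype χ ψ' * mult kT ψ' θ = 0 := by
    intro ψ' hne
    have h1 : mult Q.subtype χ θ = ∑ ω, mult T.subtype χ ω * mult kT ω θ := by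
      rw [← mult_comp, hkT]
    have h2 := Finset.sum_le_sum_of_subset (f := fun ω => mult T.subtype χ ω * mult kT ω θ)
      (Finset.subset_univ {ψ', ψ})
    rw [← h1, Finset.sum_pair hne, hψm, one_mul, hψk] at h2
    omega
  have hθfix : ∀ s, twistIrr (restrictAct act Q h.stable s) θ = θ := fun s =>
    Subtype.ext (funext fun g => hθ s g)
  have hψinv : Inv actT ψ := by
    intro s
    have e1 : mult T.subtype χ (twistIrr (actT s) ψ) = mult T.subtype χ ψ := by
      have := mult_twist T.subtype (act s) (actT s) (fun _ => rfl) χ ψ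
      rwa [show twistIrr (act s) χ = χ from Subtype.ext (funext fun g => hχ s g)] at this
    have e2 : mult kT (twistIrr (actT s) ψ) θ = mult kT ψ θ := by
      have := mult_twist kT (actT s) (restrictAct act Q h.stable s) (fun _ => rfl) ψ θ
      rwa [hθfix s] at this
    by_contra hne
    have hne' : twistIrr (actT s) ψ ≠ ψ := fun e => hne fun g =>
      congrFun (congrArg Subtype.val e) g
    have := hother _ hne'
    rw [e1, e2, hψm, one_mul, hψk] at this
    exact hθm this
  -- an invariant extension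
  let NT := Q.subgroupOf T
  haveI : NT.Normal := hQn.subgroupOf T
  letI := Fintype.ofFinite NT
  let eT : NT ≃* Q := Subgroup.subgroupOfEquivOfLe hQT
  have hNTst : ∀ s, ∀ n ∈ NT, actT s n ∈ NT := fun s n hn => h.stable s _ hn
  have hNTcop : ¬ p ∣ NT.index := fun hd => h.coprime (hd.trans
    (Subgroup.relIndex_dvd_index_of_normal Q T))
  obtain ⟨θT, hθT, hθTres⟩ := exists_inv_extension actT NT hNTst h.pgroup hNTcop
    (by rw [Nat.card_congr eT.toEquiv]; exact h.qgroup) (twistIrr eT θ)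
    (fun g n => mem_inertia.1 g.2 (eT n)) (fun s n => hθ s (eT n))
  have hθTQ : ∀ q : Q, (θT : T → ℂ) (kT q) = (θ : Q → ℂ) q := fun q => hθTres (eT.symm q)
  -- the quotient
  let β : T → ℂ := pairAvg NT (ψ : T → ℂ) (θT : T → ℂ)
  have hθTc := irr_isCharacter θT
  have hθTN : IsIrrCharacter NT (fun n : NT => (θT : T → ℂ) n) := by
    rw [show (fun n : NT => (θT : T → ℂ) n) = (twistIrr eT θ : NT → ℂ) from funext hθTres]
    exact (twistIrr eT θ).2
  have hψne : classInner (fun n : NT => (ψ : T → ℂ) n) (fun n : NT => (θT : T → ℂ) n) ≠ 0 := by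
    rw [classInner_subgroupOf hQT,
      show (fun n : Q => (θT : T → ℂ) (Subgroup.inclusion hQT n)) = (θ : Q → ℂ) from funext hθTQ,
      show classInner (fun n : Q => (ψ : T → ℂ) (Subgroup.inclusion hQT n)) (θ : Q → ℂ) = _ from
        mult_spec kT ψ θ, hψk]
    exact_mod_cast hθm
  have hβ : IsIrrCharacter T β := isIrrCharacter_pairAvg NT ψ.2 hθTc hθTN hψne
  have hβinv : ∀ s t, β (actT s t) = β t := by
    intro s t
    simp only [β, pairAvg_apply]
    congr 1
    refine (Fintype.sum_equiv (restrictAct actT NT hNTst s).toEquiv _ _ fun n => ?_).symm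
    simp only [MulEquiv.toEquiv_eq_coe, EquivLike.coe_coe, restrictAct_coe, ← map_mul, hψinv s,
      hθT s]
  letI := Fintype.ofFinite (T ⧸ NT)
  let bF : T ⧸ NT → ℂ := fun y => β y.out
  have hbF : ∀ t : T, bF (t : T ⧸ NT) = β t := fun t => by
    obtain ⟨n, hn⟩ := QuotientGroup.mk_out_eq_mul NT t
    change β (t : T ⧸ NT).out = β t
    rw [hn]
    exact avgN_mul_right NT _ n t
  have hbirr : IsIrrCharacter (T ⧸ NT) bF :=
    isIrrCharacter_of_pullback (QuotientGroup.mk' NT) (QuotientGroup.mk'_surjective NT)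
      (by rw [show (fun a => bF (QuotientGroup.mk' NT a)) = β from funext hbF]; exact hβ)
  let b : IrrCharacter (T ⧸ NT) := ⟨bF, hbirr⟩
  let actQT := quotAct actT NT hNTst
  have hbinv : Inv actQT b := fun s y => by
    induction y using QuotientGroup.induction_on with
    | _ t =>
      change bF (actQT s (t : T ⧸ NT)) = bF (t : T ⧸ NT)
      rw [quotAct_mk, hbF, hbF, hβinv]
  -- the fixed points
  let D : Subgroup C := T.subgroupOf C
  letI := Fintype.ofFinite D
  let ι : D →* T := (C.subtype.comp D.subtype).codRestrict T fun d => d.2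
  let Fx := fixedSub actQT
  letI := Fintype.ofFinite Fx
  let π : D →* Fx := ((QuotientGroup.mk' NT).comp ι).codRestrict _ fun d =>
    (mem_fixedSub_mk actT NT hNTst).mpr fun s => (h.mem_iff _).mp (d : C).2 s
  have hπ : Function.Surjective π := by
    rintro ⟨y, hy⟩
    obtain ⟨t, rfl⟩ := QuotientGroup.mk_surjective y
    have htC : (t : K) ∈ C := (h.mem_iff _).mpr fun s => (mem_fixedSub_mk actT NT hNTst).mp hy s
    exact ⟨⟨⟨t, htC⟩, t.2⟩, rfl⟩
  let N' := Q.subgroupOf C
  haveI : N'.Normal := hQn.subgroupOf C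
  letI := Fintype.ofFinite N'
  let eC : N' ≃* Q := Subgroup.subgroupOfEquivOfLe h.le
  let θC : IrrCharacter N' := twistIrr eC θ
  have hN'D : N' ≤ D := fun n hn => hQT hn
  have hD : D = inertia (hQn.subgroupOf C) (θC : N' → ℂ) := by
    ext c
    change (c : K) ∈ inertia hQn (θ : Q → ℂ) ↔ _
    rw [mem_inertia, mem_inertia]
    refine ⟨fun hc n => hc (eC n), fun hc q => ?_⟩
    have := hc (eC.symm q)
    exact this
  let ND := N'.subgroupOf D
  haveI : ND.Normal := (inferInstance : N'.Normal).subgroupOf D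
  letI := Fintype.ofFinite ND
  let kD : Q →* D := (Subgroup.inclusion hN'D).comp eC.symm.toMonoidHom
  let eD : ND ≃* Q := (Subgroup.subgroupOfEquivOfLe hN'D).trans eC
  let α : D → ℂ := fun d => (θT : T → ℂ) (ι d)
  have hαc : IsCharacter D α := isCharacter_comp hθTc ι
  have hαN : IsIrrCharacter ND (fun n : ND => α n) := by
    rw [show (fun n : ND => α n) = (twistIrr eD θ : ND → ℂ) from funext fun n => hθTQ (eD n)]
    exact (twistIrr eD θ).2
  have havg : ∀ d : D, β (ι d) = pairAvg ND (fun x : D => (ψ : T → ℂ) (ι x)) α d := by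
    intro d
    simp only [β, pairAvg_apply]
    rw [Nat.card_congr (eT.trans eD.symm).toEquiv]
    congr 1
    exact Fintype.sum_equiv (eT.trans eD.symm).toEquiv _ _ fun n => rfl
  -- the data attached to a character of `C`
  have data : ∀ ξ : IrrCharacter C, Inv (restrictAct act C h.stableC) ξ →
      ¬ p ∣ mult C.subtype χ ξ →
      ∃ η : IrrCharacter D, indFun D (η : D → ℂ) = (ξ : C → ℂ) ∧
        classInner (fun n : ND => (η : D → ℂ) n) (fun n : ND => α n) ≠ 0 ∧
        ¬ p ∣ mult ι ψ η := by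
    intro ξ hξ hm
    have hN'st : ∀ s, ∀ n ∈ N', restrictAct act C h.stableC s n ∈ N' := fun s n hn =>
      h.stable s _ hn
    have hN'cop : ¬ p ∣ N'.index := fun hd => h.coprime (hd.trans
      (Subgroup.relIndex_dvd_index_of_normal Q C))
    obtain ⟨τ, hτ, hτm⟩ := exists_inv_constituent (restrictAct act C h.stableC) N' hN'st h.pgroup
      hN'cop ξ hξ
    let θ' : IrrCharacter Q := twistIrr eC.symm τ
    have hθ' : Inv (restrictAct act Q h.stable) θ' := fun s q => hτ s (eC.symm q)
    have hθ'm : mult Q.subtype χ θ' ≠ 0 := by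
      have e : mult (N'.subtype.comp eC.symm.toMonoidHom) ξ θ' = mult N'.subtype ξ τ :=
        mult_comp_equiv N'.subtype eC.symm ξ τ
      have h1 := mult_mul_le_comp C.subtype (N'.subtype.comp eC.symm.toMonoidHom) χ ξ θ'
      rw [e, show C.subtype.comp (N'.subtype.comp eC.symm.toMonoidHom) = Q.subtype from
        MonoidHom.ext fun _ => rfl] at h1
      intro h0
      rw [h0, Nat.le_zero, mul_eq_zero] at h1
      exact h1.elim (fun hh => hm (hh ▸ dvd_zero p)) hτm
    obtain ⟨c, hc, hcθ⟩ := exists_conj_mem h θ θ' hθ hθ' (exists_conj_of_constituent hQn χ.2 θ.2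
      θ'.2 (by rw [inner_eq_mult]; exact_mod_cast hθm) (by rw [inner_eq_mult]; exact_mod_cast hθ'm))
    have hτc : (τ : N' → ℂ) = conjChar (hQn.subgroupOf C) (θC : N' → ℂ) ⟨c, hc⟩ := by
      funext n
      have := congrFun hcθ (eC n)
      simp only [θ', twistIrr_apply, MulEquiv.symm_apply_apply] at this
      exact this
    have hξθ : classInner (fun n : N' => (ξ : C → ℂ) n) (θC : N' → ℂ) ≠ 0 := by
      rw [← classInner_res_conjChar (hQn.subgroupOf C) (irr_isClassFunction ξ) (θC : N' → ℂ) ⟨c, hc⟩,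
        ← hτc, inner_eq_mult]
      exact_mod_cast hτm
    obtain ⟨ηf, hη, hηind, hηθ⟩ := Clifford.correspondence (hQn.subgroupOf C) θC.2 D hD hN'D ξ.2 hξθ
    let η : IrrCharacter D := ⟨ηf, hη⟩
    have hkη : classInner (fun q : Q => ηf (kD q)) (θ : Q → ℂ) ≠ 0 := by
      rw [← classInner_comp_equiv eC (fun q : Q => ηf (kD q)) (θ : Q → ℂ)]
      convert (hηθ.symm ▸ hξθ) using 3
      · simp [kD]
        rfl
      · rfl
    refine ⟨η, hηind, ?_, ?_⟩
    · rw [← classInner_comp_equiv eD (fun q : Q => ηf (kD q)) (θ : Q → ℂ)] at hkη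
      convert hkη using 2
      · funext n
        exact congrArg ηf (Subtype.ext (Subtype.ext rfl))
      · funext n
        exact hθTQ (eD n)
    · have h1 : mult (C.subtype.comp D.subtype) χ η = mult C.subtype χ ξ := by
        refine mult_eq_of_classInner_eq _ _ _ ?_
        rw [← mult_spec C.subtype χ ξ, ← hηind,
          CfsgLib.Induction.classInner_indFun_right D ηf
            (isClassFunction_comp (irr_isClassFunction χ) C.subtype)]
        rfl
      have h2 : mult (C.subtype.comp D.subtype) χ η = mult ι ψ η := by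
        rw [show C.subtype.comp D.subtype = T.subtype.comp ι from MonoidHom.ext fun _ => rfl,
          mult_comp, Finset.sum_eq_single ψ (fun ω _ hω => ?_) (fun hh => absurd (Finset.mem_univ _) hh),
          hψm, one_mul]
        rcases mul_eq_zero.mp (hother ω hω) with h0 | h0
        · rw [h0, zero_mul]
        · have h3 := mult_mul_le_comp ι kD ω η θ
          rw [show ι.comp kD = kT from MonoidHom.ext fun q => Subtype.ext rfl, h0, Nat.le_zero,
            mul_eq_zero] at h3
          rcases h3 with h3 | h3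
          · rw [h3, mul_zero]
          · refine absurd ?_ hkη
            rw [show classInner (fun q : Q => ηf (kD q)) (θ : Q → ℂ) = _ from mult_spec kD η θ, h3,
              Nat.cast_zero]
      rwa [← h2, h1]
  -- Glauberman on the quotient
  have hγ : ∀ η : IrrCharacter D,
      classInner (fun n : ND => (η : D → ℂ) n) (fun n : ND => α n) ≠ 0 →
      ∃ γ : IrrCharacter Fx, (∀ d, (γ : Fx → ℂ) (π d) = pairAvg ND (η : D → ℂ) α d) ∧
        mult Fx.subtype b γ = mult ι ψ η := by
    intro η hη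
    let gF : Fx → ℂ := fun y => pairAvg ND (η : D → ℂ) α (Function.surjInv hπ y)
    have hgF : ∀ d, gF (π d) = pairAvg ND (η : D → ℂ) α d := by
      intro d
      set d' := Function.surjInv hπ (π d) with hd'
      have he : π d' = π d := Function.surjInv_eq hπ _
      have hmem : d' * d⁻¹ ∈ ND := by
        have h1 : π (d' * d⁻¹) = 1 := by rw [map_mul, map_inv, he, mul_inv_cancel]
        exact (QuotientGroup.eq_one_iff (N := NT) (ι (d' * d⁻¹))).mp (congrArg Subtype.val h1)
      change pairAvg ND (η : D → ℂ) α d' = _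
      conv_lhs => rw [show d' = ((⟨_, hmem⟩ : ND) : D) * d by simp]
      exact avgN_mul_left ND _ _ d
    have hgi : IsIrrCharacter Fx gF := isIrrCharacter_of_pullback π hπ (by
      rw [show (fun a => gF (π a)) = pairAvg ND (η : D → ℂ) α from funext hgF]
      exact isIrrCharacter_pairAvg ND η.2 hαc hαN hη)
    refine ⟨⟨gF, hgi⟩, hgF, mult_eq_of_classInner_eq _ _ _ ?_⟩
    rw [← classInner_comp_surjective π hπ,
      show (fun a => gF (π a)) = pairAvg ND (η : D → ℂ) α from funext hgF,
      show (fun a => ((b : T ⧸ NT → ℂ) ∘ Fx.subtype) (π a)) =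
        pairAvg ND (fun x : D => (ψ : T → ℂ) (ι x)) α from
        funext fun a => (hbF (ι a)).trans (havg a)]
    have hexp : pairAvg ND (fun x : D => (ψ : T → ℂ) (ι x)) α =
        ∑ ω : IrrCharacter D, (mult ι ψ ω : ℂ) • pairAvg ND (ω : D → ℂ) α := by
      have h1 : (fun g : D => (ψ : T → ℂ) (ι g) * conj (α g)) =
          ∑ ω : IrrCharacter D, (mult ι ψ ω : ℂ) • fun g : D => (ω : D → ℂ) g * conj (α g) := by
        funext g
        have := congrFun (irr_res_eq_sum ψ ι) g
        simp only [mult_spec, Finset.sum_apply, Pi.smul_apply, Function.comp_apply, smul_eq_mul] at this ⊢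
        rw [this, Finset.sum_mul]
        exact Finset.sum_congr rfl fun ω _ => by ring
      unfold pairAvg
      rw [h1, avgN_sum]
    rw [hexp, classInner_sum_left, Finset.sum_eq_single η (fun ω _ hω => by
      rw [classInner_smul_left, classInner_pairAvg_eq ND hαc hαN hη, if_neg hω, mul_zero])
      (fun hh => absurd (Finset.mem_univ _) hh), classInner_smul_left,
      classInner_pairAvg_eq ND hαc hαN hη, if_pos rfl, mul_one]
  obtain ⟨η₁, hi₁, hn₁, hp₁⟩ := data ξ₁ hξ₁ h₁
  obtain ⟨η₂, hi₂, hn₂, hp₂⟩ := data ξ₂ hξ₂ h₂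
  obtain ⟨γ₁, hg₁, hm₁⟩ := hγ η₁ hn₁
  obtain ⟨γ₂, hg₂, hm₂⟩ := hγ η₂ hn₂
  have hTcard : ¬ p ∣ Nat.card (T ⧸ NT) := hNTcop
  have hγe : γ₁ = γ₂ := (existsUnique_mult h.prime h.pgroup (isFixedHom_fixedSub actQT) hTcard
    hbinv).unique (hm₁.symm ▸ hp₁) (hm₂.symm ▸ hp₂)
  have hηe : η₁ = η₂ := classInner_pairAvg ND hαc hαN hn₁ hn₂
    (funext fun d => by rw [← hg₁, ← hg₂, hγe])
  exact Subtype.ext (by rw [← hi₁, ← hi₂, hηe])

include h in
/-- The correspondence of invariant characters. -/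
theorem exists_correspondence :
    ∃ f : {χ : IrrCharacter K // Inv act χ} →
        {ξ : IrrCharacter C // Inv (restrictAct act C h.stableC) ξ},
      Function.Bijective f ∧ ∀ χ,
        ((mult C.subtype χ.1 (f χ).1 : ZMod p) = 1 ∨ (mult C.subtype χ.1 (f χ).1 : ZMod p) = -1) ∧
        (∀ ξ, ξ ≠ f χ → p ∣ mult C.subtype χ.1 ξ.1) ∧
        ((charDegree ((f χ).1 : C → ℂ) : ZMod p) = charDegree (χ.1 : K → ℂ) ∨
          (charDegree ((f χ).1 : C → ℂ) : ZMod p) = -(charDegree (χ.1 : K → ℂ) : ZMod p)) := by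
  classical
  haveI : Fact p.Prime := ⟨h.prime⟩
  let m : IrrCharacter K → IrrCharacter C → ZMod p := fun χ ξ => (mult C.subtype χ ξ : ZMod p)
  have hdvd : ∀ χ ξ, ¬ p ∣ mult C.subtype χ ξ ↔ m χ ξ ≠ 0 := fun χ ξ =>
    not_congr (ZMod.natCast_eq_zero_iff _ _).symm
  have hex : ∀ χ : {χ : IrrCharacter K // Inv act χ},
      ∃ ξ : {ξ : IrrCharacter C // Inv (restrictAct act C h.stableC) ξ}, m χ.1 ξ.1 ≠ 0 := by
    intro χ
    by_contra hne
    push Not at hne
    have h1 := row_orth h χ.1 χ.1 χ.2 χ.2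
    rw [if_pos rfl, Finset.sum_eq_zero fun ξ hξ => by
      rw [show (mult C.subtype χ.1 ξ : ZMod p) = 0 from hne ⟨ξ, (Finset.mem_filter.1 hξ).2⟩,
        zero_mul]] at h1
    exact zero_ne_one h1
  choose f hf using hex
  have huniq : ∀ χ ξ, m χ.1 ξ.1 ≠ 0 → ξ = f χ := fun χ ξ hne =>
    Subtype.ext (mult_unique h χ.1 χ.2 ξ.1 (f χ).1 ξ.2 (f χ).2 ((hdvd _ _).2 hne)
      ((hdvd _ _).2 (hf χ)))
  have hrow : ∀ χ χ' : {χ : IrrCharacter K // Inv act χ},
      m χ.1 (f χ).1 * m χ'.1 (f χ).1 = if χ.1 = χ'.1 then 1 else 0 := by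
    intro χ χ'
    rw [← row_orth h χ.1 χ'.1 χ.2 χ'.2,
      Finset.sum_eq_single_of_mem (f χ).1 (Finset.mem_filter.2 ⟨Finset.mem_univ _, (f χ).2⟩)
        fun ξ hξ hne => ?_]
    have h0 : m χ.1 ξ = 0 := by_contra fun hc =>
      hne (congrArg Subtype.val (huniq χ ⟨ξ, (Finset.mem_filter.1 hξ).2⟩ hc))
    rw [show (mult C.subtype χ.1 ξ : ZMod p) = 0 from h0, zero_mul]
  have hsq : ∀ χ, m χ.1 (f χ).1 = 1 ∨ m χ.1 (f χ).1 = -1 := fun χ =>
    mul_self_eq_one_iff.1 ((hrow χ χ).trans (if_pos rfl))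
  refine ⟨f, ⟨fun χ χ' he => ?_, fun ξ => ?_⟩, fun χ => ⟨hsq χ, fun ξ hne => ?_, ?_⟩⟩
  · by_contra hne
    have h1 := hrow χ χ'
    rw [if_neg (fun e => hne (Subtype.ext e)), mul_eq_zero] at h1
    exact h1.elim (hf χ) (fun h2 => hf χ' (he ▸ h2))
  · have h1 := col_orth h ξ.1 ξ.1 ξ.2 ξ.2
    rw [if_pos rfl] at h1
    obtain ⟨χ, hχ, hne⟩ := Finset.exists_ne_zero_of_sum_ne_zero (h1.trans_ne one_ne_zero)
    exact ⟨⟨χ, (Finset.mem_filter.1 hχ).2⟩,
      (huniq ⟨χ, (Finset.mem_filter.1 hχ).2⟩ ξ (left_ne_zero_of_mul hne)).symm⟩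
  · by_contra hc
    exact hne (huniq χ ξ ((hdvd _ _).1 hc))
  · have hdeg : (charDegree (χ.1 : K → ℂ) : ZMod p) =
        m χ.1 (f χ).1 * charDegree ((f χ).1 : C → ℂ) := by
      rw [charDegree_eq_sum C.subtype χ.1, Nat.cast_sum]
      simp only [Nat.cast_mul]
      rw [sum_irr_reduce (restrictAct act C h.stableC) h.pgroup
        (fun ξ => (mult C.subtype χ.1 ξ : ZMod p) * charDegree (ξ : C → ℂ)) (fun s ξ => ?_),
        Finset.sum_eq_single_of_mem (f χ).1 (Finset.mem_filter.2 ⟨Finset.mem_univ _, (f χ).2⟩)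
          fun ξ hξ hne => ?_]
      · have h0 : m χ.1 ξ = 0 := by_contra fun hc =>
          hne (congrArg Subtype.val (huniq χ ⟨ξ, (Finset.mem_filter.1 hξ).2⟩ hc))
        rw [show (mult C.subtype χ.1 ξ : ZMod p) = 0 from h0, zero_mul]
      · have h1 := mult_twist_pair h χ.1 ξ s
        rw [show twistIrr (act s) χ.1 = χ.1 from Subtype.ext (funext fun g => χ.2 s g)] at h1
        rw [h1, show charDegree (twistIrr (restrictAct act C h.stableC s) ξ : C → ℂ) =
          charDegree (ξ : C → ℂ) by simp [charDegree]]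
    rcases hsq χ with e | e <;> rw [e] at hdeg
    · exact Or.inl (by rw [hdeg, one_mul])
    · exact Or.inr (by rw [hdeg]; ring)

end CfsgLib.CharCorrQ
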