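import Cfsg.Agent.Lib.CharCorr.NormalSylowBase

/-!
# Orthogonality modulo `p` of the restriction to the fixed points modulo a normal Sylow subgroup
-/

set_option autoImplicit false
set_option linter.style.haveILetI false
set_option linter.unusedSectionVars false

noncomputable section

namespace CfsgLib.CharCorrQ

open Cfsg CfsgLib.Characters CfsgLib.CharCorr CfsgLib.NormalAvg
open scoped ComplexConjugate

universe u v

/-- `C/Q` is the fixed-point subgroup on `K/Q`, with `Q` a normal Sylow `p`-subgroup. -/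
structure SylowSetting {K : Type u} [Group K] {S : Type v} [Group S] (p : ℕ)
    (act : S →* MulAut K) (Q C : Subgroup K) : Prop where
  prime : p.Prime
  pgroup : IsPGroup p S
  qgroup : ∃ a, Nat.card Q = p ^ a
  coprime : ¬ p ∣ Q.index
  stable : ∀ s, ∀ q ∈ Q, act s q ∈ Q
  mem_iff : ∀ x, x ∈ C ↔ ∀ s, act s x * x⁻¹ ∈ Q

variable {K : Type u} [Group K] [Fintype K] {S : Type v} [Group S] [Finite S] {p : ℕ}
  {act : S →* MulAut K} {Q C : Subgroup K}

namespace SylowSetting

variable (h : SylowSetting p act Q C)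

include h in
theorem le : Q ≤ C := fun q hq =>
  (h.mem_iff q).mpr fun s => Q.mul_mem (h.stable s q hq) (Q.inv_mem hq)

include h in
theorem stableC : ∀ s, ∀ x ∈ C, act s x ∈ C := fun s x hx => by
  rw [← inv_mul_cancel_right (act s x) x]
  exact C.mul_mem (h.le ((h.mem_iff x).mp hx s)) hx

end SylowSetting

/-- Averaging over `Q` does not change sums over a subgroup containing it. -/
theorem sum_avgN [Q.Normal] [Fintype Q] [Fintype C] (hQC : Q ≤ C) (F : K → ℂ) :
    ∑ c : C, avgN Q F c = ∑ c : C, F c := by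
  simp only [avgN, ← Finset.mul_sum]
  rw [Finset.sum_comm]
  have h1 : ∀ n : Q, ∑ c : C, F ((n : K) * c) = ∑ c : C, F c := fun n =>
    Fintype.sum_equiv (Equiv.mulLeft (⟨(n : K), hQC n.2⟩ : C)) _ _ fun c => rfl
  rw [Finset.sum_congr rfl fun n _ => h1 n, Finset.sum_const, Finset.card_univ, nsmul_eq_mul,
    ← Nat.card_eq_fintype_card, inv_mul_cancel_left₀ (Nat.cast_ne_zero.mpr Nat.card_pos.ne')]

theorem sum_avgN_univ [Q.Normal] [Fintype Q] (F : K → ℂ) : ∑ c : K, avgN Q F c = ∑ c : K, F c := by
  simp only [avgN, ← Finset.mul_sum]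
  rw [Finset.sum_comm]
  have h1 : ∀ n : Q, ∑ c : K, F ((n : K) * c) = ∑ c : K, F c := fun n =>
    Fintype.sum_equiv (Equiv.mulLeft (n : K)) _ _ fun c => rfl
  rw [Finset.sum_congr rfl fun n _ => h1 n, Finset.sum_const, Finset.card_univ, nsmul_eq_mul,
    ← Nat.card_eq_fintype_card, inv_mul_cancel_left₀ (Nat.cast_ne_zero.mpr Nat.card_pos.ne')]

variable [Q.Normal] [Fintype Q] [Fintype C] (h : SylowSetting p act Q C)

/-- The map from `C` onto the fixed points of `K ⧸ Q`. -/
def toFixed : C →* fixedSub (quotAct act Q h.stable) :=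
  ((QuotientGroup.mk' Q).comp C.subtype).codRestrict _ fun c =>
    (mem_fixedSub_mk act Q h.stable).mpr ((h.mem_iff c).mp c.2)

theorem toFixed_surjective : Function.Surjective (toFixed h) := by
  rintro ⟨y, hy⟩
  obtain ⟨a, rfl⟩ := QuotientGroup.mk_surjective y
  exact ⟨⟨a, (h.mem_iff a).mpr ((mem_fixedSub_mk act Q h.stable).mp hy)⟩, rfl⟩

theorem card_ker_toFixed : Nat.card (toFixed h).ker = Nat.card Q := by
  refine Nat.card_congr
    { toFun := fun c => ⟨((c : C) : K), ?_⟩
      invFun := fun q => ⟨⟨q, h.le q.2⟩, ?_⟩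
      left_inv := fun c => rfl
      right_inv := fun q => rfl }
  · have := congrArg Subtype.val (MonoidHom.mem_ker.mp c.2)
    exact (QuotientGroup.eq_one_iff _).mp this
  · exact MonoidHom.mem_ker.mpr (Subtype.ext ((QuotientGroup.eq_one_iff _).mpr q.2))

include h in
/-- Sums of invariant functions on the cosets reduce modulo `p` to the fixed cosets. -/
theorem reduce (G : K → ℂ) (hQ : ∀ (n : Q) x, G ((n : K) * x) = G x)
    (hinv : ∀ s x, G (act s x) = G x) (hint : ∀ x, IsIntegral ℤ (G x)) {a b : ℕ}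
    (ha : ∑ x : K, G x = (Nat.card Q : ℂ) * a) (hb : ∑ c : C, G c = (Nat.card Q : ℂ) * b) :
    (a : ZMod p) = b := by
  classical
  haveI : Fact p.Prime := ⟨h.prime⟩
  letI := Fintype.ofFinite (K ⧸ Q)
  let Fx := fixedSub (quotAct act Q h.stable)
  letI := Fintype.ofFinite Fx
  let g : K ⧸ Q → AlgInt := fun y => ⟨G y.out, hint _⟩
  have hg : ∀ x : K, (g (x : K ⧸ Q) : ℂ) = G x := by
    intro x
    obtain ⟨n, hn⟩ := QuotientGroup.mk_out_eq_mul Q x
    change G (x : K ⧸ Q).out = G x
    rw [hn, show x * n = (x * n * x⁻¹) * x by group]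
    exact hQ ⟨_, Subgroup.Normal.conj_mem inferInstance _ n.2 x⟩ x
  have hQ0 : (Nat.card Q : ℂ) ≠ 0 := Nat.cast_ne_zero.mpr Nat.card_pos.ne'
  have hA : ∑ y, g y = (a : AlgInt) := by
    apply Subtype.ext
    have h1 : ∑ x : K, G x = (Nat.card Q : ℂ) * ∑ y : K ⧸ Q, (g y : ℂ) := by
      rw [← Finset.sum_congr rfl fun x _ => hg x]
      have := sum_comp_surjective (QuotientGroup.mk' Q) (QuotientGroup.mk'_surjective Q)
        (fun y => (g y : ℂ))
      rwa [QuotientGroup.ker_mk'] at this
    simp only [AddSubmonoidClass.coe_finsetSum]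
    push_cast
    exact mul_left_cancel₀ hQ0 (h1.symm.trans ha)
  have hB : ∑ y : Fx, g y = (b : AlgInt) := by
    apply Subtype.ext
    have h1 : ∑ c : C, G c = (Nat.card Q : ℂ) * ∑ y : Fx, (g y : ℂ) := by
      rw [← Finset.sum_congr rfl fun (c : C) _ => hg (c : K), ← card_ker_toFixed h]
      exact sum_comp_surjective (toFixed h) (toFixed_surjective h) (fun y : Fx => (g y : ℂ))
    simp only [AddSubmonoidClass.coe_finsetSum]
    push_cast
    exact mul_left_cancel₀ hQ0 (h1.symm.trans hb)
  have key := sum_reduce h.prime h.pgroup (isFixedHom_fixedSub (quotAct act Q h.stable))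
    (fun y => modP p (g y)) (fun s y => by
      induction y using QuotientGroup.induction_on with
      | _ x =>
        refine congrArg (modP p) (Subtype.ext ?_)
        rw [quotAct_mk, hg, hg, hinv])
  simp only [← map_sum, Subgroup.subtype_apply, hA, map_natCast] at key
  rw [hB, map_natCast] at key
  exact (natCast_modP_eq_iff h.prime a b).mp key

include h in
theorem index_cast : (Q.index : ZMod p) = (Q.relIndex C : ℕ) := by
  refine reduce h (fun _ => 1) (fun _ _ => rfl) (fun _ _ => rfl) (fun _ => isIntegral_one) ?_ ?_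
  · rw [Finset.sum_const, Finset.card_univ, ← Nat.card_eq_fintype_card, nsmul_eq_mul, mul_one,
      ← Nat.cast_mul, Subgroup.card_mul_index]
  · rw [Finset.sum_const, Finset.card_univ, ← Nat.card_eq_fintype_card, nsmul_eq_mul, mul_one,
      ← Nat.cast_mul, Subgroup.relIndex, ← Nat.card_congr (Subgroup.subgroupOfEquivOfLe h.le).toEquiv,
      Subgroup.card_mul_index]

include h in
theorem index_ne_zero : (Q.index : ZMod p) ≠ 0 := by
  haveI : Fact p.Prime := ⟨h.prime⟩
  rw [Ne, ZMod.natCast_eq_zero_iff]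
  exact h.coprime

include h in
theorem act_apply_eq (ξ : IrrCharacter C) (hξ : Inv (restrictAct act C h.stableC) ξ) (s : S) (x : K) :
    extendByZero C (ξ : C → ℂ) (act s x) = extendByZero C (ξ : C → ℂ) x := by
  by_cases hx : x ∈ C
  · rw [CfsgLib.Induction.extendByZero_mem _ _ hx,
      CfsgLib.Induction.extendByZero_mem _ _ (h.stableC s x hx), ← hξ s ⟨x, hx⟩]
    rfl
  · rw [CfsgLib.Induction.extendByZero_notMem _ _ hx,
      CfsgLib.Induction.extendByZero_notMem _ _ fun hm => hx (by
        simpa using h.stableC s⁻¹ _ hm)]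

include h in
theorem mult_twist_pair (χ : IrrCharacter K) (ξ : IrrCharacter C) (s : S) :
    mult C.subtype (twistIrr (act s) χ) (twistIrr (restrictAct act C h.stableC s) ξ) =
      mult C.subtype χ ξ :=
  mult_twist C.subtype (act s) (restrictAct act C h.stableC s) (fun _ => rfl) χ ξ

include h in
/-- Rows of the multiplicity matrix are orthonormal modulo `p`. -/
theorem row_orth [DecidableEq (IrrCharacter K)] [DecidablePred (Inv (restrictAct act C h.stableC))]
    (χ χ' : IrrCharacter K) (hχ : Inv act χ) (hχ' : Inv act χ') :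
    ∑ ξ ∈ Finset.univ.filter (Inv (restrictAct act C h.stableC)),
      (mult C.subtype χ ξ : ZMod p) * mult C.subtype χ' ξ = if χ = χ' then 1 else 0 := by
  classical
  haveI : Fact p.Prime := ⟨h.prime⟩
  have hch := isCharacter_pairAvg Q (irr_isCharacter χ) (irr_isCharacter χ')
  have key := reduce h (pairAvg Q (χ : K → ℂ) χ') (fun n x => avgN_mul_left Q _ n x) (fun s x => by
      simp only [pairAvg_apply]
      congr 1
      refine (Fintype.sum_equiv (restrictAct act Q h.stable s).toEquiv _ _ fun n => ?_).symm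
      simp only [MulEquiv.toEquiv_eq_coe, EquivLike.coe_coe, restrictAct_coe, ← map_mul, hχ s,
        hχ' s])
    (fun x => by
      obtain ⟨d, ρ, hρ⟩ := hch
      rw [← hρ]
      exact CfsgLib.CharScalar.isIntegral_character ρ x)
    (a := Q.index * if χ = χ' then 1 else 0)
    (b := Q.relIndex C * ∑ ξ : IrrCharacter C, mult C.subtype χ ξ * mult C.subtype χ' ξ) ?_ ?_
  · rw [Nat.cast_mul, Nat.cast_mul, ← index_cast h, mul_right_inj' (index_ne_zero h)] at key
    push_cast at key
    rw [sum_irr_reduce (restrictAct act C h.stableC) h.pgroup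
      (fun ξ => (mult C.subtype χ ξ : ZMod p) * mult C.subtype χ' ξ) (fun s ξ => ?_)] at key
    · rw [← key]
    · have e : ∀ ω : IrrCharacter K, Inv act ω →
          mult C.subtype ω (twistIrr (restrictAct act C h.stableC s) ξ) = mult C.subtype ω ξ := by
        intro ω hω
        have := mult_twist_pair h ω ξ s
        rwa [show twistIrr (act s) ω = ω from Subtype.ext (funext fun g => hω s g)] at this
      rw [e χ hχ, e χ' hχ']
  · unfold pairAvg
    rw [sum_avgN_univ]
    have h1 := classInner_irr χ χ'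
    have hK : (Nat.card K : ℂ) ≠ 0 := Nat.cast_ne_zero.mpr Nat.card_pos.ne'
    rw [classInner, inv_mul_eq_iff_eq_mul₀ hK] at h1
    rw [h1, ← Subgroup.card_mul_index Q]
    push_cast
    ring
  · unfold pairAvg
    rw [sum_avgN h.le]
    have h1 : classInner ((χ : K → ℂ) ∘ C.subtype) ((χ' : K → ℂ) ∘ C.subtype) =
        ((∑ ξ : IrrCharacter C, mult C.subtype χ ξ * mult C.subtype χ' ξ : ℕ) : ℂ) := by
      rw [irr_res_eq_sum χ' C.subtype, classInner_sum_right]
      push_cast
      refine Finset.sum_congr rfl fun ξ _ => ?_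
      rw [classInner_smul_right, mult_spec, mult_spec, Complex.conj_natCast, mul_comm]
    have hC : (Nat.card C : ℂ) ≠ 0 := Nat.cast_ne_zero.mpr Nat.card_pos.ne'
    rw [classInner, inv_mul_eq_iff_eq_mul₀ hC] at h1
    simp only [Function.comp_apply, Subgroup.subtype_apply] at h1
    rw [h1, Nat.cast_mul (Q.relIndex C), ← mul_assoc (Nat.card Q : ℂ), ← Nat.cast_mul (Nat.card Q),
      Subgroup.relIndex, ← Nat.card_congr (Subgroup.subgroupOfEquivOfLe h.le).toEquiv,
      Subgroup.card_mul_index]

include h in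
/-- Columns of the multiplicity matrix are orthonormal modulo `p`. -/
theorem col_orth [DecidableEq (IrrCharacter C)] [DecidablePred (Inv act)] (ξ ξ' : IrrCharacter C)
    (hξ : Inv (restrictAct act C h.stableC) ξ) (hξ' : Inv (restrictAct act C h.stableC) ξ') :
    ∑ χ ∈ Finset.univ.filter (Inv act),
      (mult C.subtype χ ξ : ZMod p) * mult C.subtype χ ξ' = if ξ = ξ' then 1 else 0 := by
  classical
  haveI : Fact p.Prime := ⟨h.prime⟩
  let e : K → ℂ := extendByZero C (ξ : C → ℂ)
  let e' : K → ℂ := extendByZero C (ξ' : C → ℂ)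
  let H : K → K → ℂ := fun x c => avgN Q (fun y => e (x⁻¹ * y * x) * conj (e' y)) c
  have hnum : (Nat.card C : ℂ) = Nat.card Q * (Q.relIndex C : ℕ) := by
    rw [← Nat.cast_mul, Subgroup.relIndex,
      ← Nat.card_congr (Subgroup.subgroupOfEquivOfLe h.le).toEquiv, Subgroup.card_mul_index]
  have hHint : ∀ x c, IsIntegral ℤ (H x c) := by
    intro x c
    by_cases hc : c ∈ C ∧ x⁻¹ * c * x ∈ C
    · let D : Subgroup K := C ⊓ C.comap (MulAut.conj x⁻¹).toMonoidHom
      have hD : ∀ y, y ∈ D ↔ y ∈ C ∧ x⁻¹ * y * x ∈ C := fun y => by simp [D, mul_assoc]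
      have hQD : Q ≤ D := fun q hq => (hD q).mpr ⟨h.le hq, h.le (by
        simpa using Subgroup.Normal.conj_mem (inferInstance : Q.Normal) q hq x⁻¹)⟩
      letI := Fintype.ofFinite D
      letI := Fintype.ofFinite (Q.subgroupOf D)
      let f₁ : D →* C := ((MulAut.conj x⁻¹).toMonoidHom.comp D.subtype).codRestrict C
        fun y => by simpa [mul_assoc] using ((hD y).mp y.2).2
      let f₂ : D →* C := Subgroup.inclusion inf_le_left
      have hch := isCharacter_pairAvg (Q.subgroupOf D)
        (isCharacter_comp (irr_isCharacter ξ) f₁) (isCharacter_comp (irr_isCharacter ξ') f₂)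
      have hval : H x c = pairAvg (Q.subgroupOf D) ((ξ : C → ℂ) ∘ f₁) ((ξ' : C → ℂ) ∘ f₂)
          ⟨c, (hD c).mpr hc⟩ := by
        rw [pairAvg_apply]
        change (Nat.card Q : ℂ)⁻¹ * _ = _
        rw [Nat.card_congr (Subgroup.subgroupOfEquivOfLe hQD).toEquiv]
        congr 1
        refine Fintype.sum_equiv (Subgroup.subgroupOfEquivOfLe hQD).symm.toEquiv _ _ fun n => ?_
        have hm : ((n : K) * c) ∈ D := D.mul_mem (hQD n.2) ((hD c).mpr hc)
        simp only [e, e', CfsgLib.Induction.extendByZero_mem C _ ((hD _).mp hm).1,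
          CfsgLib.Induction.extendByZero_mem C _ ((hD _).mp hm).2]
        congr 2
        exact congrArg _ (Subtype.ext (by simp [f₁, mul_assoc]))
      rw [hval]
      obtain ⟨d, ρ, hρ⟩ := hch
      rw [← hρ]
      exact CfsgLib.CharScalar.isIntegral_character ρ _
    · have : H x c = 0 := by
        simp only [H, avgN]
        rw [Finset.sum_eq_zero fun n _ => ?_, mul_zero]
        by_cases h1 : (n : K) * c ∈ C
        · have hcC : c ∈ C := (C.mul_mem_cancel_left (h.le n.2)).mp h1
          have h2 : ¬ x⁻¹ * ((n : K) * c) * x ∈ C := fun hm => hc ⟨hcC, by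
            have hn : x⁻¹ * (n : K) * x ∈ C := h.le (by
              simpa using Subgroup.Normal.conj_mem (inferInstance : Q.Normal) _ n.2 x⁻¹)
            have := C.mul_mem (C.inv_mem hn) hm
            convert this using 1
            group⟩
          simp only [e, CfsgLib.Induction.extendByZero_notMem C _ h2, zero_mul]
        · simp only [e', CfsgLib.Induction.extendByZero_notMem C _ h1, map_zero, mul_zero]
      rw [this]
      exact isIntegral_zero
  have hHcos : ∀ x (n : Q) c, H x ((n : K) * c) = H x c := fun x n c => avgN_mul_left Q _ n c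
  letI := Fintype.ofFinite (K ⧸ Q)
  let Fx := fixedSub (quotAct act Q h.stable)
  letI := Fintype.ofFinite Fx
  let W : K → ℂ := fun x => ∑ y : Fx, H x (y : K ⧸ Q).out
  have hW : ∀ x, (Nat.card Q : ℂ) * W x = ∑ c : C, e (x⁻¹ * c * x) * conj (e' c) := by
    intro x
    rw [← sum_avgN h.le (fun y => e (x⁻¹ * y * x) * conj (e' y))]
    have := sum_comp_surjective (toFixed h) (toFixed_surjective h) (fun y : Fx => H x (y : K ⧸ Q).out)
    rw [card_ker_toFixed h] at this
    rw [← this]
    refine Finset.sum_congr rfl fun c _ => ?_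
    obtain ⟨n, hn⟩ := QuotientGroup.mk_out_eq_mul Q (c : K)
    change H x ((c : K) : K ⧸ Q).out = H x c
    rw [hn, show (c : K) * n = ((c : K) * n * (c : K)⁻¹) * c by group]
    exact hHcos x ⟨_, Subgroup.Normal.conj_mem inferInstance _ n.2 _⟩ c
  have hQ0 : (Nat.card Q : ℂ) ≠ 0 := Nat.cast_ne_zero.mpr Nat.card_pos.ne'
  obtain ⟨M, hM⟩ : ∃ M : ℕ, ∑ χ : IrrCharacter K, mult C.subtype χ ξ * mult C.subtype χ ξ' = M :=
    ⟨_, rfl⟩
  have key := reduce h W (fun n x => ?_) (fun s x => ?_)
    (fun x => IsIntegral.sum _ fun y _ => hHint x _)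
    (a := Q.relIndex C * Q.relIndex C * M)
    (b := Q.relIndex C * Q.relIndex C * if ξ = ξ' then 1 else 0) ?_ ?_
  · rw [Nat.cast_mul, Nat.cast_mul (Q.relIndex C * Q.relIndex C), Nat.cast_mul, mul_right_inj' (mul_ne_zero
      (index_cast h ▸ index_ne_zero h) (index_cast h ▸ index_ne_zero h))] at key
    rw [← hM] at key
    push_cast at key
    rw [sum_irr_reduce act h.pgroup
      (fun χ => (mult C.subtype χ ξ : ZMod p) * mult C.subtype χ ξ') (fun s χ => ?_)] at key
    · rw [key]
    · have e0 : ∀ ω : IrrCharacter C, Inv (restrictAct act C h.stableC) ω →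
          mult C.subtype (twistIrr (act s) χ) ω = mult C.subtype χ ω := by
        intro ω hω
        have := mult_twist_pair h χ ω s
        rwa [show twistIrr (restrictAct act C h.stableC s) ω = ω from
          Subtype.ext (funext fun g => hω s g)] at this
      rw [e0 ξ hξ, e0 ξ' hξ']
  · -- left `Q`-invariance
    refine mul_left_cancel₀ hQ0 ?_
    rw [hW, hW]
    refine Finset.sum_congr rfl fun c _ => ?_
    have hz : x⁻¹ * (n : K) * x ∈ C := h.le (by
      simpa using Subgroup.Normal.conj_mem (inferInstance : Q.Normal) _ n.2 x⁻¹)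
    have := CfsgLib.Induction.extendByZero_conj C (irr_isClassFunction ξ) ⟨_, C.inv_mem hz⟩
      (x⁻¹ * (c : K) * x)
    congr 1
    simp only [e]
    convert this using 2
    group
  · -- invariance under the operators
    refine mul_left_cancel₀ hQ0 ?_
    rw [hW, hW]
    refine (Fintype.sum_equiv (restrictAct act C h.stableC s).toEquiv _ _ fun c => ?_).symm
    simp only [MulEquiv.toEquiv_eq_coe, EquivLike.coe_coe, restrictAct_coe, e, e', ← map_inv,
      ← map_mul, act_apply_eq h ξ hξ, act_apply_eq h ξ' hξ']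
  · -- total over the group
    refine mul_left_cancel₀ hQ0 ?_
    rw [Finset.mul_sum, Finset.sum_congr rfl fun x _ => hW x, Finset.sum_comm]
    have hC : (Nat.card C : ℂ) ≠ 0 := Nat.cast_ne_zero.mpr Nat.card_pos.ne'
    have h1 : ∀ c : C, ∑ x : K, e (x⁻¹ * c * x) * conj (e' c) =
        (Nat.card C : ℂ) * (indFun C (ξ : C → ℂ) c * conj ((ξ' : C → ℂ) c)) := fun c => by
      rw [← Finset.sum_mul, CfsgLib.Induction.indFun_apply,
        show e' c = (ξ' : C → ℂ) c from CfsgLib.Induction.extendByZero_mem C _ c.2,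
        mul_assoc, mul_inv_cancel_left₀ hC]
    have h2 : classInner (fun c : C => indFun C (ξ : C → ℂ) c) (ξ' : C → ℂ) = (M : ℂ) := by
      have h3 : indFun C (ξ : C → ℂ) = ∑ χ : IrrCharacter K,
          (mult C.subtype χ ξ : ℂ) • (χ : K → ℂ) := by
        rw [classFunction_eq_sum (CfsgLib.Induction.isClassFunction_indFun C (ξ : C → ℂ))]
        refine Finset.sum_congr rfl fun χ _ => ?_
        rw [CfsgLib.Induction.classInner_indFun C _ (irr_isClassFunction χ), classInner_conj_symm,
          show classInner (fun c : C => (χ : K → ℂ) c) (ξ : C → ℂ) = (mult C.subtype χ ξ : ℂ) from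
            mult_spec C.subtype χ ξ, Complex.conj_natCast]
      have h4 : (fun c : C => indFun C (ξ : C → ℂ) c) = ∑ χ : IrrCharacter K,
          (mult C.subtype χ ξ : ℂ) • ((χ : K → ℂ) ∘ C.subtype) := by
        funext c
        rw [h3]
        simp
      rw [h4, classInner_sum_left, ← hM]
      push_cast
      exact Finset.sum_congr rfl fun χ _ => by rw [classInner_smul_left, mult_spec]
    rw [classInner, inv_mul_eq_iff_eq_mul₀ hC] at h2
    rw [Finset.sum_congr rfl fun c _ => h1 c, ← Finset.mul_sum, h2, hnum]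
    push_cast
    ring
  · -- total over the fixed points
    refine mul_left_cancel₀ hQ0 ?_
    rw [Finset.mul_sum, Finset.sum_congr rfl fun (x : C) _ => hW (x : K)]
    have hC : (Nat.card C : ℂ) ≠ 0 := Nat.cast_ne_zero.mpr Nat.card_pos.ne'
    have h1 : ∀ x c : C, e ((x : K)⁻¹ * c * x) * conj (e' c) =
        (ξ : C → ℂ) c * conj ((ξ' : C → ℂ) c) := fun x c => by
      rw [show e' c = (ξ' : C → ℂ) c from CfsgLib.Induction.extendByZero_mem C _ c.2,
        show e ((x : K)⁻¹ * c * x) = (ξ : C → ℂ) (x⁻¹ * c * x) from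
          CfsgLib.Induction.extendByZero_mem C _ (x⁻¹ * c * x).2]
      congr 1
      have := irr_isClassFunction ξ c x⁻¹
      rwa [inv_inv] at this
    rw [Finset.sum_congr rfl fun x _ => Finset.sum_congr rfl fun c _ => h1 x c, Finset.sum_const,
      Finset.card_univ, ← Nat.card_eq_fintype_card, nsmul_eq_mul]
    have h2 := classInner_irr ξ ξ'
    rw [classInner, inv_mul_eq_iff_eq_mul₀ hC] at h2
    rw [h2, hnum]
    push_cast
    ring

end CfsgLib.CharCorrQ
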