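import Cfsg.Agent.Lib.CharCorr.Basic
import Cfsg.Agent.Lib.Blocks.BrauerMap
import Mathlib.Data.ZMod.Basic
import Mathlib.RingTheory.IntegralClosure.IntegrallyClosed

/-!
# The correspondence of characters under a `p`-group of operators of a `p'`-group

`S` acts on `G` through `act`, and `j : C →* G` parametrises the fixed points.  Everything is
computed in the algebraic integers modulo `p`.
-/

set_option autoImplicit false
set_option linter.style.haveILetI false
set_option linter.unusedSectionVars false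
set_option linter.unusedSimpArgs false

namespace CfsgLib.CharCorr

open Cfsg
open CfsgLib.Characters
open scoped ComplexConjugate

/-- The algebraic integers modulo the principal ideal of `p`. -/
abbrev ModP (p : ℕ) : Type := AlgInt ⧸ Ideal.span {(p : AlgInt)}

/-- The reduction map. -/
noncomputable abbrev modP (p : ℕ) : AlgInt →+* ModP p :=
  Ideal.Quotient.mk (Ideal.span {(p : AlgInt)})

theorem p_nsmul_eq_zero (p : ℕ) (a : ModP p) : p • a = 0 := by
  rw [nsmul_eq_mul]
  have : ((p : ℕ) : ModP p) = 0 := by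
    rw [← map_natCast (modP p), Ideal.Quotient.eq_zero_iff_mem]
    exact Ideal.mem_span_singleton_self _
  rw [this, zero_mul]

theorem natCast_modP_eq_zero_iff {p : ℕ} (hp : p.Prime) (n : ℕ) :
    (n : ModP p) = 0 ↔ p ∣ n := by
  rw [← map_natCast (modP p), Ideal.Quotient.eq_zero_iff_mem, Ideal.mem_span_singleton]
  constructor
  · rintro ⟨w, hw⟩
    refine CfsgLib.CharScalar.dvd_of_isIntegral_div hp.ne_zero ?_
    have hc : (n : ℂ) = (p : ℂ) * (w : ℂ) := by
      simpa using congrArg (fun z : AlgInt => (z : ℂ)) hw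
    rw [hc, mul_div_cancel_left₀ _ (by exact_mod_cast hp.ne_zero)]
    exact w.2
  · rintro ⟨w, rfl⟩
    exact ⟨(w : AlgInt), by push_cast; ring⟩

theorem natCast_modP_eq_iff {p : ℕ} (hp : p.Prime) (a b : ℕ) :
    (a : ModP p) = (b : ModP p) ↔ (a : ZMod p) = (b : ZMod p) := by
  haveI : Fact p.Prime := ⟨hp⟩
  wlog h : a ≤ b generalizing a b
  · exact Iff.trans eq_comm ((this b a (le_of_not_ge h)).trans eq_comm)
  obtain ⟨k, rfl⟩ := Nat.exists_eq_add_of_le h
  push_cast
  rw [left_eq_add, left_eq_add, natCast_modP_eq_zero_iff hp, ZMod.natCast_eq_zero_iff]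

theorem isUnit_natCast_modP {p : ℕ} (hp : p.Prime) {n : ℕ} (hn : ¬ p ∣ n) :
    IsUnit (n : ModP p) := by
  haveI : Fact p.Prime := ⟨hp⟩
  have h0 : (n : ZMod p) ≠ 0 := by rwa [Ne, ZMod.natCast_eq_zero_iff]
  refine IsUnit.of_mul_eq_one ((((n : ZMod p)⁻¹).val : ℕ) : ModP p) ?_
  have : ((n * ((n : ZMod p)⁻¹).val : ℕ) : ModP p) = ((1 : ℕ) : ModP p) := by
    rw [natCast_modP_eq_iff hp]
    push_cast
    rw [ZMod.natCast_zmod_val, mul_inv_cancel₀ h0]
  simpa using this

section Values

variable {A : Type*} [Group A] [Finite A]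

/-- A character value as an algebraic integer. -/
noncomputable def iv (χ : IrrCharacter A) (a : A) : AlgInt := ⟨(χ : A → ℂ) a, irr_isIntegral χ a⟩

@[simp] theorem coe_iv (χ : IrrCharacter A) (a : A) : ((iv χ a : AlgInt) : ℂ) = (χ : A → ℂ) a := rfl

theorem iv_inv_conj (χ : IrrCharacter A) (a : A) :
    ((iv χ a⁻¹ : AlgInt) : ℂ) = conj ((χ : A → ℂ) a) := by simp [irr_apply_inv]

theorem sum_iv_mul_iv_inv [Fintype A] [DecidableEq (IrrCharacter A)] (χ ψ : IrrCharacter A) :
    ∑ a : A, iv χ a * iv ψ a⁻¹ = if χ = ψ then (Nat.card A : AlgInt) else 0 := by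
  apply Subtype.ext
  have h := classInner_irr χ ψ
  have hA : (Nat.card A : ℂ) ≠ 0 := by simp
  rw [classInner, inv_mul_eq_iff_eq_mul₀ hA] at h
  simp only [AddSubmonoidClass.coe_finsetSum, MulMemClass.coe_mul, coe_iv, irr_apply_inv, h]
  split_ifs <;> simp [Nat.card_eq_fintype_card]

/-- Reduced irreducible characters of a `p'`-group are independent. -/
theorem coeff_eq_zero [Fintype A] {p : ℕ} (hp : p.Prime) (hpA : ¬ p ∣ Nat.card A)
    (a : IrrCharacter A → ModP p) (h : ∀ c : A, ∑ η, a η * modP p (iv η c) = 0)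
    (η : IrrCharacter A) : a η = 0 := by
  classical
  have h1 : ∑ c : A, (∑ ξ, a ξ * modP p (iv ξ c)) * modP p (iv η c⁻¹) = 0 := by simp [h]
  simp only [Finset.sum_mul, mul_assoc, ← map_mul] at h1
  rw [Finset.sum_comm] at h1
  simp only [← Finset.mul_sum, ← map_sum, sum_iv_mul_iv_inv, apply_ite (modP p), map_zero,
    mul_ite, mul_zero, Finset.sum_ite_eq', Finset.mem_univ, if_true, map_natCast] at h1
  exact (isUnit_natCast_modP hp hpA).mul_left_eq_zero.1 h1

end Values

/-- Multiplicity of an irreducible character in a restriction. -/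
noncomputable def mult {G C : Type*} [Group G] [Group C] [Fintype C] (j : C →* G)
    (χ : IrrCharacter G) (γ : IrrCharacter C) : ℕ :=
  (classInner_char_nat (isCharacter_comp (irr_isCharacter χ) j) (irr_isCharacter γ)).choose

theorem mult_spec {G C : Type*} [Group G] [Group C] [Fintype C] (j : C →* G)
    (χ : IrrCharacter G) (γ : IrrCharacter C) :
    classInner ((χ : G → ℂ) ∘ j) (γ : C → ℂ) = (mult j χ γ : ℂ) :=
  (classInner_char_nat (isCharacter_comp (irr_isCharacter χ) j) (irr_isCharacter γ)).choose_spec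

theorem mult_eq_of_classInner_eq {G C : Type*} [Group G] [Group C] [Fintype C] (j : C →* G)
    (χ : IrrCharacter G) (γ : IrrCharacter C) {n : ℕ}
    (h : classInner ((χ : G → ℂ) ∘ j) (γ : C → ℂ) = (n : ℂ)) : mult j χ γ = n := by
  rw [mult_spec] at h; exact_mod_cast h

variable {G C S : Type*} [Group G] [Group C] [Group S]

/-- `χ` is invariant under the operators. -/
def Inv (act : S →* MulAut G) (χ : IrrCharacter G) : Prop :=
  ∀ (s : S) (g : G), (χ : G → ℂ) (act s g) = (χ : G → ℂ) g

/-- `j` parametrises the fixed points of the operators. -/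
structure IsFixedHom (act : S →* MulAut G) (j : C →* G) : Prop where
  injective : Function.Injective j
  fixed : ∀ s c, act s (j c) = j c
  exists_of_fixed : ∀ x, (∀ s, act s x = x) → ∃ c, j c = x

variable [Fintype G] [Fintype C] [Finite S] {p : ℕ} {act : S →* MulAut G} {j : C →* G}

section Reduce

variable (hp : p.Prime) (hS : IsPGroup p S) (hf : IsFixedHom act j)

include hp hS hf

/-- Invariant sums over `G` reduce to sums over the fixed points. -/
theorem sum_reduce (f : G → ModP p) (hinv : ∀ s x, f (act s x) = f x) :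
    ∑ x : G, f x = ∑ c : C, f (j c) := by
  classical
  haveI : Fact p.Prime := ⟨hp⟩
  letI : MulAction S G := MulAction.compHom G act
  rw [CfsgLib.BlockAlg.sum_eq_sum_fixed (p_nsmul_eq_zero p) hS f hinv]
  symm
  refine Finset.sum_bij (fun c _ => j c) (fun c _ => Finset.mem_filter.2 ⟨Finset.mem_univ _,
    fun s => hf.fixed s c⟩) (fun a _ b _ h => hf.injective h) (fun x hx => ?_) (fun _ _ => rfl)
  obtain ⟨c, hc⟩ := hf.exists_of_fixed x fun s => (Finset.mem_filter.1 hx).2 s
  exact ⟨c, Finset.mem_univ _, hc⟩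

theorem card_cast_eq : (Nat.card G : ZMod p) = (Nat.card C : ZMod p) := by
  rw [← natCast_modP_eq_iff hp]
  have h := sum_reduce hp hS hf (fun _ => (1 : ModP p)) (fun _ _ => rfl)
  simpa [Nat.card_eq_fintype_card] using h

theorem not_dvd_card_fixed (hpG : ¬ p ∣ Nat.card G) : ¬ p ∣ Nat.card C := by
  haveI : Fact p.Prime := ⟨hp⟩
  rwa [← ZMod.natCast_eq_zero_iff, ← card_cast_eq hp hS hf, ZMod.natCast_eq_zero_iff]

/-- Fusion of fixed points is controlled by the fixed points. -/
theorem isConj_of_isConj_map (hpG : ¬ p ∣ Nat.card G) {c c' : C} (h : IsConj (j c) (j c')) :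
    IsConj c c' := by
  classical
  haveI : Fact p.Prime := ⟨hp⟩
  let T := {g : G // g * j c * g⁻¹ = j c'}
  letI : MulAction S T :=
    { smul := fun s g => ⟨act s g.1, by
        have := congrArg (act s) g.2
        simpa [map_mul, map_inv, hf.fixed] using this⟩
      one_smul := fun g => Subtype.ext (by change act 1 g.1 = g.1; simp)
      mul_smul := fun s t g => Subtype.ext (by
        change act (s * t) g.1 = act s (act t g.1); simp) }
  obtain ⟨a, ha⟩ := isConj_iff.1 h
  have hcard : Nat.card T = Nat.card (Subgroup.centralizer ({j c} : Set G)) := by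
    refine Nat.card_congr ⟨fun g => ⟨a⁻¹ * g.1, ?_⟩, fun z => ⟨a * z.1, ?_⟩,
      fun g => by simp, fun z => by simp⟩
    · rw [Subgroup.mem_centralizer_singleton_iff]
      have h2 : g.1 * j c * g.1⁻¹ = a * j c * a⁻¹ := g.2.trans ha.symm
      rw [mul_inv_eq_iff_eq_mul] at h2
      rw [mul_assoc, h2]; group
    · have hz := Subgroup.mem_centralizer_singleton_iff.1 z.2
      rw [← ha, mul_inv_rev, mul_assoc a z.1, hz]
      group
  have hT : ¬ p ∣ Nat.card T := fun hd =>
    hpG ((hcard ▸ hd).trans (Subgroup.card_subgroup_dvd_card _))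
  obtain ⟨g, hg⟩ := hS.nonempty_fixed_point_of_prime_not_dvd_card T hT
  obtain ⟨d, hd⟩ := hf.exists_of_fixed g.1 fun s => congrArg Subtype.val (hg s)
  refine isConj_iff.2 ⟨d, hf.injective ?_⟩
  rw [map_mul, map_mul, map_inv, hd, g.2]

/-- An invariant class contains a fixed point. -/
theorem exists_fixed_of_class (hpG : ¬ p ∣ Nat.card G) (x : G) (hx : ∀ s, IsConj x (act s x)) :
    ∃ c : C, IsConj x (j c) := by
  classical
  haveI : Fact p.Prime := ⟨hp⟩
  let T := {g : G // IsConj x g}
  letI : MulAction S T :=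
    { smul := fun s g => ⟨act s g.1, (hx s).trans ((act s).toMonoidHom.map_isConj g.2)⟩
      one_smul := fun g => Subtype.ext (by change act 1 g.1 = g.1; simp)
      mul_smul := fun s t g => Subtype.ext (by
        change act (s * t) g.1 = act s (act t g.1); simp) }
  have hT : ¬ p ∣ Nat.card T := fun hd => hpG (hd.trans (by
    rw [← card_isConj_mul_card_centralizer x]; exact dvd_mul_right _ _))
  obtain ⟨g, hg⟩ := hS.nonempty_fixed_point_of_prime_not_dvd_card T hT
  obtain ⟨d, hd⟩ := hf.exists_of_fixed g.1 fun s => congrArg Subtype.val (hg s)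
  exact ⟨d, hd ▸ g.2⟩

end Reduce

theorem iv_res_eq_sum (χ : IrrCharacter G) (c : C) :
    modP p (iv χ (j c)) = ∑ η, (mult j χ η : ModP p) * modP p (iv η c) := by
  have h : iv χ (j c) = ∑ η : IrrCharacter C, (mult j χ η : AlgInt) * iv η c := by
    apply Subtype.ext
    have := congrFun (irr_res_eq_sum χ j) c
    simp only [mult_spec, Function.comp_apply, Finset.sum_apply, Pi.smul_apply, smul_eq_mul] at this
    simp [AddSubmonoidClass.coe_finsetSum, this]
  rw [h, map_sum]
  simp

theorem card_div_cast {A : Type*} [Group A] [Finite A] (χ : IrrCharacter A) :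
    ((Nat.card A / charDegree (χ : A → ℂ) : ℕ) : ℂ) = (Nat.card A : ℂ) / (χ : A → ℂ) 1 := by
  rw [irr_one_eq_charDegree, Nat.cast_div (charDegree_irr_dvd_card χ)]
  exact_mod_cast (charDegree_irr_pos χ).ne'

theorem sum_iv_conv {A : Type*} [Group A] [Fintype A] [DecidableEq (IrrCharacter A)]
    (χ ψ : IrrCharacter A) (c : A) :
    ∑ y : A, iv χ (y * c) * iv ψ y⁻¹ =
      if χ = ψ then ((Nat.card A / charDegree (χ : A → ℂ) : ℕ) : AlgInt) * iv χ c else 0 := by
  apply Subtype.ext
  have h := sum_irr_mul_conj χ ψ c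
  simp only [AddSubmonoidClass.coe_finsetSum, MulMemClass.coe_mul, coe_iv, irr_apply_inv, h]
  split_ifs
  · rw [MulMemClass.coe_mul, coe_iv, ← card_div_cast χ]
    congr 1
  · simp

section Main

variable (hp : p.Prime) (hS : IsPGroup p S) (hf : IsFixedHom act j) (hpG : ¬ p ∣ Nat.card G)

include hp hS hf hpG

theorem key_relation [DecidableEq (IrrCharacter G)] {χ ψ : IrrCharacter G} (hχ : Inv act χ)
    (hψ : Inv act ψ) (γ : IrrCharacter C) :
    (mult j χ γ : ZMod p) * (mult j ψ γ : ZMod p) * (Nat.card C / charDegree (γ : C → ℂ) : ℕ) =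
      if χ = ψ then ((Nat.card G / charDegree (χ : G → ℂ) : ℕ) : ZMod p) * mult j χ γ else 0 := by
  classical
  have hpC := not_dvd_card_fixed hp hS hf hpG
  set k : IrrCharacter C → ℕ := fun η => Nat.card C / charDegree (η : C → ℂ)
  set K : ℕ := if χ = ψ then Nat.card G / charDegree (χ : G → ℂ) else 0
  suffices h : ((mult j χ γ * mult j ψ γ * k γ : ℕ) : ModP p) =
      ((K * mult j χ γ : ℕ) : ModP p) by
    rw [natCast_modP_eq_iff hp] at h
    simp only [K, k] at h
    split_ifs at h ⊢ <;> simpa using h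
  refine sub_eq_zero.1 (coeff_eq_zero hp hpC (fun η => ((mult j χ η * mult j ψ η * k η : ℕ) :
    ModP p) - ((K * mult j χ η : ℕ) : ModP p)) (fun c => ?_) γ)
  have h1 := sum_reduce hp hS hf (fun y => modP p (iv χ (y * j c) * iv ψ y⁻¹)) (fun s y => by
    congr 2
    · apply Subtype.ext
      simp only [coe_iv]
      rw [show act s y * j c = act s (y * j c) by rw [map_mul, hf.fixed], hχ s]
    · apply Subtype.ext
      simp only [coe_iv]
      rw [← map_inv, hψ s])
  rw [← map_sum, sum_iv_conv] at h1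
  have h2 : (K : ModP p) * modP p (iv χ (j c)) =
      modP p (if χ = ψ then ((Nat.card G / charDegree (χ : G → ℂ) : ℕ) : AlgInt) * iv χ (j c)
        else 0) := by
    simp only [K]
    split_ifs <;> simp
  rw [← h2] at h1
  have h3 : ∀ y : C, modP p (iv χ (j y * j c) * iv ψ (j y)⁻¹) =
      ∑ η, ∑ η', (mult j χ η : ModP p) * mult j ψ η' * modP p (iv η (y * c) * iv η' y⁻¹) := by
    intro y
    rw [← map_mul, ← map_inv, map_mul (modP p), iv_res_eq_sum, iv_res_eq_sum, Finset.sum_mul_sum]
    exact Finset.sum_congr rfl fun η _ => Finset.sum_congr rfl fun η' _ => by rw [map_mul]; ring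
  rw [Finset.sum_congr rfl fun y _ => h3 y, Finset.sum_comm] at h1
  have h4 : ∀ η : IrrCharacter C, ∑ y : C, ∑ η', (mult j χ η : ModP p) * mult j ψ η' *
      modP p (iv η (y * c) * iv η' y⁻¹) =
      ((mult j χ η * mult j ψ η * k η : ℕ) : ModP p) * modP p (iv η c) := by
    intro η
    rw [Finset.sum_comm]
    simp only [← Finset.mul_sum, ← map_sum, sum_iv_conv, apply_ite (modP p), map_zero, mul_ite,
      mul_zero, Finset.sum_ite_eq, Finset.mem_univ, if_true]
    simp only [map_mul, map_natCast, Nat.cast_mul, k]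
    ring
  rw [Finset.sum_congr rfl fun η _ => h4 η, iv_res_eq_sum, Finset.mul_sum] at h1
  simp only [sub_mul, Finset.sum_sub_distrib]
  rw [sub_eq_zero, ← h1]
  exact Finset.sum_congr rfl fun η _ => by push_cast; ring

theorem cast_div_ne_zero {A : Type*} [Group A] [Finite A] (hA : ¬ p ∣ Nat.card A)
    (χ : IrrCharacter A) :
    ((Nat.card A / charDegree (χ : A → ℂ) : ℕ) : ZMod p) ≠ 0 := by
  rw [Ne, ZMod.natCast_eq_zero_iff]
  exact fun h => hA (h.trans (Nat.div_dvd_of_dvd (charDegree_irr_dvd_card χ)))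

theorem cast_degree_ne_zero {A : Type*} [Group A] [Finite A] (hA : ¬ p ∣ Nat.card A)
    (χ : IrrCharacter A) : (charDegree (χ : A → ℂ) : ZMod p) ≠ 0 := by
  rw [Ne, ZMod.natCast_eq_zero_iff]
  exact fun h => hA (h.trans (charDegree_irr_dvd_card χ))

/-- Different invariant characters share no constituent with multiplicity prime to `p`. -/
theorem mult_injective {χ ψ : IrrCharacter G} (hχ : Inv act χ) (hψ : Inv act ψ)
    {γ : IrrCharacter C} (h1 : ¬ p ∣ mult j χ γ) (h2 : ¬ p ∣ mult j ψ γ) : χ = ψ := by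
  classical
  haveI : Fact p.Prime := ⟨hp⟩
  by_contra hne
  have h := key_relation hp hS hf hpG hχ hψ γ
  rw [if_neg hne, mul_eq_zero, mul_eq_zero] at h
  rcases h with (h | h) | h
  · exact h1 ((ZMod.natCast_eq_zero_iff _ _).1 h)
  · exact h2 ((ZMod.natCast_eq_zero_iff _ _).1 h)
  · exact cast_div_ne_zero hp hS hf hpG (not_dvd_card_fixed hp hS hf hpG) γ h

/-- The multiplicity times the degree of `χ` is the degree of the constituent modulo `p`. -/
theorem mult_mul_degree {χ : IrrCharacter G} (hχ : Inv act χ) {γ : IrrCharacter C}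
    (h1 : ¬ p ∣ mult j χ γ) :
    (mult j χ γ : ZMod p) * charDegree (χ : G → ℂ) = charDegree (γ : C → ℂ) := by
  classical
  haveI : Fact p.Prime := ⟨hp⟩
  have hm : (mult j χ γ : ZMod p) ≠ 0 := fun h => h1 ((ZMod.natCast_eq_zero_iff _ _).1 h)
  have hpC := not_dvd_card_fixed hp hS hf hpG
  have h := key_relation hp hS hf hpG hχ hχ γ
  rw [if_pos rfl, mul_comm ((Nat.card G / _ : ℕ) : ZMod p), mul_assoc] at h
  have h2 := mul_left_cancel₀ hm h
  have hG : ((Nat.card G / charDegree (χ : G → ℂ) : ℕ) : ZMod p) * charDegree (χ : G → ℂ) =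
      Nat.card G := by
    rw [← Nat.cast_mul, Nat.div_mul_cancel (charDegree_irr_dvd_card χ)]
  have hC : ((Nat.card C / charDegree (γ : C → ℂ) : ℕ) : ZMod p) * charDegree (γ : C → ℂ) =
      Nat.card C := by
    rw [← Nat.cast_mul, Nat.div_mul_cancel (charDegree_irr_dvd_card γ)]
  rw [card_cast_eq hp hS hf, ← h2, ← hC] at hG
  refine mul_left_cancel₀ (cast_div_ne_zero hp hS hf hpG hpC γ) ?_
  linear_combination hG

/-- Some constituent has multiplicity prime to `p`. -/
theorem exists_not_dvd_mult (χ : IrrCharacter G) : ∃ γ : IrrCharacter C, ¬ p ∣ mult j χ γ := by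
  by_contra h
  push Not at h
  haveI : Fact p.Prime := ⟨hp⟩
  have h1 : charDegree (χ : G → ℂ) =
      ∑ η : IrrCharacter C, mult j χ η * charDegree (η : C → ℂ) := by
    have := irr_res_one χ j
    simp only [mult_spec, irr_one_eq_charDegree] at this
    exact_mod_cast this
  refine hpG (dvd_trans ?_ (charDegree_irr_dvd_card χ))
  rw [h1]
  exact Finset.dvd_sum fun η _ => Dvd.dvd.mul_right (h η) _

/-- The class function on `G` attached to a character of the fixed points. -/
theorem exists_invariant_extension (γ : IrrCharacter C) :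
    ∃ f : G → AlgInt, (∀ a b, f (b * a * b⁻¹) = f a) ∧ (∀ s x, f (act s x) = f x) ∧
      ∀ c, f (j c) = iv γ c := by
  classical
  refine ⟨fun x => if h : ∃ c, IsConj x (j c) then iv γ h.choose else 0, ?_, ?_, ?_⟩
  rotate_left 2
  · intro c
    have h : ∃ d, IsConj (j c) (j d) := ⟨c, IsConj.refl _⟩
    simp only [dif_pos h]
    apply Subtype.ext
    exact classFunction_eq_of_isConj (irr_isClassFunction γ)
      (isConj_of_isConj_map hp hS hf hpG h.choose_spec).symm
  · intro a b
    have hab : IsConj a (b * a * b⁻¹) := isConj_iff.2 ⟨b, rfl⟩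
    by_cases h : ∃ c, IsConj a (j c)
    · have h' : ∃ c, IsConj (b * a * b⁻¹) (j c) := ⟨h.choose, hab.symm.trans h.choose_spec⟩
      simp only [dif_pos h, dif_pos h']
      apply Subtype.ext
      exact classFunction_eq_of_isConj (irr_isClassFunction γ) (isConj_of_isConj_map hp hS hf hpG
        ((hab.trans h'.choose_spec).symm.trans h.choose_spec))
    · have h' : ¬ ∃ c, IsConj (b * a * b⁻¹) (j c) := fun ⟨c, hc⟩ => h ⟨c, hab.trans hc⟩
      simp only [dif_neg h, dif_neg h']
  · intro s x
    by_cases h : ∃ c, IsConj x (j c)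
    · have hx : IsConj (act s x) (j h.choose) := by
        have := (act s).toMonoidHom.map_isConj h.choose_spec
        simpa [hf.fixed] using this
      have h' : ∃ c, IsConj (act s x) (j c) := ⟨_, hx⟩
      simp only [dif_pos h, dif_pos h']
      apply Subtype.ext
      exact classFunction_eq_of_isConj (irr_isClassFunction γ) (isConj_of_isConj_map hp hS hf hpG
        (h'.choose_spec.symm.trans hx))
    · have h' : ¬ ∃ c, IsConj (act s x) (j c) := fun ⟨c, hc⟩ => h ⟨c, by
        have := ((act s).symm : G ≃* G).toMonoidHom.map_isConj hc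
        have e : (act s).symm (j c) = j c := (act s).symm_apply_eq.2 (hf.fixed s c).symm
        simpa [e] using this⟩
      simp only [dif_neg h, dif_neg h']

/-- For each `γ` a single invariant `χ` has a non-zero reduced coefficient in its expansion. -/
theorem exists_invariant_isolating (γ : IrrCharacter C) :
    ∃ χ : IrrCharacter G, Inv act χ ∧ ¬ p ∣ mult j χ γ ∧
      ∀ η, ¬ p ∣ mult j χ η → η = γ := by
  classical
  haveI : Fact p.Prime := ⟨hp⟩
  have hpC := not_dvd_card_fixed hp hS hf hpG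
  obtain ⟨f, hf1, hf2, hf3⟩ := exists_invariant_extension hp hS hf hpG γ
  let A : IrrCharacter G → AlgInt := fun χ => ∑ x : G, f x * iv χ x⁻¹
  have hexp : ∀ x : G, (Nat.card G : AlgInt) * f x = ∑ χ, A χ * iv χ x := by
    intro x
    apply Subtype.ext
    have hcf : IsClassFunction G (fun x => (f x : ℂ)) := fun a b => by simp only [hf1]
    have h := congrFun (classFunction_eq_sum hcf) x
    simp only [Finset.sum_apply, Pi.smul_apply, smul_eq_mul, classInner, mul_assoc,
      ← Finset.mul_sum] at h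
    simp only [MulMemClass.coe_mul, AddSubmonoidClass.coe_finsetSum, A, coe_iv, irr_apply_inv]
    rw [h, ← mul_assoc]
    have hG : (Nat.card G : ℂ) ≠ 0 := by simp
    simp [hG]
  letI : MulAction S (IrrCharacter G) :=
    { smul := fun s χ => twistIrr (act s⁻¹) χ
      one_smul := fun χ => Subtype.ext (funext fun g => by
        change (χ : G → ℂ) (act (1 : S)⁻¹ g) = (χ : G → ℂ) g; simp)
      mul_smul := fun s t χ => Subtype.ext (funext fun g => by
        change (χ : G → ℂ) (act (s * t)⁻¹ g) = (χ : G → ℂ) (act t⁻¹ (act s⁻¹ g)); simp) }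
  have hfix : ∀ χ : IrrCharacter G, χ ∈ MulAction.fixedPoints S (IrrCharacter G) ↔ Inv act χ := by
    intro χ
    constructor
    · intro h s g
      have := congrFun (congrArg Subtype.val (h s⁻¹)) g
      change (χ : G → ℂ) (act s⁻¹⁻¹ g) = (χ : G → ℂ) g at this
      simpa using this
    · intro h s
      exact Subtype.ext (funext fun g => h s⁻¹ g)
  let F := Finset.univ.filter fun χ : IrrCharacter G => χ ∈ MulAction.fixedPoints S (IrrCharacter G)
  have hred : ∀ c : C, (Nat.card G : ModP p) * modP p (iv γ c) =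
      ∑ χ ∈ F, modP p (A χ) * modP p (iv χ (j c)) := by
    intro c
    rw [← map_natCast (modP p), ← map_mul, ← hf3, hexp, map_sum]
    simp only [map_mul]
    refine CfsgLib.BlockAlg.sum_eq_sum_fixed (p_nsmul_eq_zero p) hS _ fun s χ => ?_
    have hA : A (s • χ) = A χ := by
      simp only [A]
      refine Fintype.sum_equiv (act s⁻¹).toEquiv _ _ fun x => ?_
      change f x * iv (twistIrr (act s⁻¹) χ) x⁻¹ = f (act s⁻¹ x) * iv χ (act s⁻¹ x)⁻¹
      rw [hf2]
      congr 1
      apply Subtype.ext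
      simp [map_inv]
    have hiv : iv (s • χ) (j c) = iv χ (j c) := by
      apply Subtype.ext
      change (χ : G → ℂ) (act s⁻¹ (j c)) = (χ : G → ℂ) (j c)
      rw [hf.fixed]
    rw [hA, hiv]
  have hco : ∀ η, (if η = γ then (Nat.card G : ModP p) else 0) -
      ∑ χ ∈ F, modP p (A χ) * (mult j χ η : ModP p) = 0 := by
    intro η
    refine coeff_eq_zero hp hpC (fun η => (if η = γ then (Nat.card G : ModP p) else 0) -
      ∑ χ ∈ F, modP p (A χ) * (mult j χ η : ModP p)) (fun c => ?_) η
    have h := hred c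
    simp only [iv_res_eq_sum, Finset.mul_sum] at h
    rw [Finset.sum_comm] at h
    simp only [sub_mul, Finset.sum_sub_distrib, ite_mul, zero_mul, Finset.sum_ite_eq',
      Finset.mem_univ, if_true, Finset.sum_mul, mul_assoc]
    rw [h, sub_self]
  obtain ⟨χ, hχF, hχ⟩ : ∃ χ ∈ F, modP p (A χ) * (mult j χ γ : ModP p) ≠ 0 := by
    by_contra h
    push Not at h
    have h2 := hco γ
    rw [if_pos rfl, Finset.sum_eq_zero h, sub_zero, natCast_modP_eq_zero_iff hp] at h2
    exact hpG h2
  have hinv : Inv act χ := (hfix χ).1 (Finset.mem_filter.1 hχF).2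
  have hm : ¬ p ∣ mult j χ γ := fun h => hχ (by
    rw [(natCast_modP_eq_zero_iff hp _).2 h, mul_zero])
  refine ⟨χ, hinv, hm, fun η hη => ?_⟩
  by_contra hne
  have h := hco η
  rw [if_neg hne, zero_sub, neg_eq_zero, Finset.sum_eq_single_of_mem χ hχF fun ψ hψ hψne => ?_] at h
  · exact hχ (by rw [(isUnit_natCast_modP hp hη).mul_left_eq_zero.1 h, zero_mul])
  · rw [(natCast_modP_eq_zero_iff hp (mult j ψ η)).2 (by_contra fun hc => hψne
      (mult_injective hp hS hf hpG ((hfix ψ).1 (Finset.mem_filter.1 hψ).2) hinv hc hη)), mul_zero]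

/-- The correspondence: exactly one constituent has multiplicity prime to `p`. -/
theorem existsUnique_mult {χ : IrrCharacter G} (hχ : Inv act χ) :
    ∃! γ : IrrCharacter C, ¬ p ∣ mult j χ γ := by
  obtain ⟨γ, hγ⟩ := exists_not_dvd_mult hp hS hf hpG χ
  refine ⟨γ, hγ, fun η hη => ?_⟩
  obtain ⟨ψ, hψ, hψγ, honly⟩ := exists_invariant_isolating hp hS hf hpG γ
  exact honly η (mult_injective hp hS hf hpG hψ hχ hψγ hγ ▸ hη)

theorem exists_mult (γ : IrrCharacter C) :
    ∃ χ : IrrCharacter G, Inv act χ ∧ ¬ p ∣ mult j χ γ :=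
  let ⟨χ, h1, h2, _⟩ := exists_invariant_isolating hp hS hf hpG γ
  ⟨χ, h1, h2⟩

/-- The multiplicity is a sign modulo `p`. -/
theorem mult_eq_one_or_neg_one {χ : IrrCharacter G} (hχ : Inv act χ) {γ : IrrCharacter C}
    (h1 : ¬ p ∣ mult j χ γ) :
    (mult j χ γ : ZMod p) = 1 ∨ (mult j χ γ : ZMod p) = -1 := by
  classical
  haveI : Fact p.Prime := ⟨hp⟩
  have h := mult_mul_degree hp hS hf hpG hχ h1
  have hdeg : (charDegree (χ : G → ℂ) : ZMod p) =
      (mult j χ γ : ZMod p) * charDegree (γ : C → ℂ) := by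
    have h0 : charDegree (χ : G → ℂ) =
        ∑ η : IrrCharacter C, mult j χ η * charDegree (η : C → ℂ) := by
      have := irr_res_one χ j
      simp only [mult_spec, irr_one_eq_charDegree] at this
      exact_mod_cast this
    rw [h0, Nat.cast_sum, Finset.sum_eq_single γ (fun η _ hη => ?_) (by simp), Nat.cast_mul]
    rw [Nat.cast_mul, (ZMod.natCast_eq_zero_iff _ _).2 (by_contra fun hc =>
      hη ((existsUnique_mult hp hS hf hpG hχ).unique hc h1)), zero_mul]
  rw [hdeg, ← mul_assoc] at h
  refine mul_self_eq_one_iff.1 ?_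
  exact mul_right_cancel₀ (cast_degree_ne_zero hp hS hf hpG (not_dvd_card_fixed hp hS hf hpG) γ)
    (h.trans (one_mul _).symm)

/-- Modulo `p` the restriction is a multiple of the corresponding character. -/
theorem iv_res_eq {χ : IrrCharacter G} (hχ : Inv act χ) {γ : IrrCharacter C}
    (h1 : ¬ p ∣ mult j χ γ) (c : C) :
    modP p (iv χ (j c)) = (mult j χ γ : ModP p) * modP p (iv γ c) := by
  classical
  rw [iv_res_eq_sum, Finset.sum_eq_single γ (fun η _ hη => ?_) (by simp)]
  rw [(natCast_modP_eq_zero_iff hp _).2 (by_contra fun hc =>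
    hη ((existsUnique_mult hp hS hf hpG hχ).unique hc h1)), zero_mul]

end Main

/-- Compatibility with an invariant subgroup `k : N →* G` with fixed points `i : D →* N`. -/
theorem classInner_ne_zero_of_corr {N D : Type*} [Group N] [Group D] [Fintype N] [Fintype D]
    (hp : p.Prime) (hS : IsPGroup p S) {act' : S →* MulAut N} {i : D →* N}
    (hf : IsFixedHom act j) (hf' : IsFixedHom act' i) (k : N →* G) (l : D →* C)
    (hcomm : ∀ d, k (i d) = j (l d)) (hk : ∀ s n, k (act' s n) = act s (k n))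
    (hpG : ¬ p ∣ Nat.card G) (hpN : ¬ p ∣ Nat.card N)
    {χ : IrrCharacter G} (hχ : Inv act χ) {γ : IrrCharacter C} (hγ : ¬ p ∣ mult j χ γ)
    {θ : IrrCharacter N} (hθ : Inv act' θ) {θ' : IrrCharacter D} (hθ' : ¬ p ∣ mult i θ θ')
    (hover : ¬ p ∣ mult l γ θ') : mult k χ θ ≠ 0 := by
  classical
  intro h0
  have h1 := mult_spec k χ θ
  rw [h0, Nat.cast_zero, classInner, mul_eq_zero, or_iff_right (by simp)] at h1
  have h2 : ∑ y : N, iv χ (k y) * iv θ y⁻¹ = 0 := by
    apply Subtype.ext
    simpa [AddSubmonoidClass.coe_finsetSum, irr_apply_inv] using h1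
  have h3 := sum_reduce hp hS hf' (fun y => modP p (iv χ (k y) * iv θ y⁻¹)) (fun s y => by
    congr 2
    · apply Subtype.ext
      simp only [coe_iv, hk, hχ s]
    · apply Subtype.ext
      simp only [coe_iv]
      rw [← map_inv, hθ s])
  rw [← map_sum, h2, map_zero] at h3
  have h4 : ∀ d : D, modP p (iv χ (k (i d)) * iv θ (i d)⁻¹) =
      (mult j χ γ : ModP p) * mult i θ θ' * modP p (iv γ (l d) * iv θ' d⁻¹) := by
    intro d
    rw [hcomm, ← map_inv, map_mul (modP p), iv_res_eq hp hS hf hpG hχ hγ,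
      iv_res_eq hp hS hf' hpN hθ hθ', map_mul]
    ring
  rw [Finset.sum_congr rfl fun d _ => h4 d, ← Finset.mul_sum, ← map_sum] at h3
  have h5 : ∑ d : D, iv γ (l d) * iv θ' d⁻¹ = ((Nat.card D * mult l γ θ' : ℕ) : AlgInt) := by
    apply Subtype.ext
    have h6 := mult_spec l γ θ'
    have hD : (Nat.card D : ℂ) ≠ 0 := by simp
    rw [classInner, inv_mul_eq_iff_eq_mul₀ hD] at h6
    simp only [AddSubmonoidClass.coe_finsetSum, MulMemClass.coe_mul, coe_iv, irr_apply_inv]
    simpa using h6
  rw [h5, map_natCast, ← Nat.cast_mul, ← Nat.cast_mul, eq_comm, natCast_modP_eq_zero_iff hp] at h3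
  rcases hp.dvd_mul.1 h3 with h | h
  · exact (hp.dvd_mul.1 h).elim hγ hθ'
  · exact (hp.dvd_mul.1 h).elim (not_dvd_card_fixed hp hS hf' hpN) hover

end CfsgLib.CharCorr
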